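import Cfsg.Agent.Classical.TensorPow.Slot

/-! An invariant algebra of endomorphisms with a non-scalar contains the endomorphisms of a slot. -/

set_option autoImplicit false
set_option linter.unusedSectionVars false
set_option linter.unusedSimpArgs false

namespace Cfsg.Lib.Classical.TensorPow

open Matrix Finset
open Cfsg.Lib.Classical.TensorQ (Alt rk transv rk_apply transv_apply scalar_of_eigen)

universe u

variable {κ γ : Type} [Fintype κ] [DecidableEq κ] [Fintype γ] [DecidableEq γ] {F : Type u} [Field F]
  {ω : LinearMap.BilinForm F (γ → F)}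

/-- An endomorphism which is the identity on every slot up to the others is scalar. -/
theorem scalar_of_slots [Nonempty γ] (hA : Alt ω) {A : EndP κ γ F}
    (h : ∀ i, ∃ C : EndP (Rest i) γ F, A = tens i C LinearMap.id) : ∃ c : F, A = c • LinearMap.id := by
  choose C hC using h
  set e₀ : γ → F := Pi.single (Classical.arbitrary γ) 1
  set x₀ : κ → γ → F := fun _ => e₀
  obtain ⟨c, hc⟩ := eq_pt_of_mem (y := x₀) (fun _ => by simp [x₀, e₀]) (v := A (pt x₀)) fun i => by
    rw [pt_eq_pair i x₀]
    conv => arg 2; rw [hC i, tens_pair]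
    exact pair_mem_lay _ _ _
  refine ⟨c, ?_⟩
  let K : Submodule F ((κ → γ) → F) := LinearMap.ker (A - c • LinearMap.id)
  have hK : K = ⊤ := by
    refine inv_top hA K (fun l d t v hv => ?_) (v := pt x₀) ?_ (pt_ne_zero fun _ => by simp [x₀, e₀])
    · have hv' : A v = c • v := sub_eq_zero.mp hv
      have hcomm : A.comp (slotOp l (transv ω d t)) = (slotOp l (transv ω d t)).comp A := by
        rw [hC l, ← tens_id, tens_comp, tens_comp]
        rfl
      refine sub_eq_zero.mpr ?_
      show A (slotOp l (transv ω d t) v) = c • slotOp l (transv ω d t) v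
      rw [← LinearMap.comp_apply, hcomm, LinearMap.comp_apply, hv', map_smul]
    · exact sub_eq_zero.mpr hc
  exact sub_eq_zero.mp (LinearMap.ker_eq_top.mp hK)

/-- The closure properties of a set of endomorphisms. -/
structure LS (ω : LinearMap.BilinForm F (γ → F)) (S : Submodule F (EndP κ γ F)) : Prop where
  conj : ∀ l d t, ∀ A ∈ S, cj ω l d t A ∈ S
  prod : ∀ A ∈ S, ∀ A' ∈ S, A.comp A' ∈ S

variable {S : Submodule F (EndP κ γ F)}

theorem tens_conj_slot (hA : Alt ω) (i : κ) (e : γ → F) (t : F) (C : EndP (Rest i) γ F) (d : γ → F) :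
    cj ω i e t (tens i C (rk ω d d)) = tens i C (rk ω (transv ω e t d) (transv ω e t d)) := by
  refine ext_pair i fun u w => ?_
  simp only [cj, LinearMap.comp_apply, slotOp_pair, tens_pair]
  congr 1
  simp only [rk_apply, transv_apply, map_add, map_smul, LinearMap.add_apply, LinearMap.smul_apply, smul_eq_mul,
    hA.self, hA.skew d e]
  module

theorem tens_all (hA : Alt ω) (hS : ∀ l d t, ∀ A ∈ S, cj ω l d t A ∈ S) {i : κ} {C : EndP (Rest i) γ F} {d : γ → F}
    (hd : d ≠ 0) (h : tens i C (rk ω d d) ∈ S) (g : γ → F) : tens i C (rk ω g g) ∈ S := by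
  by_cases hg : g = 0
  · rw [hg, show rk ω (0 : γ → F) 0 = 0 from LinearMap.ext fun x => by simp [rk_apply]]
    exact (S.comap (tensR i C)).zero_mem
  refine hA.transitive (P := fun v => tens i C (rk ω v v) ∈ S) (fun e t x hx => ?_) hd hg h
  have := hS i e t _ hx
  rwa [tens_conj_slot hA, transv_apply] at this

theorem tens_cj {l i : κ} (h : l ≠ i) (d : γ → F) (t : F) (C : EndP (Rest i) γ F) (D : (γ → F) →ₗ[F] (γ → F)) :
    cj ω l d t (tens i C D) = tens i (cj ω (⟨l, h⟩ : Rest i) d t C) D := by
  rw [cj, slotOp_ne_eq h, slotOp_ne_eq h, tens_comp, tens_comp]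
  rfl

/-- The coefficients of an algebra at the slot `i`. -/
theorem exists_coef (hA : Alt ω) (h4 : 4 ≤ Fintype.card γ) (hS : LS ω S) (i : κ) :
    (∃ C, C ≠ 0 ∧ ∀ d, tens i C (rk ω d d) ∈ S) ∨ ∀ A ∈ S, ∃ C, A = tens i C LinearMap.id := by
  haveI : Nonempty γ := Fintype.card_pos_iff.mp (by omega)
  by_cases hex : ∃ C, C ≠ 0 ∧ ∀ d, tens i C (rk ω d d) ∈ S
  · exact Or.inl hex
  push Not at hex
  right
  have hnone : ∀ C d, d ≠ 0 → tens i C (rk ω d d) ∈ S → C = 0 := by
    intro C d hd h
    by_contra hC
    obtain ⟨g, hg⟩ := hex C hC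
    exact hg (tens_all hA hS.conj hd h g)
  -- the vanishing of the coefficients at orthogonal pairs
  have hvan : ∀ d g, ω d g = 0 → (∀ c : F, g ≠ c • d) → d ≠ 0 → ∀ A ∈ S, al ω i A d g = 0 := by
    intro d g hdg hgd hd
    obtain ⟨k, hdk, hgk⟩ : ∃ k, ω d k = 0 ∧ ω g k = 1 := by
      obtain ⟨k, hk, hk'⟩ : ∃ k, ω d k = 0 ∧ ω g k ≠ 0 := by
        by_contra hc
        push Not at hc
        obtain ⟨c, hc⟩ := hA.mem_line hd hc
        exact hgd c hc
      exact ⟨(ω g k)⁻¹ • k, by rw [map_smul, hk, smul_zero], by rw [map_smul, smul_eq_mul, inv_mul_cancel₀ hk']⟩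
    have hgd0 : ω g d = 0 := hA.swap hdg
    have hkd0 : ω k d = 0 := hA.swap hdk
    have hkg : ω k g = -1 := by rw [hA.skew g k, hgk]
    let M : EndP κ γ F → (γ → F) → EndP κ γ F := fun A y =>
      tens i (al ω i A d g) (rk ω d y) + tens i (al ω i A g d) (rk ω y d)
    have hM : ∀ A ∈ S, M A g ∈ S := by
      intro A hAS
      have hL : cj ω i d 1 A - A ∈ S := S.sub_mem (hS.conj i d 1 A hAS) hAS
      have := S.neg_mem (S.sub_mem (hS.conj i g 1 _ hL) hL)
      rw [show -(cj ω i g 1 (cj ω i d 1 A - A) - (cj ω i d 1 A - A)) = M A g from ext_pair i fun u z => by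
        simp only [M, cj_eq, LinearMap.neg_apply, LinearMap.sub_apply, LinearMap.add_apply, LinearMap.smul_apply,
          LinearMap.comp_apply, slot_rk, tens_pair, rk_apply, cwj_pair, map_sub, map_add, map_smul, pair_smul_left,
          pair_smul_right, al_apply, hdg, hgd0, hA.self, zero_smul, smul_zero, one_smul, one_mul,
          pair_zero_left, pair_zero_right, pair_neg_left, pair_neg_right, map_zero, LinearMap.zero_apply]
        module] at this
      exact this
    have hMk : ∀ A ∈ S, ∀ k', ω d k' = 0 → ω g k' = 1 → M A k' ∈ S := by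
      intro A hAS k' hdk' hgk'
      have := S.sub_mem (hS.conj i k' 1 _ (hM A hAS)) (hM A hAS)
      rw [show cj ω i k' 1 (M A g) - M A g = M A k' from ext_pair i fun u z => by
        simp only [M, cj_eq, LinearMap.sub_apply, LinearMap.add_apply, LinearMap.smul_apply, LinearMap.comp_apply,
          slot_rk, tens_pair, rk_apply, cwj_pair, map_sub, map_add, map_smul, pair_smul_left, pair_smul_right,
          hdk', hgk', hA.swap hdk', hA.skew g k', hA.self, zero_smul, smul_zero, one_smul, one_mul,
          pair_zero_left, pair_zero_right, pair_neg_left, pair_neg_right, map_zero, LinearMap.zero_apply]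
        module] at this
      exact this
    have hsum : ∀ A ∈ S, al ω i A d g + al ω i A g d = 0 := by
      intro A hAS
      refine hnone _ d hd ?_
      have := S.sub_mem (hMk A hAS (k + d) (by rw [map_add, hdk, hA.self, add_zero]) (by rw [map_add, hgk, hgd0,
        add_zero])) (hMk A hAS k hdk hgk)
      rw [show M A (k + d) - M A k = tens i (al ω i A d g + al ω i A g d) (rk ω d d) from ext_pair i fun u z => by
        simp only [M, LinearMap.sub_apply, LinearMap.add_apply, tens_pair, rk_apply, map_add, LinearMap.add_apply,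
          pair_add_left, pair_add_right, pair_smul_right]
        module] at this
      exact this
    have hprod : ∀ A ∈ S, ∀ A' ∈ S, (al ω i A g d).comp (al ω i A' d g) = 0 := by
      intro A hAS A' hAS'
      refine hnone _ d hd ?_
      have := S.neg_mem (hS.prod _ (hM A hAS) _ (hMk A' hAS' k hdk hgk))
      rw [show -((M A g).comp (M A' k)) = tens i ((al ω i A g d).comp (al ω i A' d g)) (rk ω d d) from
        ext_pair i fun u z => by
        simp only [M, LinearMap.neg_apply, LinearMap.comp_apply, LinearMap.add_apply, tens_pair, rk_apply, map_add,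
          map_smul, pair_smul_right, hA.self, hkd0, hkg, hdg, zero_smul, smul_zero, neg_smul, one_smul,
          pair_zero_left, pair_zero_right, pair_neg_left, pair_neg_right, map_zero, LinearMap.zero_apply]
        module] at this
      exact this
    intro A hAS
    by_contra hne
    let K : Submodule F ((Rest i → γ) → F) :=
      { carrier := {v | ∀ B ∈ S, al ω i B g d v = 0}
        zero_mem' := fun B _ => map_zero _
        add_mem' := fun {a b} ha hb B hB => by rw [map_add, ha B hB, hb B hB, add_zero]
        smul_mem' := fun c a ha B hB => by rw [map_smul, ha B hB, smul_zero] }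
    obtain ⟨u, hu⟩ : ∃ u, al ω i A d g u ≠ 0 := by
      by_contra hc
      push Not at hc
      exact hne (LinearMap.ext hc)
    have hK : K = ⊤ := by
      refine inv_top hA K (fun l d' t v hv B hB => ?_) (v := al ω i A d g u)
        (fun B hB => DFunLike.congr_fun (hprod B hB A hAS) u) hu
      have h1 := hv _ (hS.conj (l : κ) d' (-t) B hB)
      rw [al_cj l.2 hA, cj, LinearMap.comp_apply, LinearMap.comp_apply, neg_neg] at h1
      have h2 := congrArg (slotOp (⟨(l : κ), l.2⟩ : Rest i) (transv ω d' t)) h1
      rw [← LinearMap.comp_apply (f := slotOp (⟨(l : κ), l.2⟩ : Rest i) (transv ω d' t)), slotOp_comp,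
        transv_comp_neg hA, slotOp_id, LinearMap.id_apply, map_zero] at h2
      exact h2
    refine hne ?_
    have := hsum A hAS
    rw [show al ω i A g d = 0 from LinearMap.ext fun v => (hK ▸ Submodule.mem_top : v ∈ K) A hAS, add_zero] at this
    exact this
  intro A hAS
  obtain ⟨p⟩ : Nonempty γ := inferInstance
  have heig : ∀ u b, ∃ c : F, ∀ w q, A (pair i u w) (ext i b q) = c * w q := by
    intro u b
    obtain ⟨c, hc⟩ := scalar_of_eigen
      ((LinearMap.pi fun q => LinearMap.proj (ext i b q)).comp (A.comp (pairR i u))) fun d hd => by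
      obtain ⟨f, hf⟩ := hA.exists_one hd
      have hzero : ∀ g, ω d g = 0 → cwj ω i g (A (pair i u d)) = 0 := by
        intro g hg
        by_cases hgd : ∀ c : F, g ≠ c • d
        · exact DFunLike.congr_fun (hvan d g hg hgd hd A hAS) u
        push Not at hgd
        obtain ⟨c, rfl⟩ := hgd
        obtain ⟨x, y, hx, hy, hxy⟩ := hA.exists_pair_perp ![d] (by omega)
        have hxd : ∀ a : F, x ≠ a • d := fun a ha => one_ne_zero (hxy.symm.trans (by
          rw [ha, map_smul, LinearMap.smul_apply, show ω d y = 0 from hy 0, smul_zero]))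
        have h1 := DFunLike.congr_fun (hvan d (x + c • d) (by rw [map_add, map_smul, show ω d x = 0 from hx 0, hA.self,
          smul_zero, add_zero]) (fun a ha => hxd (a - c) (by rw [sub_smul, ← ha, add_sub_cancel_right])) hd A hAS) u
        have h2 := DFunLike.congr_fun (hvan d x (hx 0) hxd hd A hAS) u
        rw [al_apply] at h1 h2
        rw [cwj_add, h2] at h1
        simpa using h1
      set c := -cwj ω i f (A (pair i u d)) with hcdef
      have hline : A (pair i u d) = pair i c d := ext_cwj hA (j := i) fun z => by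
        have h1 := hzero (z + ω d z • f) (by
          rw [map_add, map_smul, hA.skew f d, hf, smul_eq_mul, mul_neg, mul_one, add_neg_cancel])
        rw [cwj_add, cwj_smul] at h1
        rw [cwj_pair, hcdef, smul_neg, eq_neg_iff_add_eq_zero]
        exact h1
      refine ⟨c b, funext fun q => ?_⟩
      show A (pair i u d) (ext i b q) = c b * d q
      rw [hline, pair_ext]
    exact ⟨c, fun w q => congrFun (DFunLike.congr_fun hc w) q⟩
  refine ⟨(LinearMap.pi fun b => LinearMap.proj (ext i b p)).comp (A.comp (pairL i (Pi.single p 1))),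
    ext_pair i fun u w => funext fun a => ?_⟩
  obtain ⟨c, hc⟩ := heig u (fun l => a l)
  have h1 := hc w (a i)
  rw [show ext i (fun l : Rest i => a l) (a i) = a from funext fun l => by
    by_cases hl : l = i
    · subst hl; exact ext_self _ _ _
    · exact dif_neg hl] at h1
  rw [h1, tens_pair, pair_apply]
  show c * w (a i) = A (pair i u (Pi.single p 1)) (ext i (fun l : Rest i => a l) p) * w (a i)
  rw [hc, Pi.single_eq_same, mul_one]

/-- The coefficients of the endomorphisms of the slot `i`. -/
def coefSub (ω : LinearMap.BilinForm F (γ → F)) (S : Submodule F (EndP κ γ F)) (i : κ) :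
    Submodule F (EndP (Rest i) γ F) where
  carrier := {C | ∀ p q, tens i C (rk ω p q) ∈ S}
  zero_mem' p q := (S.comap (tensL i (rk ω p q))).zero_mem
  add_mem' h h' p q := (S.comap (tensL i (rk ω p q))).add_mem (h p q) (h' p q)
  smul_mem' c _ h p q := (S.comap (tensL i (rk ω p q))).smul_mem c (h p q)

theorem LS.coef (hA : Alt ω) (hS : LS ω S) (i : κ) : LS ω (coefSub ω S i) := by
  refine ⟨fun l d t C h p q => ?_, fun C h C' h' p q => ?_⟩
  · have := hS.conj (l : κ) d t _ (h p q)
    rwa [tens_cj l.2] at this
  · rcases isEmpty_or_nonempty γ with hγ | hγ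
    · rw [show tens i (C.comp C') (rk ω p q) = 0 from LinearMap.ext fun v => funext fun a => isEmptyElim (a i)]
      exact S.zero_mem
    obtain ⟨p₀⟩ := hγ
    obtain ⟨b, hb⟩ := hA.exists_one (show (Pi.single p₀ (1 : F) : γ → F) ≠ 0 by simp)
    have := hS.prod _ (h (Pi.single p₀ 1) q) _ (h' p b)
    rwa [tens_comp, show (rk ω (Pi.single p₀ 1) q).comp (rk ω p b) = rk ω p q from LinearMap.ext fun x => by
      simp [rk_apply, hb]] at this

/-- An invariant algebra with a non-scalar contains all endomorphisms of some slot. -/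
theorem exists_slot (hA : Alt ω) (h4 : 4 ≤ Fintype.card γ) (hS : LS ω S) {A : EndP κ γ F} (hAS : A ∈ S)
    (hns : ∀ c : F, A ≠ c • LinearMap.id) : ∃ l, ∀ D, slotOp l D ∈ S := by
  classical
  haveI : Nonempty γ := Fintype.card_pos_iff.mp (by omega)
  suffices key : ∀ (n : ℕ) (κ' : Type) [Fintype κ'] [DecidableEq κ'], Fintype.card κ' = n →
      ∀ (S' : Submodule F (EndP κ' γ F)), LS ω S' → ∀ A' ∈ S', (∀ c : F, A' ≠ c • LinearMap.id) →
      ∃ l, ∀ D, slotOp l D ∈ S' from key _ κ rfl S hS A hAS hns
  intro n
  induction n using Nat.strong_induction_on with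
  | _ n ih =>
    intro κ' _ _ hn S' hS' A' hA' hns'
    obtain ⟨i, hi⟩ : ∃ i, ¬∃ C, A' = tens i C (LinearMap.id : (γ → F) →ₗ[F] (γ → F)) := by
      by_contra hc
      push Not at hc
      obtain ⟨c, hc⟩ := scalar_of_slots hA hc
      exact hns' c hc
    obtain ⟨C, hC0, hC⟩ := (exists_coef hA h4 hS' i).resolve_right fun h => hi (h A' hA')
    -- the coefficients of the squares are a non-zero algebra
    let J : Submodule F (EndP (Rest i) γ F) := coefSub ω S' i
    have hJ : LS ω J := hS'.coef hA i
    have hJmem : ∀ C₁ C₂ : EndP (Rest i) γ F, (∀ d, tens i C₁ (rk ω d d) ∈ S') → (∀ d, tens i C₂ (rk ω d d) ∈ S') →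
        C₁.comp C₂ ∈ J := fun C₁ C₂ h₁ h₂ p q => by
      let P : Submodule F ((γ → F) →ₗ[F] (γ → F)) := S'.comap (tensR i (C₁.comp C₂))
      refine rk_mem hA (P := P) (fun p q hpq => ?_) p q
      show tens i (C₁.comp C₂) (rk ω p q) ∈ S'
      have := S'.smul_mem (ω p q)⁻¹ (hS'.prod _ (h₁ q) _ (h₂ p))
      rwa [tens_comp, rk_sq_comp, show tens i (C₁.comp C₂) (ω p q • rk ω p q) =
        ω p q • tens i (C₁.comp C₂) (rk ω p q) from (tensR i _).map_smul _ _, smul_smul, inv_mul_cancel₀ hpq,
        one_smul] at this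
    obtain ⟨E, hE, hE0⟩ : ∃ E ∈ J, E ≠ 0 := by
      by_contra hc
      push Not at hc
      let K : Submodule F ((Rest i → γ) → F) :=
        { carrier := {v | ∀ C₁ : EndP (Rest i) γ F, (∀ d, tens i C₁ (rk ω d d) ∈ S') → C₁ v = 0}
          zero_mem' := fun C₁ _ => map_zero _
          add_mem' := fun {a b} ha hb C₁ h => by rw [map_add, ha C₁ h, hb C₁ h, add_zero]
          smul_mem' := fun c a ha C₁ h => by rw [map_smul, ha C₁ h, smul_zero] }
      obtain ⟨u, hu⟩ : ∃ u, C u ≠ 0 := by
        by_contra hc'
        push Not at hc'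
        exact hC0 (LinearMap.ext hc')
      have hK : K = ⊤ := by
        refine inv_top hA K (fun l d' t v hv C₁ h₁ => ?_) (v := C u)
          (fun C₁ h₁ => DFunLike.congr_fun (hc _ (hJmem C₁ C h₁ hC)) u) hu
        have h1 := hv (cj ω l d' (-t) C₁) fun d => by
          have := hS'.conj (l : κ') d' (-t) _ (h₁ d)
          rwa [tens_cj l.2] at this
        simp only [cj, LinearMap.comp_apply, neg_neg] at h1
        have h2 := congrArg (slotOp l (transv ω d' t)) h1
        rwa [← LinearMap.comp_apply (f := slotOp l (transv ω d' t)), slotOp_comp, transv_comp_neg hA, slotOp_id,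
          LinearMap.id_apply, map_zero] at h2
      exact hu ((hK ▸ Submodule.mem_top : u ∈ K) C hC)
    by_cases hsc : ∃ c : F, E = c • LinearMap.id
    · obtain ⟨c, rfl⟩ := hsc
      have hc : c ≠ 0 := fun h => hE0 (by rw [h, zero_smul])
      refine ⟨i, fun D => mem_of_rk hA (P := S'.comap (slotOpₗ i)) (fun p q => ?_) D⟩
      show slotOp i (rk ω p q) ∈ S'
      have := S'.smul_mem c⁻¹ (hE p q)
      rwa [show tens i (c • LinearMap.id) (rk ω p q) = c • tens i LinearMap.id (rk ω p q) from
        (tensL i _).map_smul _ _, smul_smul, inv_mul_cancel₀ hc, one_smul, tens_id] at this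
    push Not at hsc
    obtain ⟨m, hm⟩ := ih (Fintype.card (Rest i)) (by
      rw [Fintype.card_subtype_compl, Fintype.card_subtype_eq, hn]
      have := Fintype.card_pos_iff.mpr (⟨i⟩ : Nonempty κ')
      omega) (Rest i) rfl J hJ E hE hsc
    refine ⟨(m : κ'), fun D => ?_⟩
    rw [slotOp_ne_eq m.2]
    exact mem_of_rk hA (P := S'.comap (tensR i (slotOp m D))) (fun p q => hm D p q) LinearMap.id

/-- A submodule closed under products with all slot endomorphisms is everything. -/
theorem eq_top_of_slots [Nonempty κ] (hA : Alt ω) (hprod : ∀ A ∈ S, ∀ A' ∈ S, A.comp A' ∈ S)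
    (h : ∀ l D, slotOp l D ∈ S) : S = ⊤ := by
  classical
  have hk : ∀ D : κ → (γ → F) →ₗ[F] (γ → F), kronOp D ∈ S := by
    intro D
    have key : ∀ s : Finset κ, kronOp (fun i => if i ∈ s then D i else LinearMap.id) ∈ S := by
      intro s
      induction s using Finset.induction with
      | empty =>
        have := h (Classical.arbitrary κ) LinearMap.id
        rw [slotOp_id] at this
        simpa [kronOp_id] using this
      | insert i s hi ih =>
        have := hprod _ (h i (D i)) _ ih
        rwa [show (slotOp i (D i)).comp (kronOp fun l => if l ∈ s then D l else LinearMap.id) =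
            kronOp fun l => if l ∈ insert i s then D l else LinearMap.id from ext_pt fun x => by
          rw [LinearMap.comp_apply, kronOp_pt, slotOp, kronOp_pt, kronOp_pt]
          congr 1
          funext l
          by_cases hl : l = i
          · subst hl; simp [hi]
          · simp [hl]] at this
    simpa using key univ
  obtain ⟨d, hd⟩ := exists_dual' hA
  rw [eq_top_iff]
  rintro A -
  rw [show A = ∑ b, ∑ a, A (Pi.single b 1) a • kronOp (fun i => rk ω (d (b i)) (Pi.single (a i) 1)) from ext_pt fun x => by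
    rw [LinearMap.sum_apply]
    conv_lhs => rw [pi_eq_sum_univ' (pt x), map_sum]
    refine Finset.sum_congr rfl fun b _ => ?_
    rw [map_smul, LinearMap.sum_apply]
    conv_lhs => rw [eq_sum_pt (A _), Finset.smul_sum]
    refine Finset.sum_congr rfl fun a _ => ?_
    rw [LinearMap.smul_apply, kronOp_pt, smul_smul, mul_comm, mul_smul]
    congr 1
    funext q
    simp [pt, rk_apply, hd, Finset.prod_mul_distrib]]
  exact Submodule.sum_mem _ fun b _ => Submodule.sum_mem _ fun a _ => S.smul_mem _ (hk _)

end Cfsg.Lib.Classical.TensorPow
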