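import Cfsg.Agent.Classical.TensorPow.Layers
import Cfsg.Agent.Classical.TensorQ.RankOne

/-! Operators acting slot by slot, and the rank of such operators. -/

set_option autoImplicit false
set_option linter.unusedSectionVars false
set_option linter.unusedSimpArgs false

namespace Cfsg.Lib.Classical.TensorPow

open Matrix Finset

universe u

variable {ι γ : Type} [Fintype ι] [DecidableEq ι] [Fintype γ] [DecidableEq γ] {F : Type u} [Field F]

/-- The tensor product of a family of maps. -/
def kronOp (a : ι → (γ → F) →ₗ[F] (γ → F)) : ((ι → γ) → F) →ₗ[F] ((ι → γ) → F) where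
  toFun v := ∑ b, v b • pt (fun i => a i (Pi.single (b i) 1))
  map_add' v w := by simp [add_smul, Finset.sum_add_distrib]
  map_smul' c v := by simp [Finset.smul_sum, smul_smul]

theorem kronOp_pt (a : ι → (γ → F) →ₗ[F] (γ → F)) (x : ι → γ → F) :
    kronOp a (pt x) = pt (fun i => a i (x i)) := by
  funext c
  show (∑ b, pt x b • pt (fun i => a i (Pi.single (b i) 1))) c = _
  rw [Finset.sum_apply]
  simp only [Pi.smul_apply, smul_eq_mul, pt, ← Finset.prod_mul_distrib]
  refine (Fintype.prod_sum fun i p => x i p * a i (Pi.single p 1) (c i)).symm.trans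
    (Finset.prod_congr rfl fun i _ => ?_)
  conv_rhs => rw [pi_eq_sum_univ' (x i), map_sum, Finset.sum_apply]
  exact Finset.sum_congr rfl fun p _ => by rw [map_smul, Pi.smul_apply, smul_eq_mul]

/-- The sum of a family of maps, each acting on its slot. -/
def sumOp (M : ι → (γ → F) →ₗ[F] (γ → F)) : ((ι → γ) → F) →ₗ[F] ((ι → γ) → F) :=
  ∑ l, kronOp (Function.update (fun _ => LinearMap.id) l (M l))

theorem sumOp_pt (M : ι → (γ → F) →ₗ[F] (γ → F)) (x : ι → γ → F) :
    sumOp M (pt x) = ∑ l, pt (Function.update x l (M l (x l))) := by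
  rw [sumOp, LinearMap.sum_apply]
  refine Finset.sum_congr rfl fun l _ => ?_
  rw [kronOp_pt]
  congr 1
  funext i
  by_cases hi : i = l
  · subst hi; simp
  · simp [hi]

/-- `u ⊗ w` as a bilinear map. -/
theorem ext_pair {M : Type*} [AddCommGroup M] [Module F M] (j : ι) {L L' : ((ι → γ) → F) →ₗ[F] M}
    (h : ∀ u w, L (pair j u w) = L' (pair j u w)) : L = L' :=
  ext_pt fun x => by rw [pt_eq_pair j x]; exact h _ _

theorem pair_left_ext {M : Type*} [AddCommGroup M] [Module F M] {j : ι} (w : γ → F)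
    {L : ((ι → γ) → F) →ₗ[F] M} {L' : ((Rest j → γ) → F) →ₗ[F] M}
    (h : ∀ x, L (pair j (pt x) w) = L' (pt x)) (u : (Rest j → γ) → F) : L (pair j u w) = L' u :=
  DFunLike.congr_fun (ext_pt (L := L.comp (pairL j w)) (L' := L') h) u

theorem kronOp_pair (a : ι → (γ → F) →ₗ[F] (γ → F)) (j : ι) (u : (Rest j → γ) → F) (w : γ → F) :
    kronOp a (pair j u w) = pair j (kronOp (fun i : Rest j => a i) u) (a j w) := by
  refine pair_left_ext (L := kronOp a) (L' := (pairL j (a j w)).comp (kronOp fun i : Rest j => a i)) w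
    (fun x => ?_) u
  set z : ι → γ → F := fun i => if h : i = j then w else x ⟨i, h⟩ with hz
  have hzj : z j = w := by simp [hz]
  have hzr : (fun i : Rest j => z i) = x := funext fun i => by simp [hz, i.2]
  rw [← hzr, ← hzj, ← pt_eq_pair, kronOp_pt, pt_eq_pair j, LinearMap.comp_apply, kronOp_pt]
  rfl

theorem sumOp_pair (M : ι → (γ → F) →ₗ[F] (γ → F)) (j : ι) (u : (Rest j → γ) → F) (w : γ → F) :
    sumOp M (pair j u w) = pair j (sumOp (fun i : Rest j => M i) u) w + pair j u (M j w) := by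
  refine pair_left_ext (L := sumOp M)
    (L' := (pairL j w).comp (sumOp fun i : Rest j => M i) + pairL j (M j w)) w (fun x => ?_) u
  set z : ι → γ → F := fun i => if h : i = j then w else x ⟨i, h⟩ with hz
  have hzj : z j = w := by simp [hz]
  have hzr : (fun i : Rest j => z i) = x := funext fun i => by simp [hz, i.2]
  rw [← hzr, ← hzj, ← pt_eq_pair, sumOp_pt, LinearMap.add_apply, LinearMap.comp_apply, sumOp_pt, map_sum,
    ← Finset.add_sum_erase univ _ (mem_univ j), add_comm, pt_update]
  congr 1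
  rw [Finset.sum_subtype (univ.erase j) (p := fun i => i ≠ j) (by simp)]
  refine Finset.sum_congr rfl fun l _ => ?_
  rw [pt_eq_pair j, Function.update_of_ne (Ne.symm l.2)]
  show pair j _ (z j) = pair j _ (z j)
  congr 2
  funext i
  by_cases hi : i = l
  · subst hi; simp
  · rw [Function.update_of_ne hi, Function.update_of_ne (fun h => hi (Subtype.ext h))]

/-- An operator acting on one slot only, with square zero and of the rank of a transvection, has its range in a layer. -/
theorem one_slot [Nonempty γ] {T : ((ι → γ) → F) →ₗ[F] ((ι → γ) → F)} {j : ι}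
    {A : (γ → F) →ₗ[F] (γ → F)} (hT : ∀ u w, T (pair j u w) = pair j u (A w))
    (hr : Module.finrank F (LinearMap.range T) = Fintype.card γ ^ (Fintype.card ι - 1)) :
    ∃ d : γ → F, d ≠ 0 ∧ LinearMap.range T = lay j d := by
  obtain ⟨w₀, hw₀⟩ : ∃ w, A w ≠ 0 := by
    by_contra hc
    push Not at hc
    have : T = 0 := ext_pair j fun u w => by
      rw [hT, hc, show pair j u 0 = 0 from map_zero (pairR j u)]; rfl
    rw [this, LinearMap.range_zero, finrank_bot] at hr
    exact absurd hr.symm (pow_ne_zero _ Fintype.card_ne_zero)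
  refine ⟨A w₀, hw₀, (Submodule.eq_of_le_of_finrank_eq ?_ ?_).symm⟩
  · rintro _ ⟨u, rfl⟩
    exact ⟨pair j u w₀, hT u w₀⟩
  · rw [hr, finrank_lay j hw₀]

/-- An operator moving two slots has larger rank than a transvection. -/
theorem two_strict (h3 : 3 ≤ Fintype.card γ) {T : ((ι → γ) → F) →ₗ[F] ((ι → γ) → F)} {j : ι}
    {A : (γ → F) →ₗ[F] (γ → F)} {h S : ((Rest j → γ) → F) →ₗ[F] ((Rest j → γ) → F)}
    (hT : ∀ u w, T (pair j u w) = pair j (h u) (A w) + pair j (S u) w) (hh : Function.Injective h)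
    (hA : A.comp A = 0) (hA0 : A ≠ 0) (hS : S ≠ 0) :
    Fintype.card γ ^ (Fintype.card ι - 1) < Module.finrank F (LinearMap.range T) := by
  obtain ⟨x₀, hx₀⟩ : ∃ x, A x ≠ 0 := by
    by_contra hc
    push Not at hc
    exact hA0 (LinearMap.ext hc)
  obtain ⟨y₁, hy₁⟩ : ∃ y, S y ≠ 0 := by
    by_contra hc
    push Not at hc
    exact hS (LinearMap.ext hc)
  have hAA : ∀ x, A (A x) = 0 := fun x => DFunLike.congr_fun hA x
  obtain ⟨u₂, hu₂, hu₂'⟩ : ∃ u₂, A u₂ = 0 ∧ u₂ ∉ Submodule.span F {A x₀} := by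
    by_contra hc
    push Not at hc
    have h1 := Submodule.finrank_mono (show LinearMap.ker A ≤ Submodule.span F {A x₀} from fun u hu => hc u hu)
    have h2 := Submodule.finrank_mono
      (show LinearMap.range A ≤ LinearMap.ker A by rintro _ ⟨x, rfl⟩; exact hAA x)
    have h3' := A.finrank_range_add_finrank_ker
    rw [finrank_span_singleton hx₀] at h1
    rw [Module.finrank_pi] at h3'
    omega
  have hx₀' : x₀ ∉ LinearMap.ker A := hx₀
  obtain ⟨φ, hφ, hφx⟩ := Submodule.exists_dual_map_eq_bot_of_notMem hx₀' inferInstance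
  have hφk : ∀ u, A u = 0 → φ u = 0 := fun u hu =>
    (Submodule.eq_bot_iff _).mp hφx _ ⟨u, hu, rfl⟩
  obtain ⟨χ₀, hχ₀, hχ₀'⟩ := Submodule.exists_dual_map_eq_bot_of_notMem hu₂' inferInstance
  have hχu : χ₀ (A x₀) = 0 := (Submodule.eq_bot_iff _).mp hχ₀' _ ⟨_, Submodule.mem_span_singleton_self _, rfl⟩
  let cx : ((γ → F) →ₗ[F] F) → ((ι → γ) → F) →ₗ[F] ((Rest j → γ) → F) := fun θ =>
    LinearMap.pi fun b => θ.comp (LinearMap.pi fun p => LinearMap.proj (ext j b p))
  have hcx : ∀ θ u w, cx θ (pair j u w) = θ w • u := fun θ u w => funext fun b => by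
    show θ (fun p => pair j u w (ext j b p)) = _
    rw [show (fun p => pair j u w (ext j b p)) = u b • w from funext fun p => pair_ext j u w b p, map_smul,
      Pi.smul_apply, smul_eq_mul, smul_eq_mul, mul_comm]
  let Φ : (((Rest j → γ) → F) × F) →ₗ[F] ((ι → γ) → F) :=
    (T.comp (pairL j x₀)).coprod (LinearMap.id.smulRight (T (pair j y₁ u₂)))
  have hΦinj : Function.Injective Φ := by
    rw [← LinearMap.ker_eq_bot, LinearMap.ker_eq_bot']
    rintro ⟨y, s⟩ h0
    change T (pair j y x₀) + s • T (pair j y₁ u₂) = 0 at h0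
    rw [hT, hT, hu₂, show pair j (h y₁) 0 = 0 from map_zero (pairR j _), zero_add] at h0
    have hy : S y = 0 := by
      have := congrArg (cx φ) h0
      rw [map_add, map_add, map_smul, hcx, hcx, hcx, hφk _ (hAA _), hφk _ hu₂, map_zero] at this
      simpa [hφ] using this
    have hs : s = 0 := by
      have := congrArg (cx χ₀) h0
      rw [map_add, map_add, map_smul, hcx, hcx, hcx, hχu, hy, map_zero] at this
      simpa [hχ₀, hy₁] using this
    rw [hy, hs, zero_smul, add_zero, show pair j 0 x₀ = 0 from map_zero (pairL j _), add_zero] at h0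
    have : h y = 0 := pairL_injective j hx₀ (h0.trans (map_zero (pairL j (A x₀))).symm)
    exact Prod.ext (hh (this.trans (map_zero h).symm)) hs
  have h1 := Submodule.finrank_mono (show LinearMap.range Φ ≤ LinearMap.range T by
    rintro _ ⟨⟨y, s⟩, rfl⟩
    exact add_mem ⟨_, rfl⟩ (Submodule.smul_mem _ _ ⟨_, rfl⟩))
  rw [LinearMap.finrank_range_of_inj hΦinj, Module.finrank_prod, Module.finrank_self, Module.finrank_pi,
    Fintype.card_fun, Fintype.card_subtype_compl, Fintype.card_subtype_eq] at h1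
  omega

theorem scalar_of_sumOp_eq [Nonempty γ] {M : ι → (γ → F) →ₗ[F] (γ → F)} {μ : F} (h : sumOp M = μ • LinearMap.id)
    (l : ι) : ∃ c : F, M l = c • LinearMap.id := by
  refine TensorQ.scalar_of_eigen _ fun v hv => ?_
  have hl : ∀ w, sumOp M (pair l (pt fun _ => (Pi.single (Classical.arbitrary γ) 1 : γ → F)) w) =
      μ • pair l (pt fun _ => (Pi.single (Classical.arbitrary γ) 1 : γ → F)) w := fun w => DFunLike.congr_fun h _
  set u₀ : (Rest l → γ) → F := pt fun _ => (Pi.single (Classical.arbitrary γ) 1 : γ → F)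
  have hu₀ : u₀ ≠ 0 := pt_ne_zero fun _ => by simp
  obtain ⟨b, hb⟩ := Function.ne_iff.mp hu₀
  refine ⟨μ - sumOp (fun i : Rest l => M i) u₀ b / u₀ b, funext fun p => ?_⟩
  have := congrFun (hl v) (ext l b p)
  rw [sumOp_pair, Pi.add_apply, Pi.smul_apply, pair_ext, pair_ext, pair_ext, smul_eq_mul] at this
  rw [Pi.smul_apply, smul_eq_mul]
  simp only [Pi.zero_apply] at hb
  field_simp
  linear_combination this

end Cfsg.Lib.Classical.TensorPow
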