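import Cfsg.Agent.Classical.TensorPow.Setup
import Cfsg.Agent.Classical.TensorPow.Ops

/-! The fourfold contraction invariant of the wreath product and its values on pure tensors. -/

set_option autoImplicit false
set_option linter.unusedSectionVars false
set_option linter.unusedSimpArgs false

namespace Cfsg.Lib.Classical.TensorPow

open Matrix Finset

universe u

variable {ι γ : Type} [Fintype ι] [DecidableEq ι] [Fintype γ] [DecidableEq γ] {F : Type u} [Field F]
  (ω : LinearMap.BilinForm F (γ → F))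

/-- The fourfold forms on one factor. -/
def cross4 (p q r s : Fin 4) (x : Fin 4 → γ → F) : F := ω (x p) (x q) * ω (x r) (x s)

/-- The factor at `i` of the `j`-th term. -/
def slotVal (j i : ι) (x : Fin 4 → γ → F) : F :=
  if i = j then cross4 ω 0 2 1 3 x else cross4 ω 0 1 2 3 x

/-- The invariant on pure tensors. -/
def mu1 (z : Fin 4 → ι → γ → F) : F := ∑ j, ∏ i, slotVal ω j i (fun s => z s i)

/-- The invariant. -/
def MU : MultilinearMap F (fun _ : Fin 4 => (ι → γ) → F) F :=
  ∑ a : Fin 4 → ι → γ, mu1 ω (fun s i => Pi.single (a s i) (1 : F)) •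
    (MultilinearMap.mkPiAlgebra F (Fin 4) F).compLinearMap fun s => LinearMap.proj (a s)

theorem MU_apply (v : Fin 4 → (ι → γ) → F) :
    MU ω v = ∑ a : Fin 4 → ι → γ, mu1 ω (fun s i => Pi.single (a s i) (1 : F)) * ∏ s, v s (a s) := by
  simp [MU, MultilinearMap.sum_apply]

theorem bilin_expand (v w : γ → F) :
    ω v w = ∑ p, ∑ q, v p * w q * ω (Pi.single p 1) (Pi.single q 1) := by
  conv_lhs => rw [pi_eq_sum_univ' v, pi_eq_sum_univ' w]
  simp only [map_sum, LinearMap.sum_apply, map_smul, LinearMap.smul_apply, smul_eq_mul, Finset.mul_sum]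
  rw [Finset.sum_comm]
  exact Finset.sum_congr rfl fun p _ => Finset.sum_congr rfl fun q _ => by ring

theorem sum_fin4 {M : Type*} [AddCommMonoid M] (f : (Fin 4 → γ) → M) :
    ∑ a, f a = ∑ p, ∑ q, ∑ r, ∑ s, f ![p, q, r, s] := by
  simp only [← Fintype.sum_prod_type']
  let e : γ × γ × γ × γ ≃ (Fin 4 → γ) :=
    { toFun := fun z => ![z.1, z.2.1, z.2.2.1, z.2.2.2]
      invFun := fun a => (a 0, a 1, a 2, a 3)
      left_inv := fun z => rfl
      right_inv := fun a => by funext i; fin_cases i <;> rfl }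
  exact (Fintype.sum_equiv e (fun z => f ![z.1, z.2.1, z.2.2.1, z.2.2.2]) f fun z => rfl).symm

theorem slot_expand (j i : ι) (x : Fin 4 → γ → F) :
    ∑ a : Fin 4 → γ, slotVal ω j i (fun s => Pi.single (a s) (1 : F)) * ∏ s, x s (a s) = slotVal ω j i x := by
  unfold slotVal
  split
  · rw [sum_fin4]
    conv_lhs => enter [2, p]; rw [Finset.sum_comm]
    unfold cross4
    simp only [Fin.prod_univ_four, Fin.isValue, Matrix.cons_val_zero, Matrix.cons_val_one, Matrix.cons_val]
    rw [bilin_expand ω (x 0) (x 2), bilin_expand ω (x 1) (x 3), Finset.sum_mul]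
    refine Finset.sum_congr rfl fun p _ => ?_
    rw [Finset.sum_mul]
    refine Finset.sum_congr rfl fun r _ => ?_
    rw [Finset.mul_sum]
    refine Finset.sum_congr rfl fun q _ => ?_
    rw [Finset.mul_sum]
    exact Finset.sum_congr rfl fun s _ => by ring
  · rw [sum_fin4]
    unfold cross4
    simp only [Fin.prod_univ_four, Fin.isValue, Matrix.cons_val_zero, Matrix.cons_val_one, Matrix.cons_val]
    rw [bilin_expand ω (x 0) (x 1), bilin_expand ω (x 2) (x 3), Finset.sum_mul]
    refine Finset.sum_congr rfl fun p _ => ?_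
    rw [Finset.sum_mul]
    refine Finset.sum_congr rfl fun q _ => ?_
    rw [Finset.mul_sum]
    refine Finset.sum_congr rfl fun r _ => ?_
    rw [Finset.mul_sum]
    exact Finset.sum_congr rfl fun s _ => by ring

theorem MU_pt (z : Fin 4 → ι → γ → F) : MU ω (fun s => pt (z s)) = mu1 ω z := by
  rw [MU_apply]
  simp only [mu1, Finset.sum_mul, pt]
  rw [Finset.sum_comm]
  refine Finset.sum_congr rfl fun j _ => ?_
  conv_rhs => enter [2, i]; rw [← slot_expand ω j i]
  rw [Fintype.prod_sum]
  refine Fintype.sum_equiv (Equiv.piComm fun (_ : Fin 4) (_ : ι) => γ) _ _ fun a => ?_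
  rw [Finset.prod_comm, ← Finset.prod_mul_distrib]
  rfl

/-- The invariant of a pair of vectors is a sum of maps of single slots. -/
theorem exists_sum_op {B : LinearMap.BilinForm F ((ι → γ) → F)} (T : TP ω B) :
    ∀ A A' : (ι → γ) → F, ∃ M : ι → (γ → F) →ₗ[F] (γ → F), ∀ C D,
      MU ω ![A, A', C, D] = B (sumOp M C) D := by
  obtain ⟨c, hc, hB⟩ := T.pure
  intro A A'
  let G : (ι → γ) → ι → γ → F := fun a i => Pi.single (a i) 1
  let M₀ : (ι → γ) → (ι → γ) → ι → (γ → F) →ₗ[F] (γ → F) := fun a b l =>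
    (c⁻¹ * ∏ i ∈ univ.erase l, ω (G a i) (G b i)) • (ω (G a l)).smulRight (G b l)
  let L : ((ι → γ) → F) →ₗ[F] ((ι → γ) → F) →ₗ[F] ((ι → γ) → F) →ₗ[F] ((ι → γ) → F) →ₗ[F] F :=
    LinearMap.mk₂ F (fun A A' => LinearMap.mk₂ F (fun C D => MU ω ![A, A', C, D])
      (fun C C' D => by simp [MU_apply, Fin.prod_univ_four, mul_add, add_mul, Finset.sum_add_distrib])
      (fun r C D => by simp [MU_apply, Fin.prod_univ_four, Finset.mul_sum]; refine Finset.sum_congr rfl fun _ _ => ?_; ring)
      (fun C D D' => by simp [MU_apply, Fin.prod_univ_four, mul_add, add_mul, Finset.sum_add_distrib])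
      (fun r C D => by simp [MU_apply, Fin.prod_univ_four, Finset.mul_sum]; refine Finset.sum_congr rfl fun _ _ => ?_; ring))
      (fun A₁ A₂ A' => by ext C D; simp [MU_apply, Fin.prod_univ_four, mul_add, add_mul, Finset.sum_add_distrib])
      (fun r A A' => by ext C D; simp [MU_apply, Fin.prod_univ_four, Finset.mul_sum]; refine Finset.sum_congr rfl fun _ _ => ?_; ring)
      (fun A A₁ A₂ => by ext C D; simp [MU_apply, Fin.prod_univ_four, mul_add, add_mul, Finset.sum_add_distrib])
      (fun r A A' => by ext C D; simp [MU_apply, Fin.prod_univ_four, Finset.mul_sum]; refine Finset.sum_congr rfl fun _ _ => ?_; ring)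
  have hbase : ∀ a b, L (pt (G a)) (pt (G b)) = LinearMap.comp B (sumOp (M₀ a b)) := by
    intro a b
    refine ext_pt fun x => ext_pt fun y => ?_
    show MU ω ![pt (G a), pt (G b), pt x, pt y] = B (sumOp (M₀ a b) (pt x)) (pt y)
    rw [show (![pt (G a), pt (G b), pt x, pt y] : Fin 4 → (ι → γ) → F) = fun s => pt (![G a, G b, x, y] s) from
      funext fun s => by fin_cases s <;> rfl, MU_pt, sumOp_pt, map_sum, LinearMap.sum_apply, mu1]
    refine Finset.sum_congr rfl fun l _ => ?_
    rw [hB, ← Finset.mul_prod_erase univ _ (mem_univ l), ← Finset.mul_prod_erase univ (fun i =>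
      ω (Function.update x l _ i) (y i)) (mem_univ l)]
    simp only [slotVal, if_pos, cross4, Function.update_self, M₀, LinearMap.smul_apply, LinearMap.smulRight_apply,
      map_smul, smul_eq_mul, Fin.isValue, Matrix.cons_val_zero, Matrix.cons_val_one, Matrix.cons_val]
    rw [Finset.prod_congr rfl (fun i hi => show _ = ω (G a i) (G b i) * ω (x i) (y i) by
        simp [Finset.ne_of_mem_erase hi]),
      Finset.prod_congr rfl (fun i hi => show ω (Function.update x l _ i) (y i) = ω (x i) (y i) by
        simp [Finset.ne_of_mem_erase hi]), Finset.prod_mul_distrib]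
    field_simp
  refine ⟨fun l => ∑ a, ∑ b, (A a * A' b) • M₀ a b l, fun C D => ?_⟩
  show L A A' C D = _
  have hlin : sumOp (fun l => ∑ a, ∑ b, (A a * A' b) • M₀ a b l) = ∑ a, ∑ b, (A a * A' b) • sumOp (M₀ a b) := by
    refine ext_pt fun x => ?_
    simp only [sumOp_pt, LinearMap.sum_apply, LinearMap.smul_apply, Finset.smul_sum]
    rw [Finset.sum_comm' (t' := univ) (s' := fun _ => univ) (by simp)]
    rw [Finset.sum_comm]
    symm
    conv_lhs => enter [2, a]; rw [Finset.sum_comm]
    rw [Finset.sum_comm]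
    refine Finset.sum_congr rfl fun l _ => ?_
    rw [pt_update]
    have := map_sum (pairR l (pt fun i : Rest l => x i)) (fun a => ∑ b, (A a * A' b) • M₀ a b l (x l)) univ
    refine Eq.trans ?_ this.symm
    refine Finset.sum_congr rfl fun a _ => ?_
    refine Eq.trans ?_ (map_sum (pairR l (pt fun i : Rest l => x i)) _ univ).symm
    refine Finset.sum_congr rfl fun b _ => ?_
    rw [pt_update, map_smul]
    rfl
  rw [hlin]
  conv_lhs => rw [eq_sum_pt A, eq_sum_pt A']
  simp only [map_sum, map_smul, LinearMap.sum_apply, LinearMap.smul_apply, Finset.smul_sum]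
  rw [Finset.sum_comm]
  refine Finset.sum_congr rfl fun a _ => Finset.sum_congr rfl fun b _ => ?_
  rw [hbase a b]
  simp only [LinearMap.comp_apply, smul_eq_mul]
  ring

end Cfsg.Lib.Classical.TensorPow
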