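import Cfsg.Agent.Classical.TensorPow.Root
import Cfsg.Agent.Classical.TensorPow.Contract

/-! Averaging the invariant over the cosets of the layer-permuting elements. -/

set_option autoImplicit false
set_option linter.unusedSectionVars false
set_option linter.unusedSimpArgs false

namespace Cfsg.Lib.Classical.TensorPow

open Matrix Finset

universe u

variable {ι γ : Type} [Fintype ι] [DecidableEq ι] [Fintype γ] [DecidableEq γ] {F : Type u} [Field F]

/-- `g` is the transvection `(d, t)` of the factor `j`. -/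
def IsTr (ω : LinearMap.BilinForm F (γ → F)) (j : ι) (d : γ → F) (t : F) (g : GL (ι → γ) F) : Prop :=
  ∀ u w, (g : Matrix (ι → γ) (ι → γ) F) *ᵥ pair j u w = pair j u (w + (t * ω w d) • d)

/-- A group of similitudes containing the transvections of the factors, in which stabilisers of layers split. -/
structure SX (ω : LinearMap.BilinForm F (γ → F)) (B : LinearMap.BilinForm F ((ι → γ) → F))
    (X : Subgroup (GL (ι → γ) F)) : Prop where
  sim : ∀ g ∈ X, ∃ ν : F, ν ≠ 0 ∧ ∀ u v, B ((g : Matrix (ι → γ) (ι → γ) F) *ᵥ u)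
    ((g : Matrix (ι → γ) (ι → γ) F) *ᵥ v) = ν * B u v
  tr : ∀ j d t, ∃ g ∈ X, IsTr ω j d t g
  split : ∀ (j : ι) (e : γ → F), e ≠ 0 → ∀ g ∈ X,
    (∀ v ∈ lay j e, (g : Matrix (ι → γ) (ι → γ) F) *ᵥ v ∈ lay j e) →
    ∃ (a : ((Rest j → γ) → F) →ₗ[F] ((Rest j → γ) → F)) (b : (γ → F) →ₗ[F] (γ → F)),
      ∀ u w, (g : Matrix (ι → γ) (ι → γ) F) *ᵥ pair j u w = pair j (a u) (b w)

variable {ω : LinearMap.BilinForm F (γ → F)} {B : LinearMap.BilinForm F ((ι → γ) → F)}

theorem IsTr.unique {j : ι} {d : γ → F} {t : F} {g g' : GL (ι → γ) F} (h : IsTr ω j d t g) (h' : IsTr ω j d t g') :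
    g = g' :=
  ext_pt_GL fun x => by rw [pt_eq_pair j x, h, h']

theorem IsTr.range (T : TP ω B) {j : ι} {d : γ → F} (hd : d ≠ 0) {t : F} (ht : t ≠ 0) {g : GL (ι → γ) F}
    (h : IsTr ω j d t g) :
    LinearMap.range ((g : Matrix (ι → γ) (ι → γ) F).mulVecLin - LinearMap.id) = lay j d := by
  obtain ⟨w, hw⟩ := T.alt.exists_one hd
  apply le_antisymm
  · rintro _ ⟨v, rfl⟩
    have := DFunLike.congr_fun (ext_pair j (L := (lay j d).mkQ.comp
      ((g : Matrix (ι → γ) (ι → γ) F).mulVecLin - LinearMap.id)) (L' := 0) fun u z => by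
        rw [LinearMap.comp_apply, LinearMap.sub_apply, Matrix.mulVecLin_apply, h, LinearMap.id_apply, pair_add_right,
          add_sub_cancel_left, pair_smul_right, LinearMap.zero_apply, Submodule.mkQ_apply,
          Submodule.Quotient.mk_eq_zero]
        exact Submodule.smul_mem _ _ (pair_mem_lay _ _ _)) v
    rwa [LinearMap.comp_apply, LinearMap.zero_apply, Submodule.mkQ_apply, Submodule.Quotient.mk_eq_zero] at this
  · rintro _ ⟨u, rfl⟩
    refine ⟨t⁻¹ • pair j u w, ?_⟩
    rw [map_smul, LinearMap.sub_apply, Matrix.mulVecLin_apply, h, LinearMap.id_apply, pair_add_right,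
      add_sub_cancel_left, pair_smul_right, smul_smul, hw, mul_one, inv_mul_cancel₀ ht, one_smul]
    rfl

theorem IsTr.sq (T : TP ω B) {j : ι} {d : γ → F} {t : F} {g : GL (ι → γ) F} (h : IsTr ω j d t g)
    (v : (ι → γ) → F) :
    (g : Matrix (ι → γ) (ι → γ) F) *ᵥ ((g : Matrix (ι → γ) (ι → γ) F) *ᵥ v - v) =
      (g : Matrix (ι → γ) (ι → γ) F) *ᵥ v - v := by
  refine DFunLike.congr_fun (ext_pair j (L := (g : Matrix (ι → γ) (ι → γ) F).mulVecLin.comp
    ((g : Matrix (ι → γ) (ι → γ) F).mulVecLin - LinearMap.id))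
    (L' := (g : Matrix (ι → γ) (ι → γ) F).mulVecLin - LinearMap.id) fun u z => ?_) v
  simp only [LinearMap.comp_apply, LinearMap.sub_apply, Matrix.mulVecLin_apply, LinearMap.id_apply, h u z,
    pair_add_right, add_sub_cancel_left, pair_smul_right, mulVec_smul, h u d, T.alt.self, mul_zero, zero_smul,
    add_zero]

/-- A conjugate of a transvection which permutes the layers comes from a map of layers. -/
theorem exists_layer_map [Finite F] [Nonempty ι] (T : TP ω B) (hk : 2 ≤ Fintype.card γ)
    (hchar : (2 : F) ≠ 0 ∨ 4 ≤ Fintype.card γ) {j : ι} {d : γ → F} (hd : d ≠ 0) {t : F} (ht : t ≠ 0)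
    {r g : GL (ι → γ) F} (hr : IsTr ω j d t r) (h : LP (g * r * g⁻¹)) :
    ∃ (i : ι) (d' : γ → F), d' ≠ 0 ∧ ∀ v ∈ lay j d, (g : Matrix (ι → γ) (ι → γ) F) *ᵥ v ∈ lay i d' := by
  have hc : ∀ v, ((g * r * g⁻¹ : GL (ι → γ) F) : Matrix (ι → γ) (ι → γ) F) *ᵥ
      ((g : Matrix (ι → γ) (ι → γ) F) *ᵥ v) =
      (g : Matrix (ι → γ) (ι → γ) F) *ᵥ ((r : Matrix (ι → γ) (ι → γ) F) *ᵥ v) := fun v => by
    rw [mulVec_mulVec, ← Units.val_mul, inv_mul_cancel_right, Units.val_mul, ← mulVec_mulVec]
  have hsurj : ∀ x, ∃ v, (g : Matrix (ι → γ) (ι → γ) F) *ᵥ v = x := fun x =>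
    ⟨((g⁻¹ : GL (ι → γ) F) : Matrix (ι → γ) (ι → γ) F) *ᵥ x, by
      rw [mulVec_mulVec, ← Units.val_mul, mul_inv_cancel, Units.val_one, one_mulVec]⟩
  have hrange : LinearMap.range (((g * r * g⁻¹ : GL (ι → γ) F) : Matrix (ι → γ) (ι → γ) F).mulVecLin - LinearMap.id) =
      (lay j d).map (g : Matrix (ι → γ) (ι → γ) F).mulVecLin := by
    rw [← hr.range T hd ht]
    ext x
    constructor
    · rintro ⟨y, rfl⟩
      obtain ⟨v, rfl⟩ := hsurj y
      exact ⟨_, ⟨v, rfl⟩, by
        simp only [LinearMap.sub_apply, Matrix.mulVecLin_apply, LinearMap.id_apply, hc, mulVec_sub]⟩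
    · rintro ⟨_, ⟨v, rfl⟩, rfl⟩
      exact ⟨(g : Matrix (ι → γ) (ι → γ) F) *ᵥ v, by
        simp only [LinearMap.sub_apply, Matrix.mulVecLin_apply, LinearMap.id_apply, hc, mulVec_sub]⟩
  obtain ⟨i, d', hd', e⟩ := root_lp hk hchar h
    (fun x => by obtain ⟨v, rfl⟩ := hsurj x; rw [hc, ← mulVec_sub, hc, hr.sq T])
    (by rw [hrange, ← (Submodule.equivMapOfInjective _ (Matrix.mulVec_injective_of_isUnit g.isUnit) _).finrank_eq,
      finrank_lay j hd])
  exact ⟨i, d', hd', fun v hv => e ▸ hrange ▸ ⟨v, hv, rfl⟩⟩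

theorem slot_smul {j i : ι} {a : (γ → F) →ₗ[F] (γ → F)} {ν : F} (h : ∀ u v, ω (a u) (a v) = ν * ω u v)
    (x : Fin 4 → γ → F) : slotVal ω j i (fun s => a (x s)) = ν ^ 2 * slotVal ω j i x := by
  unfold slotVal cross4
  split <;> rw [h, h] <;> ring

theorem MU_lp [Finite F] [Nonempty ι] (T : TP ω B) (hk : 2 ≤ Fintype.card γ) {g : GL (ι → γ) F} (hg : LP g)
    {ν : F} (hν0 : ν ≠ 0) (hν : ∀ u v, B ((g : Matrix (ι → γ) (ι → γ) F) *ᵥ u)
      ((g : Matrix (ι → γ) (ι → γ) F) *ᵥ v) = ν * B u v) (v : Fin 4 → (ι → γ) → F) :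
    MU ω (fun s => (g : Matrix (ι → γ) (ι → γ) F) *ᵥ v s) = ν ^ 2 * MU ω v := by
  haveI : Nonempty γ := Fintype.card_pos_iff.mp (by omega)
  obtain ⟨σ, a, ha⟩ := hg.structure hk
  obtain ⟨c, hc, hB⟩ := T.pure
  obtain ⟨e, f, hef⟩ := T.exists_pair
  have hprod : ∀ x y : ι → γ → F, ∏ i, ω (a i (x (σ i))) (a i (y (σ i))) = ν * ∏ i, ω (x i) (y i) := by
    intro x y
    have := hν (pt x) (pt y)
    rw [ha, ha, hB, hB] at this
    exact mul_left_cancel₀ hc (this.trans (mul_left_comm _ _ _))
  have hall : ∏ i, ω (a i e) (a i f) = ν := by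
    rw [hprod (fun _ => e) (fun _ => f), hef, Finset.prod_const_one, mul_one]
  have hne : ∀ i, ω (a i e) (a i f) ≠ 0 := fun i h0 => hν0 (by rw [← hall, Finset.prod_eq_zero (mem_univ i) h0])
  have hsim : ∀ i u w, ω (a i u) (a i w) = ω (a i e) (a i f) * ω u w := by
    intro i u w
    have h1 := hprod (Function.update (fun _ => e) (σ i) u) (Function.update (fun _ => f) (σ i) w)
    rw [← Finset.mul_prod_erase univ _ (mem_univ i),
      ← Finset.mul_prod_erase univ (fun l => ω (Function.update (fun _ => e) (σ i) u l)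
        (Function.update (fun _ => f) (σ i) w l)) (mem_univ (σ i)), Function.update_self, Function.update_self,
      Finset.prod_congr rfl fun l hl => show _ = ω (a l e) (a l f) by
        rw [Function.update_of_ne (σ.injective.ne (Finset.ne_of_mem_erase hl)),
          Function.update_of_ne (σ.injective.ne (Finset.ne_of_mem_erase hl))],
      Finset.prod_congr rfl fun l hl => show ω (Function.update (fun _ => e) (σ i) u l)
          (Function.update (fun _ => f) (σ i) w l) = 1 by
        rw [Function.update_of_ne (Finset.ne_of_mem_erase hl), Function.update_of_ne (Finset.ne_of_mem_erase hl), hef],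
      Finset.prod_const_one, mul_one] at h1
    have h2 := hall
    rw [← Finset.mul_prod_erase univ _ (mem_univ i)] at h2
    have hK : ∏ l ∈ univ.erase i, ω (a l e) (a l f) ≠ 0 := Finset.prod_ne_zero_iff.mpr fun l _ => hne l
    exact mul_right_cancel₀ hK (by rw [h1, ← h2]; ring)
  have hmain : (MU ω).compLinearMap (fun _ => (g : Matrix (ι → γ) (ι → γ) F).mulVecLin) = ν ^ 2 • MU ω := by
    refine Module.Basis.ext_multilinear (fun _ => Pi.basisFun F (ι → γ)) fun b => ?_
    simp only [Pi.basisFun_apply, MultilinearMap.compLinearMap_apply, Matrix.mulVecLin_apply,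
      MultilinearMap.smul_apply, ← pt_single, ha, MU_pt, mu1, smul_eq_mul, Finset.mul_sum]
    rw [← Equiv.sum_comp σ fun j => ν ^ 2 * ∏ i, slotVal ω j i (fun s => Pi.single (b s i) (1 : F))]
    refine Finset.sum_congr rfl fun j _ => ?_
    rw [← Equiv.prod_comp σ fun i => slotVal ω (σ j) i (fun s => Pi.single (b s i) (1 : F)), ← hall,
      ← Finset.prod_pow, ← Finset.prod_mul_distrib]
    refine Finset.prod_congr rfl fun i _ => ?_
    rw [slot_smul (hsim i)]
    simp only [slotVal, σ.injective.eq_iff]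
  exact DFunLike.congr_fun hmain v

/-- The sum over `F` of a multilinear map along a line vanishes in low degree. -/
theorem sum_line_eq_zero {V : Type*} [AddCommGroup V] [Module F V] [Fintype F]
    (f : MultilinearMap F (fun _ : Fin 4 => V) F) (m m' : Fin 4 → V) (s₀ : Finset (Fin 4))
    (hs : ∀ i ∉ s₀, m' i = 0) (hc : s₀.card < Fintype.card F - 1) :
    ∑ t : F, f (fun i => m i + t • m' i) = 0 := by
  classical
  have key : ∀ t : F, f (fun i => m i + t • m' i) = ∑ s : Finset (Fin 4), t ^ s.card * f (s.piecewise m' m) := by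
    intro t
    rw [show (fun i => m i + t • m' i) = (fun i => t • m' i) + m from funext fun i => add_comm _ _,
      MultilinearMap.map_add_univ]
    refine Finset.sum_congr rfl fun s _ => ?_
    rw [show s.piecewise (fun i => t • m' i) m =
        s.piecewise (fun i => (fun _ : Fin 4 => t) i • s.piecewise m' m i) (s.piecewise m' m) from funext fun i => by
      by_cases hi : i ∈ s <;> simp [hi], MultilinearMap.map_piecewise_smul, Finset.prod_const, smul_eq_mul]
  simp only [key]
  rw [Finset.sum_comm]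
  refine Finset.sum_eq_zero fun s _ => ?_
  rw [← Finset.sum_mul]
  by_cases hsub : s ⊆ s₀
  · rw [FiniteField.sum_pow_lt_card_sub_one F _ ((Finset.card_le_card hsub).trans_lt hc), zero_mul]
  · obtain ⟨i, hi, hi'⟩ := Finset.not_subset.mp hsub
    rw [f.map_coord_zero i (by rw [Finset.piecewise_eq_of_mem _ _ _ hi, hs i hi']), mul_zero]

theorem sim_unique (T : TP ω B) [Nonempty γ] {ν ν' : F} (h : ∀ u v, ν * B u v = ν' * B u v) : ν = ν' := by
  obtain ⟨c, hc, hB⟩ := T.pure
  obtain ⟨e, f, hef⟩ := T.exists_pair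
  have := h (pt fun _ => e) (pt fun _ => f)
  rw [hB, hef, Finset.prod_const_one, mul_one] at this
  exact mul_right_cancel₀ hc this

theorem IsTr.lp (T : TP ω B) {j : ι} {d : γ → F} {t : F} {g : GL (ι → γ) F} (h : IsTr ω j d t g) : LP g := by
  intro l e he
  by_cases hl : l = j
  · subst hl
    refine ⟨l, e + (t * ω e d) • d, fun h0 => he ?_, fun v hv => ?_⟩
    · have h1 := congrArg (fun z => ω z d) h0
      simp only [map_add, LinearMap.add_apply, map_smul, LinearMap.smul_apply, T.alt.self, smul_zero, add_zero,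
        map_zero, LinearMap.zero_apply] at h1
      rwa [h1, mul_zero, zero_smul, add_zero] at h0
    · obtain ⟨u, rfl⟩ := hv
      exact h u e ▸ pair_mem_lay _ _ _
  refine ⟨l, e, he, fun v hv => ?_⟩
  obtain ⟨u, rfl⟩ := hv
  have := pair_left_ext (j := l) e (L := (lay l e).mkQ.comp (g : Matrix (ι → γ) (ι → γ) F).mulVecLin) (L' := 0)
    (fun x => by
      set z : ι → γ → F := fun i => if h : i = l then e else x ⟨i, h⟩ with hz
      have hzl : z l = e := by simp [hz]
      have hzp : pt z = pair l (pt x) e := by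
        rw [pt_eq_pair l, hzl]
        congr 2
        funext i
        simp [hz, i.2]
      rw [← hzp, LinearMap.comp_apply, Matrix.mulVecLin_apply, pt_eq_pair j, h, ← pt_update, Submodule.mkQ_apply,
        LinearMap.zero_apply, Submodule.Quotient.mk_eq_zero]
      have := pt_mem_lay (x := Function.update z j (z j + (t * ω (z j) d) • d)) l
      rwa [Function.update_of_ne hl, hzl] at this) u
  rwa [LinearMap.comp_apply, LinearMap.zero_apply, Submodule.mkQ_apply, Submodule.Quotient.mk_eq_zero] at this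

theorem IsTr.isometry (T : TP ω B) {j : ι} {d : γ → F} {t : F} {g : GL (ι → γ) F} (h : IsTr ω j d t g)
    (u v : (ι → γ) → F) :
    B ((g : Matrix (ι → γ) (ι → γ) F) *ᵥ u) ((g : Matrix (ι → γ) (ι → γ) F) *ᵥ v) = B u v := by
  obtain ⟨c, hc, hB⟩ := T.pure
  refine DFunLike.congr_fun (DFunLike.congr_fun (ext_pt (L := LinearMap.compl₁₂ B
    (g : Matrix (ι → γ) (ι → γ) F).mulVecLin (g : Matrix (ι → γ) (ι → γ) F).mulVecLin) (L' := B)
    fun x => ext_pt fun z => ?_) u) v
  show B (_ *ᵥ pt x) (_ *ᵥ pt z) = B (pt x) (pt z)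
  rw [pt_eq_pair j x, pt_eq_pair j z, h, h, ← pt_update, ← pt_update, ← pt_eq_pair, ← pt_eq_pair, hB, hB]
  congr 1
  refine Finset.prod_congr rfl fun i _ => ?_
  by_cases hi : i = j
  · subst hi
    simp only [Function.update_self, map_add, LinearMap.add_apply, map_smul, LinearMap.smul_apply, smul_eq_mul,
      T.alt.self, T.alt.skew (z i) d]
    ring
  · rw [Function.update_of_ne hi, Function.update_of_ne hi]

/-- If a finite group fixes a point and moves all the others freely, only that point matters in a sum whose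
orbit sums vanish. -/
theorem sum_eq_of_free {A C M : Type*} [Group A] [Fintype A] [Fintype C] [AddCommMonoid M] [MulAction A C] (c₁ : C)
    (hc₁ : ∀ a : A, a • c₁ = c₁) (hfree : ∀ (a : A) (c : C), a • c = c → a = 1 ∨ c = c₁) (f : C → M)
    (horb : ∀ c, c ≠ c₁ → ∑ a : A, f (a • c) = 0) : ∑ c, f c = f c₁ := by
  classical
  rw [← Finset.sum_fiberwise (univ : Finset C)
    (fun c => (Quotient.mk'' c : MulAction.orbitRel.Quotient A C)) f, Finset.sum_eq_single (Quotient.mk'' c₁)]
  · rw [Finset.sum_eq_single c₁]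
    · intro c hc hne
      obtain ⟨a, ha⟩ := Quotient.exact' (Finset.mem_filter.mp hc).2
      exact absurd (ha.symm.trans (hc₁ a)) hne
    · exact fun h => (h (Finset.mem_filter.mpr ⟨mem_univ c₁, rfl⟩)).elim
  · intro o _ ho
    induction o using Quotient.inductionOn' with
    | h c =>
      have hc : c ≠ c₁ := fun h => ho (by rw [h])
      have hinj : Function.Injective fun a : A => a • c := fun a b h => by
        rcases hfree (b⁻¹ * a) c (by simp only at h; rw [mul_smul, h, inv_smul_smul]) with h1 | h1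
        · exact (inv_mul_eq_one.mp h1).symm
        · exact absurd h1 hc
      have hfib : (univ.filter fun c' : C => (Quotient.mk'' c' : MulAction.orbitRel.Quotient A C) = Quotient.mk'' c) =
          univ.image fun a : A => a • c := by
        ext c'
        simp only [Finset.mem_filter, Finset.mem_image, mem_univ, true_and]
        exact ⟨fun h => Quotient.exact' h, fun h => Quotient.sound' h⟩
      rw [hfib, Finset.sum_image fun a _ b _ h => hinj h]
      exact horb c hc
  · exact fun h => absurd (mem_univ _) h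

/-- The averaging: the invariant is invariant under the whole group. -/
theorem MU_invariant [Fintype F] [Nonempty ι] (T : TP ω B) (hk : 2 ≤ Fintype.card γ)
    (hchar : (2 : F) ≠ 0 ∨ 4 ≤ Fintype.card γ) (hq : 4 / Fintype.card γ + 1 < Fintype.card F)
    {X : Subgroup (GL (ι → γ) F)} (hX : SX ω B X)
    (hstep : ∀ g ∈ X, ∀ (j i : ι) (d d' : γ → F), d ≠ 0 → d' ≠ 0 →
      (∀ v ∈ lay j d, (g : Matrix (ι → γ) (ι → γ) F) *ᵥ v ∈ lay i d') → LP g)
    {g : GL (ι → γ) F} (hg : g ∈ X) :
    ∃ ν : F, ν ≠ 0 ∧ (∀ u v, B ((g : Matrix (ι → γ) (ι → γ) F) *ᵥ u) ((g : Matrix (ι → γ) (ι → γ) F) *ᵥ v) =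
      ν * B u v) ∧ ∀ v, MU ω (fun s => (g : Matrix (ι → γ) (ι → γ) F) *ᵥ v s) = ν ^ 2 * MU ω v := by
  classical
  haveI : Nonempty γ := Fintype.card_pos_iff.mp (by omega)
  choose ν hν0 hν using fun x : X => hX.sim x x.2
  have hmul : ∀ x y : X, ν (x * y) = ν x * ν y := fun x y => sim_unique T fun u v => by
    rw [← hν (x * y), Subgroup.coe_mul, Units.val_mul, ← mulVec_mulVec, ← mulVec_mulVec, hν, hν, mul_assoc]
  set K : Subgroup X := (lpSubgroup ι γ F).subgroupOf X with hK
  have hKmem : ∀ x : X, x ∈ K ↔ LP (x : GL (ι → γ) F) := fun x => Iff.rfl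
  let act : X → ((ι → γ) → F) →ₗ[F] ((ι → γ) → F) := fun x =>
    ((x : GL (ι → γ) F) : Matrix (ι → γ) (ι → γ) F).mulVecLin
  have hact : ∀ x y v, act (x * y) v = act x (act y v) := fun x y v => by
    simp only [act, Matrix.mulVecLin_apply, Subgroup.coe_mul, Units.val_mul, mulVec_mulVec]
  let f : X → MultilinearMap F (fun _ : Fin 4 => (ι → γ) → F) F := fun x =>
    ν x ^ 2 • (MU ω).compLinearMap fun _ => act x⁻¹
  have hf : ∀ x : X, ∀ h ∈ K, f (x * h) = f x := by
    intro x h hh
    refine MultilinearMap.ext fun v => ?_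
    simp only [f, MultilinearMap.smul_apply, MultilinearMap.compLinearMap_apply, smul_eq_mul, _root_.mul_inv_rev,
      hact, hmul]
    have hinv : ∀ w, act h⁻¹ w = ((h⁻¹ : X) : GL (ι → γ) F).1 *ᵥ w := fun w => rfl
    simp only [hinv]
    rw [MU_lp T hk ((hKmem _).mp (inv_mem hh)) (hν0 h⁻¹) (hν h⁻¹)]
    have h1 : ν h * ν h⁻¹ = 1 := by
      rw [← hmul, mul_inv_cancel]
      exact sim_unique T fun u v => by
        rw [← hν 1, OneMemClass.coe_one, Units.val_one, one_mulVec, one_mulVec, one_mul]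
    linear_combination ν x ^ 2 * MU ω (fun s => act x⁻¹ (v s)) * (ν h * ν h⁻¹ + 1) * h1
  let Fc : X ⧸ K → MultilinearMap F (fun _ : Fin 4 => (ι → γ) → F) F := fun c =>
    Quotient.liftOn' c f fun x y hxy => by
      rw [QuotientGroup.leftRel_apply] at hxy
      rw [← hf x _ hxy, mul_inv_cancel_left]
  haveI : Fintype (X ⧸ K) := Fintype.ofFinite _
  have hone : ν 1 = 1 := sim_unique T fun u v => by
    rw [← hν 1, OneMemClass.coe_one, Units.val_one, one_mulVec, one_mulVec, one_mul]
  -- translation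
  have htrans : ∀ (x : X) (c : X ⧸ K) v, Fc (x • c) v = ν x ^ 2 * Fc c (fun s => act x⁻¹ (v s)) := by
    intro x c v
    induction c using Quotient.inductionOn' with
    | h y =>
      show f (x * y) v = ν x ^ 2 * f y (fun s => act x⁻¹ (v s))
      simp only [f, MultilinearMap.smul_apply, MultilinearMap.compLinearMap_apply, smul_eq_mul, _root_.mul_inv_rev,
        hact, hmul]
      ring
  set S : MultilinearMap F (fun _ : Fin 4 => (ι → γ) → F) F := ∑ c, Fc c with hS
  have hSinv : ∀ (x : X) v, S (fun s => act x (v s)) = ν x ^ 2 * S v := by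
    intro x v
    simp only [hS, MultilinearMap.sum_apply, Finset.mul_sum]
    rw [← Equiv.sum_comp (MulAction.toPerm x) fun c => Fc c fun s => act x (v s)]
    refine Finset.sum_congr rfl fun c _ => ?_
    rw [MulAction.toPerm_apply, htrans]
    congr 2
    funext s
    rw [← hact, inv_mul_cancel]
    simp [act]
  have hSMU : S = MU ω := by
    refine Module.Basis.ext_multilinear (fun _ => Pi.basisFun F (ι → γ)) fun a => ?_
    simp only [Pi.basisFun_apply]
    set y : Fin 4 → (ι → γ) → F := fun s => Pi.single (a s) 1 with hy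
    obtain ⟨j⟩ := ‹Nonempty ι›
    obtain ⟨p, hp⟩ : ∃ p : γ, (univ.filter fun s => a s j = p).card ≤ 4 / Fintype.card γ := by
      by_contra hc
      push Not at hc
      have h1 := Finset.card_eq_sum_card_fiberwise (s := (univ : Finset (Fin 4))) (t := (univ : Finset γ))
        (f := fun s => a s j) (fun s _ => mem_univ _)
      have h2 : ∑ p : γ, (4 / Fintype.card γ + 1) ≤ ∑ p : γ, (univ.filter fun s => a s j = p).card :=
        Finset.sum_le_sum fun p _ => hc p
      rw [← h1, Finset.sum_const, Finset.card_univ, Finset.card_univ, Fintype.card_fin, smul_eq_mul] at h2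
      have := Nat.lt_mul_div_succ 4 (show 0 < Fintype.card γ by omega)
      omega
    obtain ⟨dual, hdual⟩ := T.exists_dual
    have hd : dual p ≠ 0 := fun h0 => by
      have := hdual (Pi.single p 1) p
      rw [h0, map_zero, Pi.single_eq_same] at this
      exact zero_ne_one this
    choose R hRX hR using hX.tr j (dual p)
    let Rx : F → X := fun t => ⟨R t, hRX t⟩
    have hRadd : ∀ t t', R (t + t') = R t * R t' := fun t t' => by
      refine IsTr.unique (hR (t + t')) fun u w => ?_
      rw [Units.val_mul, ← mulVec_mulVec, hR, hR, map_add, LinearMap.add_apply, map_smul, LinearMap.smul_apply,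
        T.alt.self, smul_zero, add_zero, add_assoc, ← add_smul]
      congr 3
      ring
    let φ : Multiplicative F →* X := MonoidHom.mk' (fun t => Rx (Multiplicative.toAdd t)) fun t t' =>
      Subtype.ext (hRadd _ _)
    letI : MulAction (Multiplicative F) (X ⧸ K) := MulAction.compHom _ φ
    have hφν : ∀ t, ν (φ t) = 1 := fun t => sim_unique T fun u v => by
      rw [← hν, one_mul]
      exact (hR _).isometry T u v
    set c₁ : X ⧸ K := QuotientGroup.mk 1 with hc₁
    have hfix₁ : ∀ t : Multiplicative F, t • c₁ = c₁ := by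
      intro t
      refine QuotientGroup.eq.mpr ?_
      rw [mul_one]
      refine inv_mem ?_
      show φ t * 1 ∈ K
      rw [mul_one]
      exact (hKmem _).mpr ((hR _).lp T)
    have hfree : ∀ (t : Multiplicative F) (c : X ⧸ K), t • c = c → t = 1 ∨ c = c₁ := by
      intro t c hc
      induction c using Quotient.inductionOn' with
      | h x =>
        by_cases ht : t = 1
        · exact Or.inl ht
        right
        have h1 : (φ t * x)⁻¹ * x ∈ K := QuotientGroup.eq.mp hc
        have h2 : LP (((x⁻¹ : X) : GL (ι → γ) F) * R (Multiplicative.toAdd t) * (((x⁻¹ : X) : GL (ι → γ) F))⁻¹) := by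
          have := (hKmem _).mp (inv_mem h1)
          simpa [φ, Rx, mul_assoc] using this
        obtain ⟨i, d', hd', hmap⟩ := exists_layer_map T hk hchar hd
          (fun h => ht (by rw [← ofAdd_toAdd t, h, ofAdd_zero])) (hR _) h2
        refine QuotientGroup.eq.mpr ?_
        rw [mul_one]
        exact (hKmem _).mpr (hstep _ (x⁻¹ : X).2 j i _ _ hd hd' hmap)
    rw [hS, MultilinearMap.sum_apply, sum_eq_of_free c₁ hfix₁ hfree (fun c => Fc c y)]
    · show f 1 y = _
      simp only [f, hone, one_pow, one_smul, MultilinearMap.compLinearMap_apply, inv_one]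
      simp [act, hy]
    intro c _
    set m' : Fin 4 → (ι → γ) → F := fun s => if a s j = p then
      pt (Function.update (fun i => Pi.single (a s i) (1 : F)) j (dual p)) else 0 with hm'
    have hline : ∀ t : Multiplicative F, Fc (t • c) y = Fc c (fun s => y s + (-Multiplicative.toAdd t) • m' s) := by
      intro t
      show Fc (φ t • c) y = _
      rw [htrans, hφν, one_pow, one_mul]
      congr 1
      funext s
      rw [← map_inv]
      show (R (Multiplicative.toAdd t⁻¹) : Matrix (ι → γ) (ι → γ) F) *ᵥ y s = _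
      simp only [hy, hm', ← pt_single]
      rw [pt_eq_pair j, hR, pair_add_right, pair_smul_right, ← pt_eq_pair j fun i => Pi.single (a s i) (1 : F),
        toAdd_inv, hdual]
      congr 1
      by_cases hs : a s j = p
      · rw [if_pos hs, hs, Pi.single_eq_same, mul_one, pt_update]
      · rw [if_neg hs, Pi.single_eq_of_ne (Ne.symm hs), mul_zero, zero_smul, smul_zero]
    simp only [hline]
    rw [Fintype.sum_equiv (Multiplicative.toAdd.trans (Equiv.neg F))
      (fun t => Fc c (fun s => y s + (-Multiplicative.toAdd t) • m' s))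
      (fun u => Fc c (fun s => y s + u • m' s)) (fun t => rfl)]
    refine sum_line_eq_zero (Fc c) y m' (univ.filter fun s => a s j = p) (fun s hs => ?_) (by omega)
    rw [Finset.mem_filter] at hs
    simp only [hm']
    rw [if_neg fun h => hs ⟨mem_univ _, h⟩]
  exact ⟨ν ⟨g, hg⟩, hν0 _, hν ⟨g, hg⟩, fun v => by rw [← hSMU]; exact hSinv ⟨g, hg⟩ v⟩

end Cfsg.Lib.Classical.TensorPow
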