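import Cfsg.Agent.Classical.TensorPow.Radical
import Cfsg.Agent.Classical.TensorPow.Alg

/-! More radical than the scalars gives every endomorphism in the layers. -/

set_option autoImplicit false
set_option linter.unusedSectionVars false
set_option linter.unusedSimpArgs false

namespace Cfsg.Lib.Classical.TensorPow

open Matrix Finset
open Cfsg.Lib.Classical.TensorQ (Alt rk transv rk_apply transv_apply)

universe u

section Adjoint

variable {κ γ : Type} [Fintype κ] [DecidableEq κ] [Fintype γ] [DecidableEq γ] {F : Type u} [Field F]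
  {ω : LinearMap.BilinForm F (γ → F)} {B₁ : LinearMap.BilinForm F ((κ → γ) → F)}

/-- `As` is the adjoint of `A`. -/
def IsAdj (B₁ : LinearMap.BilinForm F ((κ → γ) → F)) (A As : EndP κ γ F) : Prop :=
  ∀ u v, B₁ (As u) v = B₁ u (A v)

theorem TP.symm (T : TP ω B₁) (u v : (κ → γ) → F) : B₁ u v = (-1) ^ Fintype.card κ * B₁ v u := by
  obtain ⟨c, hc, hB⟩ := T.pure
  refine DFunLike.congr_fun (DFunLike.congr_fun (ext_pt (L := B₁)
    (L' := ((-1) ^ Fintype.card κ : F) • B₁.flip) fun x => ext_pt fun y => ?_) u) v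
  show B₁ (pt x) (pt y) = _ * B₁ (pt y) (pt x)
  rw [hB, hB, ← Finset.card_univ, ← Finset.prod_const, mul_left_comm, ← Finset.prod_mul_distrib]
  exact congrArg (c * ·) (Finset.prod_congr rfl fun i _ => by rw [T.alt.skew (y i) (x i), neg_one_mul])

theorem TP.nd' (T : TP ω B₁) {u : (κ → γ) → F} (h : ∀ v, B₁ v u = 0) : u = 0 :=
  T.nd fun y => by rw [T.symm, h, mul_zero]

theorem TP.exists_adj (T : TP ω B₁) (A : EndP κ γ F) : ∃ As, IsAdj B₁ A As := by
  have hinj : Function.Injective (B₁ : ((κ → γ) → F) →ₗ[F] Module.Dual F ((κ → γ) → F)) := by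
    rw [← LinearMap.ker_eq_bot, LinearMap.ker_eq_bot']
    exact fun u hu => T.nd fun y => DFunLike.congr_fun hu _
  let e := LinearEquiv.ofBijective (B₁ : ((κ → γ) → F) →ₗ[F] Module.Dual F ((κ → γ) → F))
    ⟨hinj, (LinearMap.injective_iff_surjective_of_finrank_eq_finrank Subspace.dual_finrank_eq.symm).mp hinj⟩
  refine ⟨e.symm.toLinearMap.comp (LinearMap.compl₁₂ B₁ LinearMap.id A), fun u v => ?_⟩
  exact DFunLike.congr_fun (e.apply_symm_apply (LinearMap.compl₁₂ B₁ LinearMap.id A u)) v

theorem IsAdj.ext_pure {A As : EndP κ γ F} (h : ∀ x y, B₁ (As (pt x)) (pt y) = B₁ (pt x) (A (pt y))) :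
    IsAdj B₁ A As := fun u v =>
  DFunLike.congr_fun (DFunLike.congr_fun (ext_pt (L := LinearMap.compl₁₂ B₁ As LinearMap.id)
    (L' := LinearMap.compl₁₂ B₁ LinearMap.id A) fun x => ext_pt fun y => h x y) u) v

theorem isAdj_slot (T : TP ω B₁) (l : κ) {D Ds : (γ → F) →ₗ[F] (γ → F)} (h : ∀ u v, ω (Ds u) v = ω u (D v)) :
    IsAdj B₁ (slotOp l D) (slotOp l Ds) := by
  obtain ⟨c, hc, hB⟩ := T.pure
  refine IsAdj.ext_pure fun x y => ?_
  rw [slotOp, slotOp, kronOp_pt, kronOp_pt, hB, hB]
  congr 1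
  refine Finset.prod_congr rfl fun i _ => ?_
  by_cases hi : i = l
  · subst hi; simp [h]
  · simp [hi]

theorem transv_adj (hA : Alt ω) (d : γ → F) (t : F) (u v : γ → F) :
    ω (transv ω d (-t) u) v = ω u (transv ω d t v) := by
  simp only [transv_apply, map_add, map_smul, LinearMap.add_apply, LinearMap.smul_apply, smul_eq_mul, hA.skew v d]
  ring

theorem IsAdj.cj (hA : Alt ω) (T : TP ω B₁) {A As : EndP κ γ F} (h : IsAdj B₁ A As) (l : κ) (d : γ → F) (t : F) :
    IsAdj B₁ (cj ω l d t A) (cj ω l d t As) := fun u v => by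
  show B₁ (slotOp l (transv ω d t) (As (slotOp l (transv ω d (-t)) u))) v =
    B₁ u (slotOp l (transv ω d t) (A (slotOp l (transv ω d (-t)) v)))
  rw [isAdj_slot T l (D := transv ω d (-t)) (Ds := transv ω d t) (fun u v => by
      rw [← transv_adj hA d (-t), neg_neg]), h,
    ← isAdj_slot T l (D := transv ω d t) (Ds := transv ω d (-t)) (transv_adj hA d t)]

theorem rk_adj (hA : Alt ω) (d : γ → F) (u v : γ → F) : ω ((-rk ω d d) u) v = ω u (rk ω d d v) := by
  simp only [LinearMap.neg_apply, rk_apply, map_neg, map_smul, LinearMap.smul_apply, smul_eq_mul, LinearMap.neg_apply,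
    hA.skew v d]
  ring

end Adjoint

variable {ι γ : Type} [Fintype ι] [DecidableEq ι] [Fintype γ] [DecidableEq γ] {F : Type u} [Field F]
  {ω : LinearMap.BilinForm F (γ → F)} {B : LinearMap.BilinForm F ((ι → γ) → F)} {X : Subgroup (GL (ι → γ) F)}
  {j : ι} {B₁ : LinearMap.BilinForm F ((Rest j → γ) → F)}

theorem inAlg_conj (R₁ : Rest1 ω B j B₁) (hX : XJ ω B X j) {g : GL (ι → γ) F} (hg : g ∈ X)
    (a : ((Rest j → γ) → F) ≃ₗ[F] ((Rest j → γ) → F))
    (hga : ∀ u z, (g : Matrix (ι → γ) (ι → γ) F) *ᵥ pair j u z = pair j (a u) z) (hA : Alt ω)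
    {A : EndP (Rest j) γ F} (h : InAlg ω X j A) :
    InAlg ω X j (a.toLinearMap.comp (A.comp a.symm.toLinearMap)) := fun e w he hew => by
  obtain ⟨f, hf⟩ := hA.exists_one he
  have := rel_conj R₁ hX hg a (fun v v' => by
    have h1 := hX.iso g hg (pair j v f) (pair j v' e)
    rwa [hga, hga, R₁.pair, R₁.pair, hf, mul_one, mul_one] at h1) (fun v => hga v e) (h e w he hew)
  unfold Has
  convert this using 1
  refine LinearMap.ext fun v => ?_
  show pair j (a (A (a.symm v))) w = (g : Matrix (ι → γ) (ι → γ) F) *ᵥ pair j (A (a.symm v)) w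
  rw [hga]

/-- The transvections of the other factors, seen at the factor `j`. -/
theorem tr_pair {l : Rest j} {d : γ → F} {t : F} {g : GL (ι → γ) F} (h : IsTr ω (l : ι) d t g)
    (u : (Rest j → γ) → F) (z : γ → F) :
    (g : Matrix (ι → γ) (ι → γ) F) *ᵥ pair j u z = pair j (slotOp l (transv ω d t) u) z :=
  DFunLike.congr_fun (ext_pair l (L := (g : Matrix (ι → γ) (ι → γ) F).mulVecLin.comp (pairL j z))
    (L' := (pairL j z).comp (slotOp l (transv ω d t))) fun u' w => by
    show (g : Matrix (ι → γ) (ι → γ) F) *ᵥ pair j (pair l u' w) z = pair j (slotOp l (transv ω d t) (pair l u' w)) z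
    rw [slotOp_pair, pair_pair, pair_pair, h, transv_apply]) u

/-- The hypotheses on `X` at all factors, and the permutations fixing `j`. -/
structure XB (ω : LinearMap.BilinForm F (γ → F)) (B : LinearMap.BilinForm F ((ι → γ) → F))
    (X : Subgroup (GL (ι → γ) F)) (j : ι) : Prop where
  xj : ∀ i, XJ ω B X i
  perm : ∀ l l' : Rest j, ∃ g ∈ X, ∃ π : ((Rest j → γ) → F) ≃ₗ[F] ((Rest j → γ) → F),
    (∀ u z, (g : Matrix (ι → γ) (ι → γ) F) *ᵥ pair j u z = pair j (π u) z) ∧
      ∀ D, π.toLinearMap.comp (slotOp l D) = (slotOp l' D).comp π.toLinearMap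

/-- The endomorphisms in the layers, as a subspace. -/
def inAlgSub (hA : Alt ω) (hX : XJ ω B X j) : Submodule F (EndP (Rest j) γ F) where
  carrier := {A | InAlg ω X j A}
  zero_mem' := by simpa using inAlg_smul (0 : F) (inAlg_one hA hX)
  add_mem' := inAlg_add hA
  smul_mem' c _ h := inAlg_smul c h

theorem inAlg_cj (hA : Alt ω) (R₁ : Rest1 ω B j B₁) (hX : XB ω B X j) (l : Rest j) (d : γ → F) (t : F)
    {A : EndP (Rest j) γ F} (h : InAlg ω X j A) : InAlg ω X j (cj ω l d t A) := by
  obtain ⟨g, hg, hgt⟩ := (hX.xj l).tr d t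
  have hinv : ∀ s : F, (slotOp l (transv ω d s)).comp (slotOp l (transv ω d (-s))) = LinearMap.id := fun s => by
    rw [slotOp_comp, transv_comp_neg hA, slotOp_id]
  let a : ((Rest j → γ) → F) ≃ₗ[F] ((Rest j → γ) → F) := LinearEquiv.ofLinearMap (slotOp l (transv ω d t))
    (slotOp l (transv ω d (-t))) (hinv t) (by simpa using hinv (-t))
  exact inAlg_conj R₁ (hX.xj j) hg a (fun u z => tr_pair hgt u z) hA h

/-- The square of a root operator extracts a coefficient in odd characteristic. -/
theorem root_coef {κ : Type} [Fintype κ] [DecidableEq κ] (hA : Alt ω) (h2 : (2 : F) ≠ 0)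
    (P : Submodule F (EndP κ γ F)) (hP : ∀ l d t, ∀ A ∈ P, cj ω l d t A ∈ P) {A : EndP κ γ F} (hAP : A ∈ P) (i : κ)
    (d : γ → F) : tens i (al ω i A d d) (rk ω d d) ∈ P := by
  have h1 := P.add_mem (P.sub_mem (hP i d 1 A hAP) hAP) (P.sub_mem (hP i d (-1) A hAP) hAP)
  have := P.smul_mem (-(2 : F))⁻¹ h1
  rwa [show (-(2 : F))⁻¹ • ((cj ω i d 1 A - A) + (cj ω i d (-1) A - A)) = tens i (al ω i A d d) (rk ω d d) from by
    rw [inv_smul_eq_iff₀ (neg_ne_zero.mpr h2)]
    refine ext_pair i fun u z => ?_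
    simp only [cj_eq, LinearMap.add_apply, LinearMap.sub_apply, LinearMap.smul_apply, LinearMap.comp_apply, slot_rk,
      tens_pair, rk_apply, cwj_pair, al_apply, pair_smul_left, pair_smul_right, map_smul]
    module] at this

/-- In odd characteristic some centre element is not scalar. -/
theorem exists_cen (T : TP ω B) (h4 : 4 ≤ Fintype.card γ) (h2 : (2 : F) ≠ 0) (hX : XB ω B X j)
    {A : EndP (Rest j) γ F} (h : InAlg ω X j A) (hns : ∀ c : F, A ≠ c • LinearMap.id) :
    ∃ C, Cen ω X j C ∧ ∀ c : F, C ≠ c • LinearMap.id := by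
  classical
  have hA := T.alt
  haveI : Nonempty γ := Fintype.card_pos_iff.mp (by omega)
  obtain ⟨p, q, hpq⟩ := T.exists_pair
  have T' : TP ω (restForm B j p q) := T.rest hpq
  set B₁ := restForm B j p q
  have R₁ : Rest1 ω B j B₁ := by
    obtain ⟨B', R'⟩ := exists_rest1 T j
    have : B' = B₁ := LinearMap.ext fun u => LinearMap.ext fun v => by
      have e := R'.pair u v p q
      rw [pair_form T hpq, hpq, mul_one, mul_one] at e
      exact e.symm
    exact this ▸ R'
  by_contra hc
  push Not at hc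
  obtain ⟨As, hAs⟩ := T'.exists_adj A
  obtain ⟨c₁, hc₁⟩ := hc _ (cen_of_inAlg hA R₁ (hX.xj j) h4 (A := A) (A' := LinearMap.id) (As := As)
    (As' := LinearMap.id) hAs (fun _ _ => rfl) h (inAlg_one hA (hX.xj j)))
  rw [LinearMap.comp_id, LinearMap.id_comp] at hc₁
  by_cases hal : ∀ i d, al ω i A d d = 0
  · -- `A` is then self-adjoint
    set G := fun x y : Rest j → γ → F => B₁ (A (pt x)) (pt y) with hG
    have hswap : ∀ (i : Rest j) x y, G x y = -G (Function.update x i (y i)) (Function.update y i (x i)) := by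
      intro i x y
      obtain ⟨B₂, R₂⟩ := exists_rest1 T' i
      have hant : ∀ d g u, al ω i A d g u = -al ω i A g d u := fun d g u => by
        have h3 := DFunLike.congr_fun (hal i (d + g)) u
        rw [al_apply, cwj_add, pair_add_right, map_add, map_add, map_add, ← al_apply, ← al_apply, ← al_apply,
          ← al_apply, hal i d, hal i g] at h3
        simp only [LinearMap.zero_apply, zero_add, add_zero] at h3
        exact eq_neg_of_add_eq_zero_left (by rwa [add_comm] at h3)
      simp only [hG]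
      rw [pt_eq_pair i x, pt_eq_pair i y, pt_update, pt_update, R₂.contract, R₂.contract, ← al_apply, ← al_apply,
        hant, map_neg, LinearMap.neg_apply]
    have hall : ∀ (s : Finset (Rest j)) x y, G x y =
        (-1) ^ s.card * G (fun i => if i ∈ s then y i else x i) (fun i => if i ∈ s then x i else y i) := by
      intro s
      induction s using Finset.induction with
      | empty => intro x y; simp
      | insert i s hi ih =>
        intro x y
        rw [ih x y, hswap i, Finset.card_insert_of_notMem hi, pow_succ, if_neg hi, if_neg hi]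
        have e1 : Function.update (fun l => if l ∈ s then y l else x l) i (y i) =
            fun l => if l ∈ insert i s then y l else x l := funext fun l => by
          by_cases hl : l = i
          · subst hl; simp
          · simp [hl]
        have e2 : Function.update (fun l => if l ∈ s then x l else y l) i (x i) =
            fun l => if l ∈ insert i s then x l else y l := funext fun l => by
          by_cases hl : l = i
          · subst hl; simp
          · simp [hl]
        rw [e1, e2]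
        ring
    have hself : IsAdj B₁ A A := by
      refine IsAdj.ext_pure fun x y => ?_
      rw [T'.symm (pt x) (A (pt y))]
      have := hall univ x y
      simpa [hG] using this
    have hAA : As = A := LinearMap.ext fun u => sub_eq_zero.mp (T'.nd fun y => by
      rw [map_sub, LinearMap.sub_apply, hAs, hself, sub_self])
    rw [hAA] at hc₁
    refine hns ((2 : F)⁻¹ * c₁) (LinearMap.ext fun u => ?_)
    have := DFunLike.congr_fun hc₁ u
    rw [LinearMap.add_apply, ← two_smul F, LinearMap.smul_apply] at this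
    rw [LinearMap.smul_apply, mul_smul, ← this, smul_smul, inv_mul_cancel₀ h2, one_smul]
  push Not at hal
  obtain ⟨i, d₀, hd₀⟩ := hal
  obtain ⟨e₂, f₂, hef₂⟩ := T'.exists_pair
  have T₂ : TP ω (restForm B₁ i e₂ f₂) := T'.rest hef₂
  set B₂ := restForm B₁ i e₂ f₂
  let P := inAlgSub (X := X) hA (hX.xj j)
  have hP : ∀ l d t, ∀ A ∈ P, cj ω l d t A ∈ P := fun l d t A h => inAlg_cj hA R₁ hX l d t h
  have hd₀0 : d₀ ≠ 0 := fun h0 => hd₀ (LinearMap.ext fun u => by
    rw [al_apply, h0, pair_zero_right, map_zero, map_zero, LinearMap.zero_apply])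
  -- the coefficient occurs at every transvection
  set C := al ω i A d₀ d₀ with hCdef
  have hC : ∀ d, tens i C (rk ω d d) ∈ P := tens_all hA hP hd₀0 (root_coef hA h2 P hP h i d₀)
  let K : Submodule F ((Rest i → γ) → F) :=
    { carrier := {v | ∀ C' Cs, (∀ d, tens i C' (rk ω d d) ∈ P) → IsAdj B₂ C' Cs → Cs v = 0}
      zero_mem' := fun _ Cs _ _ => map_zero Cs
      add_mem' := fun {a b} ha hb C' Cs h1 h2' => by rw [map_add, ha C' Cs h1 h2', hb C' Cs h1 h2', add_zero]
      smul_mem' := fun r a ha C' Cs h1 h2' => by rw [map_smul, ha C' Cs h1 h2', smul_zero] }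
  have hkey : ∀ u, C u ∈ K := by
    intro u C' Cs hC' hCs
    obtain ⟨Cs₀, hCs₀⟩ := T₂.exists_adj C
    obtain ⟨d, g, hdg⟩ := T.exists_pair
    have hadj : ∀ (E Es : EndP (Rest i) γ F) (v : γ → F), IsAdj B₂ E Es →
        IsAdj B₁ (tens i E (rk ω v v)) (tens i Es (-rk ω v v)) := by
      intro E Es v hE u w
      refine DFunLike.congr_fun (DFunLike.congr_fun (ext_pair i
        (L := LinearMap.compl₁₂ B₁ (tens i Es (-rk ω v v)) LinearMap.id)
        (L' := LinearMap.compl₁₂ B₁ LinearMap.id (tens i E (rk ω v v))) fun a x => ext_pair i fun b y => ?_) u) w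
      show B₁ (tens i Es (-rk ω v v) (pair i a x)) (pair i b y) = B₁ (pair i a x) (tens i E (rk ω v v) (pair i b y))
      rw [tens_pair, tens_pair, pair_form T' hef₂, pair_form T' hef₂, hE, rk_adj hA]
    obtain ⟨c, hc'⟩ := hc _ (cen_of_inAlg hA R₁ (hX.xj j) h4 (hadj C Cs₀ d hCs₀) (hadj C' Cs g hCs) (hC d) (hC' g))
    obtain ⟨z, hz, hz0⟩ : ∃ z ∈ LinearMap.ker ((ω.flip d).prod (ω.flip g)), z ≠ 0 := by
      refine Submodule.exists_mem_ne_zero_of_ne_bot ?_
      apply LinearMap.ker_ne_bot_of_finrank_lt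
      rw [Module.finrank_prod, Module.finrank_pi, Module.finrank_self]
      omega
    have hzd : ω z d = 0 := congrArg Prod.fst hz
    have hzg : ω z g = 0 := congrArg Prod.snd hz
    set u₀ : (Rest i → γ) → F := pt fun _ => d
    have hu₀ : u₀ ≠ 0 := pt_ne_zero fun _ h0 => by rw [h0, map_zero, LinearMap.zero_apply] at hdg; exact zero_ne_one hdg
    have e1 := DFunLike.congr_fun hc' (pair i u₀ z)
    simp only [LinearMap.add_apply, LinearMap.comp_apply, LinearMap.smul_apply, LinearMap.id_apply, tens_pair,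
      LinearMap.neg_apply, rk_apply, hzd, hzg, zero_smul, neg_zero, pair_zero_right, map_zero, add_zero] at e1
    have hc0 : c = 0 := (smul_eq_zero.mp e1.symm).resolve_right (pairR_ne_zero hu₀ hz0)
    have e2 := DFunLike.congr_fun hc' (pair i u g)
    simp only [LinearMap.add_apply, LinearMap.comp_apply, LinearMap.smul_apply, LinearMap.id_apply, tens_pair,
      LinearMap.neg_apply, rk_apply, hA.self, hdg, hA.skew d g, hc0, zero_smul, neg_zero, pair_zero_right, map_zero,
      zero_add, neg_smul, one_smul, neg_neg, map_neg, LinearMap.neg_apply, smul_neg, pair_neg_right] at e2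
    by_contra hne
    have hg0 : g ≠ 0 := fun h0 => by rw [h0, map_zero] at hdg; exact zero_ne_one hdg
    exact pairR_ne_zero hne hg0 (by simpa using e2)
  obtain ⟨u, hu⟩ : ∃ u, C u ≠ 0 := by
    by_contra hc'
    push Not at hc'
    exact hd₀ (LinearMap.ext hc')
  have hK : K = ⊤ := by
    refine inv_top hA K (fun l d t v hv C' Cs hC' hCs => ?_) (hkey u) hu
    have h1 := hv (cj ω l d (-t) C') (cj ω l d (-t) Cs) (fun w => by
      have := hP (l : Rest j) d (-t) _ (hC' w)
      rwa [tens_cj l.2] at this) (hCs.cj hA T₂ l d (-t))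
    simp only [cj, LinearMap.comp_apply, neg_neg] at h1
    have h2' := congrArg (slotOp l (transv ω d t)) h1
    rwa [← LinearMap.comp_apply (f := slotOp l (transv ω d t)), slotOp_comp, transv_comp_neg hA, slotOp_id,
      LinearMap.id_apply, map_zero] at h2'
  obtain ⟨Cs₀, hCs₀⟩ := T₂.exists_adj C
  refine hu (T₂.nd' (u := C u) fun v => ?_)
  rw [← hCs₀, (hK ▸ Submodule.mem_top : v ∈ K) C Cs₀ hC hCs₀, map_zero, LinearMap.zero_apply]

/-- Beyond the scalars every endomorphism occurs in the layers. -/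
theorem inAlg_top (T : TP ω B) (h4 : 4 ≤ Fintype.card γ) (hchar : (2 : F) ≠ 0 ∨ 5 ≤ Fintype.card γ)
    (hX : XB ω B X j) (hS : ¬ RadScalar ω X j) (A : EndP (Rest j) γ F) : InAlg ω X j A := by
  classical
  have hA := T.alt
  haveI : Nonempty γ := Fintype.card_pos_iff.mp (by omega)
  obtain ⟨B₁, R₁⟩ := exists_rest1 T j
  let P := inAlgSub (X := X) hA (hX.xj j)
  obtain ⟨A₀, hA₀, hns₀⟩ := (exists_nonscalar hA R₁ (hX.xj j) hS).1 h4
  have hπ' : ∀ g ∈ X, ∀ π : ((Rest j → γ) → F) ≃ₗ[F] ((Rest j → γ) → F),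
      (∀ u z, (g : Matrix (ι → γ) (ι → γ) F) *ᵥ pair j u z = pair j (π u) z) →
      (∀ u z, ((g⁻¹ : GL (ι → γ) F) : Matrix (ι → γ) (ι → γ) F) *ᵥ pair j u z = pair j (π.symm u) z) :=
    fun g _ π hgπ u z => by rw [← π.apply_symm_apply u, ← hgπ, mulVec_inv_self, π.symm_apply_apply]
  -- the algebra acting on the layers
  obtain ⟨S, hS', hSP, hSπ, C, hC, hns⟩ : ∃ S : Submodule F (EndP (Rest j) γ F), LS ω S ∧
      S ≤ P ∧ (∀ g ∈ X, ∀ π : ((Rest j → γ) → F) ≃ₗ[F] ((Rest j → γ) → F),
        (∀ u z, (g : Matrix (ι → γ) (ι → γ) F) *ᵥ pair j u z = pair j (π u) z) →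
        ∀ a ∈ S, π.toLinearMap.comp (a.comp π.symm.toLinearMap) ∈ S) ∧
      ∃ C ∈ S, ∀ c : F, C ≠ c • LinearMap.id := by
    rcases lt_or_ge (Fintype.card γ) 5 with h5 | h5
    · have h2 : (2 : F) ≠ 0 := hchar.resolve_right (by omega)
      obtain ⟨C, hC, hns⟩ := exists_cen T h4 h2 hX hA₀ hns₀
      refine ⟨{ carrier := {A | ∀ B ∈ P, A.comp B ∈ P}
                zero_mem' := fun B _ => by rw [LinearMap.zero_comp]; exact P.zero_mem
                add_mem' := fun {a b} ha hb B hB => by rw [LinearMap.add_comp]; exact P.add_mem (ha B hB) (hb B hB)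
                smul_mem' := fun r a ha B hB => by rw [LinearMap.smul_comp]; exact P.smul_mem r (ha B hB) },
        ⟨fun l d t a ha B hB => ?_, fun a ha b hb B hB => ?_⟩, fun a ha => ?_, fun g hg π hgπ a ha B hB => ?_, C,
        fun B hB => cen_comp hA R₁ (hX.xj j) h4 hC hB, hns⟩
      · have h1 : cj ω l d t (a.comp (cj ω l d (-t) B)) ∈ P := inAlg_cj hA R₁ hX l d t (ha _ (inAlg_cj hA R₁ hX l d (-t) hB))
        rwa [show cj ω l d t (a.comp (cj ω l d (-t) B)) = (cj ω l d t a).comp B from LinearMap.ext fun v => by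
          simp only [cj, LinearMap.comp_apply, neg_neg]
          rw [← LinearMap.comp_apply (f := slotOp l (transv ω d t)) (g := slotOp l (transv ω d (-t))) (x := v),
            slotOp_comp, transv_comp_neg hA, slotOp_id, LinearMap.id_apply]] at h1
      · rw [LinearMap.comp_assoc]; exact ha _ (hb B hB)
      · simpa using ha LinearMap.id (inAlg_one hA (hX.xj j))
      · have h1 := inAlg_conj R₁ (hX.xj j) hg π hgπ hA
          (ha _ (inAlg_conj R₁ (hX.xj j) (inv_mem hg) π.symm (hπ' g hg π hgπ) hA hB))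
        show InAlg ω X j _
        convert h1 using 1
        exact LinearMap.ext fun v => by simp
    · exact ⟨P, ⟨fun l d t a ha => inAlg_cj hA R₁ hX l d t ha,
        fun a ha b hb => inAlg_comp hA R₁ (hX.xj j) h5 hb ha⟩, le_rfl,
        fun g hg π hgπ a ha => inAlg_conj R₁ (hX.xj j) hg π hgπ hA ha, A₀, hA₀, hns₀⟩
  obtain ⟨l, hl⟩ := exists_slot hA h4 hS' hC hns
  haveI : Nonempty (Rest j) := ⟨l⟩
  have hall : ∀ l' D, slotOp l' D ∈ S := by
    intro l' D
    obtain ⟨g, hg, π, hgπ, hπ⟩ := hX.perm l l'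
    have := hSπ g hg π hgπ _ (hl D)
    rwa [show π.toLinearMap.comp ((slotOp l D).comp π.symm.toLinearMap) = slotOp l' D from LinearMap.ext fun v => by
      simp only [LinearMap.comp_apply, LinearEquiv.coe_coe]
      have h1 := DFunLike.congr_fun (hπ D) (π.symm v)
      simp only [LinearMap.comp_apply, LinearEquiv.coe_coe] at h1
      rw [h1, π.apply_symm_apply]] at this
  exact hSP (eq_top_of_slots hA hS'.prod hall ▸ Submodule.mem_top)

end Cfsg.Lib.Classical.TensorPow
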