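import Cfsg.Agent.Classical.TensorPow.Seed

/-! The Siegel elements on pure tensors generate `Ω`. -/

set_option autoImplicit false
set_option linter.unusedSectionVars false
set_option linter.unusedSimpArgs false
set_option linter.style.haveILetI false

namespace Cfsg.Lib.Classical.TensorPow

open Matrix Finset
open Cfsg.Lib.Classical.TensorQ (Alt mulVec_omega)

universe u

variable {ι γ : Type} [Fintype ι] [DecidableEq ι] [Fintype γ] [DecidableEq γ] {F : Type u} [Field F] [Finite F]
  {ω : LinearMap.BilinForm F (γ → F)} {B : LinearMap.BilinForm F ((ι → γ) → F)}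
  {Q : QuadraticForm F ((ι → γ) → F)} {X : Subgroup (GL (ι → γ) F)}

/-- The sizes of a maximal orthogonal tensor power. -/
structure Big (ι γ : Type) [Fintype ι] [Fintype γ] (F : Type u) [Field F] : Prop where
  two_le : 2 ≤ Fintype.card γ
  char : (2 : F) ≠ 0 ∨ 5 ≤ Fintype.card γ
  small : Fintype.card γ = 2 → (2 : F) ≠ 0 ∧ 3 ≤ Fintype.card ι
  par : (2 : F) ≠ 0 → Even (Fintype.card ι)
  many : 2 ≤ Fintype.card ι

namespace OP

variable (S : OP ω B Q)
include S

theorem seed_at (hX : Mid Q X) (hb : Big ι γ F) {j : ι} (hS : ¬ RadScalar ω X j) {x y : ι → γ → F}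
    (h : ω (x j) (y j) = 0) : Seed Q X (pt x) (pt y) := by
  by_cases hx : x j = 0
  · rw [pt_eq_zero (i := j) hx]
    exact seed_of_zero _
  have hA := S.tp.alt
  rw [pt_eq_pair j x, pt_eq_pair j y]
  rcases four_le_or_two hA hb.two_le with h4 | h2
  · exact S.seed_layer_four hX h4 hb.char hb.par hS _ _ hx h
  · obtain ⟨f, hf⟩ := hA.exists_one hx
    obtain ⟨a, b, hab⟩ := span_two hA h2 (e := x j) (f := f) (by
      rw [hA.skew f, hf]; exact neg_ne_zero.mpr one_ne_zero) (y j)
    have hb0 : b = 0 := by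
      rw [hab, map_add, map_smul, map_smul, hA.self, smul_zero, zero_add, hA.skew f, hf, smul_eq_mul] at h
      simpa using h
    rw [hab, hb0, zero_smul, add_zero, pair_smul_right, ← pair_smul_left]
    exact S.seed_line_two hX h2 (hb.small h2).1 hS _ _ hx

/-- Test tensors for two given slots. -/
theorem exists_data (hb : Big ι γ F) {j l : ι} (hlj : l ≠ j) :
    ∃ x y a : ι → γ → F, x l = y l ∧ x l ≠ 0 ∧ (∀ i, ω (x i) (a i) ≠ 0) ∧ ω (x j) (y j) = 0 ∧
      (∃ i, i ≠ l ∧ ω (y i) (a i) = 0) ∧ (∀ i, y i ≠ 0) ∧ (∀ i, a i ≠ 0) ∧ (∀ s : F, y l ≠ s • a l) ∧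
      ∀ s : F, y j ≠ s • a j := by
  classical
  haveI : Nonempty γ := Fintype.card_pos_iff.mp (by have := hb.two_le; omega)
  have hA := S.tp.alt
  obtain ⟨p, q, hpq⟩ := S.tp.exists_pair
  have hp : p ≠ 0 := fun h => by rw [h, map_zero, LinearMap.zero_apply] at hpq; exact zero_ne_one hpq
  have hq : q ≠ 0 := fun h => by rw [h, map_zero] at hpq; exact zero_ne_one hpq
  have hpq' : ∀ s : F, p ≠ s • q := fun s h => by
    rw [h, map_smul, LinearMap.smul_apply, hA.self, smul_zero] at hpq; exact zero_ne_one hpq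
  by_cases h3 : 3 ≤ Fintype.card ι
  · obtain ⟨m, hmj, hml⟩ : ∃ m, m ≠ j ∧ m ≠ l := by
      by_contra hc
      push Not at hc
      have hsub : (univ : Finset ι) ⊆ {j, l} := fun i _ => by
        by_cases h : i = j
        · simp [h]
        · simp [hc i h]
      have := (Finset.card_le_card hsub).trans Finset.card_le_two
      rw [Finset.card_univ] at this
      omega
    refine ⟨fun _ => p, Function.update (fun _ => p) m q, fun _ => q, by rw [Function.update_of_ne hml.symm], hp,
      fun i => by rw [hpq]; exact one_ne_zero, by rw [Function.update_of_ne hmj.symm, hA.self],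
      ⟨m, hml, by rw [Function.update_self, hA.self]⟩, fun i => ?_, fun _ => hq, ?_, ?_⟩
    · by_cases hi : i = m
      · subst hi; rwa [Function.update_self]
      · rwa [Function.update_of_ne hi]
    · rw [Function.update_of_ne hml.symm]; exact hpq'
    · rw [Function.update_of_ne hmj.symm]; exact hpq'
  · have h4 : 4 ≤ Fintype.card γ := by
      rcases four_le_or_two hA hb.two_le with h | h
      · exact h
      · exact absurd (hb.small h).2 h3
    obtain ⟨r₀, r', hr₀, hr', hrr⟩ := hA.exists_pair_perp ![p] (by omega)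
    have hpr₀ : ω p r₀ = 0 := hr₀ 0
    have hpr' : ω p r' = 0 := hr' 0
    set r := r₀ + ω q r₀ • p with hr
    have hpr : ω p r = 0 := by rw [hr, map_add, map_smul, hpr₀, hA.self, smul_zero, add_zero]
    have hrq : ω r q = 0 := by
      rw [hr, map_add, LinearMap.add_apply, map_smul, LinearMap.smul_apply, hpq, hA.skew q r₀, smul_eq_mul, mul_one,
        neg_add_cancel]
    have hr0 : r ≠ 0 := fun h0 => by
      have h1 := congrArg (fun z => ω z r') h0
      simp only [hr, map_add, LinearMap.add_apply, map_smul, LinearMap.smul_apply, hrr, hpr', smul_zero, add_zero,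
        map_zero, LinearMap.zero_apply] at h1
      exact one_ne_zero h1
    refine ⟨fun _ => p, Function.update (fun _ => p) j r, fun _ => q, by rw [Function.update_of_ne hlj], hp,
      fun i => by rw [hpq]; exact one_ne_zero, by rw [Function.update_self, hpr],
      ⟨j, hlj.symm, by rw [Function.update_self, hrq]⟩, fun i => ?_, fun _ => hq, ?_, ?_⟩
    · by_cases hi : i = j
      · subst hi; rwa [Function.update_self]
      · rwa [Function.update_of_ne hi]
    · rw [Function.update_of_ne hlj]; exact hpq'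
    · rw [Function.update_self]
      intro s hs
      rw [hs, map_smul, hpq, smul_eq_mul, mul_one] at hpr
      exact hr0 (by rw [hs, hpr, zero_smul])

/-- A Siegel element of one slot acting on the test tensor. -/
theorem siegel_test {j l : ι} {x y a : ι → γ → F} (hxy : ω (x j) (y j) = 0)
    (hya : ∃ i, i ≠ l ∧ ω (y i) (a i) = 0) (hxa : ∀ i, ω (x i) (a i) ≠ 0) :
    ∃ c : F, c ≠ 0 ∧ Refl.siegelMap Q (pt x) (pt y) (pt a) = pt a + c • pt y ∧
      QuadraticMap.polar (⇑Q) (pt x) (pt y) = 0 := by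
  obtain ⟨c, hc, hB⟩ := S.tp.pure
  obtain ⟨i, -, hi⟩ := hya
  refine ⟨c * ∏ i, ω (x i) (a i), mul_ne_zero hc (Finset.prod_ne_zero_iff.mpr fun i _ => hxa i), ?_, ?_⟩
  · rw [Refl.siegelMap, S.pure0, S.polar, S.polar, hB (x := y) (y := a),
      Finset.prod_eq_zero (f := fun i => ω (y i) (a i)) (mem_univ i) hi, hB]
    simp
  · rw [S.polar, hB, Finset.prod_eq_zero (f := fun i => ω (x i) (y i)) (mem_univ j) hxy, mul_zero]

/-- A non-scalar radical spreads to every slot. -/
theorem not_radScalar (hX : Mid Q X) (hb : Big ι γ F) {j : ι} (hS : ¬ RadScalar ω X j) (l : ι) :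
    ¬ RadScalar ω X l := by
  by_cases hlj : l = j
  · rwa [hlj]
  intro hR
  have hA := S.tp.alt
  obtain ⟨x, y, a, hxl, hx0, hxa, hxy, hya, hy0, ha0, hyal, hyaj⟩ := S.exists_data hb hlj
  obtain ⟨g, hg, hgv⟩ := S.seed_at hX hb hS hxy
  haveI : Nonempty γ := Fintype.card_pos_iff.mp (by have := hb.two_le; omega)
  obtain ⟨B₁, R₁⟩ := exists_rest1 S.tp l
  obtain ⟨s, hs⟩ := hR (x l) hx0 g hg (fun u => by
    rw [hgv, Refl.siegelMap, S.polar, S.polar, pt_eq_pair l x, pt_eq_pair l y, ← hxl, S.pair_lay, S.pair_lay, ← pt_eq_pair]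
    simp) fun v hv => by
    refine ⟨QuadraticMap.polar (⇑Q) (pt x) v • pt (fun i : Rest l => y i) +
      (-QuadraticMap.polar (⇑Q) (pt y) v - Q (pt y) * QuadraticMap.polar (⇑Q) (pt x) v) •
        pt (fun i : Rest l => x i), ?_⟩
    rw [hgv, Refl.siegelMap, pair_add_left, pair_smul_left, pair_smul_left, ← pt_eq_pair]
    conv_rhs => rw [hxl, ← pt_eq_pair]
    rw [add_assoc]
  obtain ⟨c, hc, hsv, -⟩ := S.siegel_test hxy hya hxa
  have h1 := hs (pt fun i : Rest l => a i) (a l)
  rw [← pt_eq_pair, hgv, hsv] at h1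
  have hc' : cwj ω l (a l) (c • pt y) = cwj ω l (a l) (pair l (pt fun i : Rest l => a i) (s (a l))) := by
    rw [← h1, map_add, pt_eq_pair l a, cwj_pair, hA.self, zero_smul, zero_add]
  rw [map_smul, pt_eq_pair l y, cwj_pair, cwj_pair, smul_smul, ← hxl] at hc'
  have hne : c * ω (x l) (a l) ≠ 0 := mul_ne_zero hc (hxa l)
  have hprop : pt (fun i : Rest l => y i) =
      ((c * ω (x l) (a l))⁻¹ * ω (s (a l)) (a l)) • pt fun i : Rest l => a i := by
    rw [mul_smul, ← hc', smul_smul, inv_mul_cancel₀ hne, one_smul]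
  obtain ⟨r, hr⟩ := pt_prop hprop (pt_ne_zero fun i => hy0 i) (⟨j, Ne.symm hlj⟩ : Rest l)
  exact hyaj r hr

/-- Siegel elements at pure tensors. -/
theorem seed_pure (hX : Mid Q X) (hb : Big ι γ F) (hS : ∀ j, ¬ RadScalar ω X j) (x : ι → γ → F)
    {z : (ι → γ) → F} (hz : QuadraticMap.polar (⇑Q) (pt x) z = 0) : Seed Q X (pt x) z := by
  classical
  haveI : Nonempty ι := Fintype.card_pos_iff.mp (by have := hb.many; omega)
  by_cases hx : ∃ i, x i = 0
  · obtain ⟨i, hi⟩ := hx
    rw [pt_eq_zero (i := i) hi]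
    exact seed_of_zero _
  push Not at hx
  have hA := S.tp.alt
  have hf' : ∀ i, ∃ f, ω (x i) f = 1 := fun i => by
    obtain ⟨f, hf⟩ := hA.exists_one (hx i)
    exact ⟨-f, by rw [map_neg, hA.skew f (x i), hf, neg_neg]⟩
  choose f hf using hf'
  obtain ⟨c, hc, hB⟩ := S.tp.pure
  set W : Submodule F ((ι → γ) → F) := Submodule.span F {v | ∃ y : ι → γ → F, v = pt y ∧ ∃ i, ω (x i) (y i) = 0}
  have hWmem : ∀ v ∈ W, ∀ r : F, QuadraticMap.polar (⇑Q) (pt x) (r • v) = 0 ∧ Seed Q X (pt x) (r • v) := by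
    intro v hv
    induction hv using Submodule.span_induction with
    | mem v hv =>
      obtain ⟨y, rfl, i, hi⟩ := hv
      intro r
      rw [show r • pt y = pt (Function.update y i (r • y i)) by rw [pt_update_smul, Function.update_eq_self]]
      have hi' : ω (x i) (Function.update y i (r • y i) i) = 0 := by
        rw [Function.update_self, map_smul, hi, smul_zero]
      refine ⟨?_, S.seed_at hX hb (hS i) hi'⟩
      rw [S.polar, hB, Finset.prod_eq_zero (f := fun l => ω (x l) (Function.update y i (r • y i) l)) (mem_univ i) hi',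
        mul_zero]
    | zero => intro r; rw [smul_zero]; exact ⟨QuadraticMap.polar_zero_right _ _, seed_zero _⟩
    | add v w _ _ ihv ihw =>
      intro r
      rw [smul_add]
      exact ⟨by rw [QuadraticMap.polar_add_right, (ihv r).1, (ihw r).1, add_zero],
        seed_add (S.pure0 x) (ihv r).1 (ihw r).1 (ihv r).2 (ihw r).2⟩
    | smul a v _ ih => intro r; rw [smul_smul]; exact ih _
  have hred : ∀ (s : Finset ι) (y : ι → γ → F),
      pt y - pt (fun i => if i ∈ s then ω (x i) (y i) • f i else y i) ∈ W := by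
    intro s
    induction s using Finset.induction with
    | empty => intro y; simp
    | insert l s hl ih =>
      intro y
      set y' : ι → γ → F := fun i => if i ∈ s then ω (x i) (y i) • f i else y i
      have hyl : y' l = y l := by simp [y', hl]
      have h1 : pt (Function.update y' l (y l - ω (x l) (y l) • f l)) ∈ W :=
        Submodule.subset_span ⟨_, rfl, l, by rw [Function.update_self, map_sub, map_smul, hf, smul_eq_mul, mul_one, sub_self]⟩
      have h2 : pt y' = pt (Function.update y' l (y l - ω (x l) (y l) • f l)) +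
          pt (Function.update y' l (ω (x l) (y l) • f l)) := by
        rw [← pt_update_add, sub_add_cancel, ← hyl, Function.update_eq_self]
      rw [show (fun i => if i ∈ insert l s then ω (x i) (y i) • f i else y i) =
        Function.update y' l (ω (x l) (y l) • f l) from funext fun i => by
          by_cases hi : i = l
          · subst hi; simp
          · simp [y', hi]]
      have := W.add_mem (ih y) h1
      rwa [show pt y - pt y' + pt (Function.update y' l (y l - ω (x l) (y l) • f l)) =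
        pt y - pt (Function.update y' l (ω (x l) (y l) • f l)) by rw [h2]; abel] at this
  have hall : ∀ v, v - (B (pt x) v / c) • pt f ∈ W := by
    intro v
    rw [eq_sum_pt v, map_sum, Finset.sum_div, Finset.sum_smul, ← Finset.sum_sub_distrib]
    refine W.sum_mem fun a _ => ?_
    rw [map_smul, smul_eq_mul, mul_div_assoc, mul_smul, ← smul_sub]
    refine W.smul_mem _ ?_
    have := hred univ fun i => Pi.single (a i) (1 : F)
    simp only [mem_univ, if_true] at this
    rwa [show pt (fun i => ω (x i) (Pi.single (a i) (1 : F)) • f i) =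
      (B (pt x) (pt fun i => Pi.single (a i) (1 : F)) / c) • pt f from funext fun b => by
        rw [hB, mul_div_cancel_left₀ _ hc]
        simp [pt, Finset.prod_mul_distrib]] at this
  have hzW := hall z
  rw [S.polar] at hz
  rw [hz, zero_div, zero_smul, sub_zero] at hzW
  have := hWmem z hzW 1
  rw [one_smul] at this
  exact this.2

theorem seed_singular (hX : Mid Q X) (hb : Big ι γ F) (hS : ∀ j, ¬ RadScalar ω X j) {x z : (ι → γ) → F}
    (hx : Q x = 0) (hz : QuadraticMap.polar (⇑Q) x z = 0) : Seed Q X x z := by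
  by_cases hx0 : x = 0
  · rw [hx0]
    exact seed_of_zero _
  obtain ⟨v, hvx⟩ : ∃ v, QuadraticMap.polar (⇑Q) (pt v) x ≠ 0 := by
    by_contra hc
    push Not at hc
    exact hx0 (S.tp.nd fun y => by rw [S.symm, ← S.polar, hc])
  set b := QuadraticMap.polar (⇑Q) (pt v) x with hb'
  haveI : Nonempty ι := Fintype.card_pos_iff.mp (by have := hb.many; omega)
  have hA := S.tp.alt
  have hv : ∀ i, v i ≠ 0 := fun i h => hvx (by
    rw [hb', pt_eq_zero (i := i) h, QuadraticMap.polar_zero_left])
  have hf' : ∀ i, ∃ f, ω (v i) f = 1 := fun i => by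
    obtain ⟨f, hf⟩ := hA.exists_one (hv i)
    exact ⟨-f, by rw [map_neg, hA.skew f (v i), hf, neg_neg]⟩
  choose f hf using hf'
  obtain ⟨c, hc, hB⟩ := S.tp.pure
  obtain ⟨v', hv'⟩ : ∃ v', pt v' = (b / c) • pt f :=
    ⟨_, (pt_update_smul f (Classical.arbitrary ι) (b / c) _).trans (by rw [Function.update_eq_self])⟩
  set y := pt v' with hy
  have huy : QuadraticMap.polar (⇑Q) (pt v) y = b := by
    rw [hv', S.polar, map_smul, hB]
    simp only [hf, Finset.prod_const_one, smul_eq_mul, mul_one, div_mul_cancel₀ _ hc]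
  set z₀ := b⁻¹ • (x - y) with hz₀
  have huz : QuadraticMap.polar (⇑Q) (pt v) z₀ = 0 := by
    rw [hz₀, QuadraticMap.polar_smul_right, QuadraticMap.polar_sub_right, huy, ← hb', sub_self, smul_zero]
  obtain ⟨g, hg, hgx⟩ := S.seed_pure hX hb hS v huz
  set r := -QuadraticMap.polar (⇑Q) z₀ y - Q z₀ * b with hrdef
  have hgy : (g : Matrix (ι → γ) (ι → γ) F) *ᵥ y = x + r • pt v := by
    rw [hgx, Refl.siegelMap, huy, hz₀, smul_smul, mul_inv_cancel₀ hvx, one_smul, add_sub_cancel, ← hz₀, ← hrdef]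
  have hr : r = 0 := by
    have h1 := (Refl.mem_iff Q).mp (S.mid_iso hX hg) y
    rw [hgy, QuadraticMap.map_add (f := Q), QuadraticMap.map_smul, QuadraticMap.polar_smul_right, S.pure0, hy, S.pure0,
      hx, QuadraticMap.polar_comm (⇑Q) x, ← hb'] at h1
    simp only [smul_eq_mul, mul_zero, add_zero, zero_add, mul_eq_zero] at h1
    exact h1.resolve_right hvx
  rw [hr, zero_smul, add_zero] at hgy
  have hzy : QuadraticMap.polar (⇑Q) y (((g⁻¹ : GL (ι → γ) F) : Matrix (ι → γ) (ι → γ) F) *ᵥ z) = 0 := by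
    rw [S.polar, ← S.isometry_B (S.mid_iso hX hg), hgy, mulVec_self_inv, ← S.polar, hz]
  have := S.seed_conj hg (S.mid_iso hX hg) (S.seed_pure hX hb hS v' (hy ▸ hzy))
  rwa [← hy, hgy, mulVec_self_inv] at this

theorem le_of_not_radScalar (hX : Mid Q X) (hb : Big ι γ F) {j : ι} (hS : ¬ RadScalar ω X j) :
    Cfsg.Geo.omegaGL (⇑Q) ≤ X := by
  have hall := fun l => S.not_radScalar hX hb hS l
  intro g hg
  obtain ⟨h, hh, rfl⟩ := (Refl.mem_omegaGL Q g).mp hg
  rw [Refl.omega_eq_closure_all Q S.nondeg S.card_ge] at hh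
  induction hh using Subgroup.closure_induction with
  | mem k hk =>
    obtain ⟨x, z, hx, hz, rfl⟩ := hk
    obtain ⟨s, hs, hsx⟩ := S.seed_singular hX hb hall hx hz
    have : s = (Refl.siegelG Q hx hz : Cfsg.isometryGroup F (⇑Q)) := ext_pt_GL fun v => by
      rw [hsx]
      exact (Refl.mat_siegelG Q hx hz _).symm
    exact this ▸ hs
  | one => exact one_mem X
  | mul a b ha hb' iha ihb =>
    rw [Subgroup.coe_mul]
    rw [← Refl.omega_eq_closure_all Q S.nondeg S.card_ge] at ha hb'
    exact mul_mem (iha (mulVec_omega a ha)) (ihb (mulVec_omega b hb'))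
  | inv a ha iha =>
    rw [Subgroup.coe_inv]
    rw [← Refl.omega_eq_closure_all Q S.nondeg S.card_ge] at ha
    exact inv_mem (iha (mulVec_omega a ha))

theorem exists_not_lp (hb : Big ι γ F) : ∃ g ∈ Cfsg.Geo.omegaGL (⇑Q), ¬ LP g := by
  haveI : Nonempty ι := Fintype.card_pos_iff.mp (by have := hb.many; omega)
  haveI : Nontrivial ι := Fintype.one_lt_card_iff_nontrivial.mp (by have := hb.many; omega)
  obtain ⟨j, l, hjl⟩ := exists_pair_ne ι
  obtain ⟨x, y, a, hxl, hx0, hxa, hxy, hya, hy0, ha0, hyal, hyaj⟩ := S.exists_data hb hjl.symm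
  obtain ⟨c, hc, hsv, hpol⟩ := S.siegel_test hxy hya hxa
  refine ⟨_, mulVec_omega _ (Refl.siegelG_mem_omega Q S.nondeg S.card_ge (S.pure0 x) hpol), fun hlp => ?_⟩
  obtain ⟨σ, A, hA⟩ := LP.structure hlp hb.two_le
  have h1 := hA a
  rw [show ((Refl.siegelG Q (S.pure0 x) hpol : Cfsg.isometryGroup F (⇑Q)) : GL (ι → γ) F).1 *ᵥ pt a = _ from
    Refl.mat_siegelG Q (S.pure0 x) hpol (pt a), hsv,
    show c • pt y = pt (Function.update y l (c • y l)) by rw [pt_update_smul, Function.update_eq_self]] at h1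
  obtain ⟨i, hi⟩ := shared (pt_ne_zero ha0) (pt_ne_zero fun i => by
    by_cases hil : i = l
    · subst hil; rw [Function.update_self]; exact smul_ne_zero hc (hy0 i)
    · rw [Function.update_of_ne hil]; exact hy0 i) h1
  by_cases hij : i = j
  · obtain ⟨s, hs⟩ := hi l (hij ▸ hjl.symm)
    rw [Function.update_self] at hs
    exact hyal (c⁻¹ * s) (by rw [mul_smul, ← hs, smul_smul, inv_mul_cancel₀ hc, one_smul])
  · obtain ⟨s, hs⟩ := hi j (Ne.symm hij)
    rw [Function.update_of_ne hjl] at hs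
    exact hyaj s hs

/-- The stabiliser of the tensor power is maximal in `Ω`. -/
theorem isMaximalIn [Fintype F] (hb : Big ι γ F) (hq : 4 / Fintype.card γ + 1 < Fintype.card F)
    (hs : Fintype.card γ = 2 → ∃ s : F, s ≠ 0 ∧ s * s ≠ 1) :
    Cfsg.Geo.IsMaximalIn (Cfsg.Geo.omegaGL (⇑Q)) (lpSubgroup ι γ F ⊓ Cfsg.Geo.omegaGL (⇑Q)) := by
  refine ⟨lt_of_le_of_ne inf_le_right fun h => ?_, fun M h₁ h₂ => ?_⟩
  · obtain ⟨g, hg, hn⟩ := S.exists_not_lp hb
    rw [← h] at hg
    exact hn hg.1
  · have hX : Mid Q M := ⟨h₂, fun g hlp hg => h₁ ⟨hlp, hg⟩⟩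
    by_cases hR : ∀ j, RadScalar ω M j
    · refine Or.inl (le_antisymm (fun g hg => ⟨?_, h₂ hg⟩) h₁)
      refine lp_of_radScalar S.tp ?_ (hb.char.imp id fun h => by omega) hq (fun j => S.xj hX j) hR hg
      rcases four_le_or_two S.tp.alt hb.two_le with h4 | h2k
      · exact Or.inl h4
      · exact Or.inr ⟨h2k, hs h2k⟩
    · push Not at hR
      obtain ⟨j, hj⟩ := hR
      exact Or.inr (le_antisymm h₂ (S.le_of_not_radScalar hX hb hj))

end OP

end Cfsg.Lib.Classical.TensorPow
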