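import Cfsg.Agent.Classical.TensorPow.Setup

/-! Layers `U ⊗ e` and the maps permuting them. -/

set_option autoImplicit false
set_option linter.unusedSectionVars false
set_option linter.unusedSimpArgs false

namespace Cfsg.Lib.Classical.TensorPow

open Matrix Finset

universe u

variable {ι γ : Type} [Fintype ι] [DecidableEq ι] [Fintype γ] [DecidableEq γ] {F : Type u} [Field F]

/-- The layer `U ⊗ e` at the factor `j`. -/
def lay (j : ι) (e : γ → F) : Submodule F ((ι → γ) → F) := LinearMap.range (pairL j e)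

theorem pair_mem_lay (j : ι) (u : (Rest j → γ) → F) (e : γ → F) : pair j u e ∈ lay j e := ⟨u, rfl⟩

theorem finrank_lay (j : ι) {e : γ → F} (he : e ≠ 0) :
    Module.finrank F (lay j e) = Fintype.card γ ^ (Fintype.card ι - 1) := by
  rw [lay, LinearMap.finrank_range_of_inj (pairL_injective j he), Module.finrank_pi, Fintype.card_fun]
  congr 1
  simp [Fintype.card_subtype_compl]

theorem lay_smul (j : ι) (c : F) (hc : c ≠ 0) (e : γ → F) : lay j (c • e) = lay j e := by
  ext v
  constructor
  · rintro ⟨u, rfl⟩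
    exact ⟨c • u, by show pair j (c • u) e = pair j u (c • e); rw [pair_smul_left, pair_smul_right]⟩
  · rintro ⟨u, rfl⟩
    refine ⟨c⁻¹ • u, ?_⟩
    show pair j (c⁻¹ • u) (c • e) = pair j u e
    rw [pair_smul_left, pair_smul_right, smul_smul, inv_mul_cancel₀ hc, one_smul]

theorem mem_lay_cross {j : ι} {e : γ → F} {v : (ι → γ) → F} (h : v ∈ lay j e) (a : ι → γ) (p : γ) :
    v (Function.update a j p) * e (a j) = v a * e p := by
  obtain ⟨u, rfl⟩ := h
  show pair j u e _ * _ = pair j u e _ * _
  rw [pair_apply, pair_apply, Function.update_self,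
    show (fun i : Rest j => Function.update a j p i) = fun i : Rest j => a i from
      funext fun i => Function.update_of_ne i.2 _ _]
  ring

theorem pt_mem_lay {x : ι → γ → F} (j : ι) : pt x ∈ lay j (x j) := by
  rw [pt_eq_pair j]
  exact pair_mem_lay _ _ _

theorem pt_mem_lay_iff {x : ι → γ → F} (hx : pt x ≠ 0) {j : ι} {e : γ → F} (he : e ≠ 0) :
    pt x ∈ lay j e ↔ ∃ c : F, x j = c • e := by
  constructor
  · rintro ⟨u, hu⟩
    obtain ⟨q, hq⟩ := Function.ne_iff.mp he
    obtain ⟨b, hb⟩ := Function.ne_iff.mp (pt_ne_zero (x := fun l : Rest j => x l) fun l => ne_zero_of_pt hx l)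
    refine ⟨u b / pt (fun l : Rest j => x l) b, funext fun p => ?_⟩
    have := congrFun hu (ext j b p)
    change pair j u e _ = _ at this
    rw [pt_eq_pair j x, pair_ext, pair_ext] at this
    rw [Pi.smul_apply, smul_eq_mul]
    simp only [Pi.zero_apply] at hb
    field_simp
    linear_combination -this
  · rintro ⟨c, hc⟩
    rw [pt_eq_pair j x, hc, pair_smul_right]
    exact Submodule.smul_mem _ _ (pair_mem_lay _ _ _)

/-- A vector in the layers of all factors is a pure tensor. -/
theorem eq_pt_of_mem {y : ι → γ → F} (hy : ∀ i, y i ≠ 0) {v : (ι → γ) → F} (h : ∀ i, v ∈ lay i (y i)) :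
    ∃ c : F, v = c • pt y := by
  choose b hb using fun i => Function.ne_iff.mp (hy i)
  refine ⟨v b / pt y b, funext fun a => ?_⟩
  have key : ∀ s : Finset ι, v (fun i => if i ∈ s then a i else b i) * ∏ i ∈ s, y i (b i) =
      v b * ∏ i ∈ s, y i (a i) := by
    intro s
    induction s using Finset.induction with
    | empty => simp
    | insert j s hj ih =>
      have h1 := mem_lay_cross (h j) (fun i => if i ∈ s then a i else b i) (a j)
      rw [if_neg hj, show Function.update (fun i => if i ∈ s then a i else b i) j (a j) =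
        fun i => if i ∈ insert j s then a i else b i from funext fun i => by
          by_cases hij : i = j
          · subst hij; simp
          · simp [hij]] at h1
      rw [Finset.prod_insert hj, Finset.prod_insert hj]
      linear_combination (∏ i ∈ s, y i (b i)) * h1 + y j (a j) * ih
  have hne : pt y b ≠ 0 := Finset.prod_ne_zero_iff.mpr fun i _ => hb i
  have := key univ
  simp only [mem_univ, if_true] at this
  rw [Pi.smul_apply, smul_eq_mul]
  field_simp
  exact this

theorem lay_inj {j : ι} {e e' : γ → F} (he : e ≠ 0) (he' : e' ≠ 0) {v : (ι → γ) → F} (hv : v ≠ 0)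
    (h : v ∈ lay j e) (h' : v ∈ lay j e') : ∃ c : F, e' = c • e := by
  obtain ⟨a, ha⟩ := Function.ne_iff.mp hv
  have hea : e (a j) ≠ 0 := by
    obtain ⟨u, rfl⟩ := h
    exact right_ne_zero_of_mul ha
  refine ⟨e' (a j) / e (a j), funext fun p => ?_⟩
  have e1 := mem_lay_cross h a p
  have e2 := mem_lay_cross h' a p
  rw [Pi.smul_apply, smul_eq_mul]
  simp only [Pi.zero_apply] at ha
  field_simp
  exact mul_left_cancel₀ ha (by linear_combination e' (a j) * e1 - e (a j) * e2)

/-- `g` maps layers into layers. -/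
def LP (g : GL (ι → γ) F) : Prop :=
  ∀ (j : ι) (e : γ → F), e ≠ 0 → ∃ (i : ι) (e' : γ → F), e' ≠ 0 ∧
    ∀ v ∈ lay j e, (g : Matrix (ι → γ) (ι → γ) F) *ᵥ v ∈ lay i e'

theorem LP.one : LP (1 : GL (ι → γ) F) := fun j e he =>
  ⟨j, e, he, fun v hv => by rwa [Units.val_one, one_mulVec]⟩

theorem LP.mul {g h : GL (ι → γ) F} (hg : LP g) (hh : LP h) : LP (g * h) := fun j e he => by
  obtain ⟨i, e', he', h1⟩ := hh j e he
  obtain ⟨l, e'', he'', h2⟩ := hg i e' he'
  exact ⟨l, e'', he'', fun v hv => by rw [Units.val_mul, ← mulVec_mulVec]; exact h2 _ (h1 v hv)⟩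

theorem LP.pow {g : GL (ι → γ) F} (hg : LP g) : ∀ m : ℕ, LP (g ^ m)
  | 0 => by rw [pow_zero]; exact LP.one
  | m + 1 => by rw [pow_succ]; exact (LP.pow hg m).mul hg

theorem LP.inv [Finite F] {g : GL (ι → γ) F} (hg : LP g) : LP g⁻¹ := by
  obtain ⟨m, hm, e⟩ := (isOfFinOrder_of_finite g).exists_pow_eq_one
  rw [show g⁻¹ = g ^ (m - 1) from inv_eq_of_mul_eq_one_right (by rw [← pow_succ', Nat.sub_add_cancel hm, e])]
  exact hg.pow _

/-- The subgroup of the maps permuting the layers. -/
def lpSubgroup (ι γ : Type) [Fintype ι] [DecidableEq ι] [Fintype γ] [DecidableEq γ] (F : Type u) [Field F]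
    [Finite F] : Subgroup (GL (ι → γ) F) where
  carrier := {g | LP g}
  one_mem' := LP.one
  mul_mem' := LP.mul
  inv_mem' := LP.inv

theorem LP.map_lay {g : GL (ι → γ) F} {j i : ι} {e e' : γ → F} (he : e ≠ 0) (he' : e' ≠ 0)
    (h : ∀ v ∈ lay j e, (g : Matrix (ι → γ) (ι → γ) F) *ᵥ v ∈ lay i e') {w : (ι → γ) → F} (hw : w ∈ lay i e') :
    ∃ v ∈ lay j e, (g : Matrix (ι → γ) (ι → γ) F) *ᵥ v = w := by
  have hle : (lay j e).map (g : Matrix (ι → γ) (ι → γ) F).mulVecLin ≤ lay i e' := by
    rintro _ ⟨v, hv, rfl⟩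
    exact h v hv
  have hinj : Function.Injective (g : Matrix (ι → γ) (ι → γ) F).mulVecLin :=
    Matrix.mulVec_injective_of_isUnit g.isUnit
  have heq : (lay j e).map (g : Matrix (ι → γ) (ι → γ) F).mulVecLin = lay i e' := by
    refine Submodule.eq_of_le_of_finrank_eq hle ?_
    rw [← (Submodule.equivMapOfInjective _ hinj _).finrank_eq, finrank_lay j he, finrank_lay i he']
  rw [← heq] at hw
  obtain ⟨v, hv, rfl⟩ := hw
  exact ⟨v, hv, rfl⟩

/-- A map permuting layers is a permutation of the factors followed by a map of each factor. -/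
theorem LP.structure [Nonempty ι] {g : GL (ι → γ) F} (hg : LP g) (hk : 2 ≤ Fintype.card γ) :
    ∃ (σ : Equiv.Perm ι) (a : ι → (γ → F) →ₗ[F] (γ → F)), ∀ x,
      (g : Matrix (ι → γ) (ι → γ) F) *ᵥ pt x = pt (fun i => a i (x (σ i))) := by
  classical
  haveI : Nonempty γ := Fintype.card_pos_iff.mp (by omega)
  haveI : Nontrivial γ := Fintype.one_lt_card_iff_nontrivial.mp (by omega)
  obtain ⟨p₀, p₁, hp⟩ := exists_pair_ne γ
  have hinj : Function.Injective ((g : Matrix (ι → γ) (ι → γ) F).mulVec) :=
    Matrix.mulVec_injective_of_isUnit g.isUnit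
  have hzero : ∀ v, (g : Matrix (ι → γ) (ι → γ) F) *ᵥ v = 0 → v = 0 := fun v hv => hinj (by rw [hv, mulVec_zero])
  choose! s ψ hψ0 hψ using hg
  set e0 : γ → F := Pi.single p₀ 1 with he0
  have he00 : e0 ≠ 0 := by simp [he0]
  -- the factor of the image does not depend on the vector
  have hind : ∀ j e e', e ≠ 0 → e' ≠ 0 → (∀ c : F, e' ≠ c • e) → s j e = s j e' := by
    intro j e e' he he' hne
    by_contra hs
    set z : ι → γ → F := fun i => if i = s j e then ψ j e else ψ j e' with hz
    have hz0 : pt z ≠ 0 := pt_ne_zero fun i => by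
      simp only [hz]; split <;> [exact hψ0 j e he; exact hψ0 j e' he']
    have h1 : pt z ∈ lay (s j e) (ψ j e) := by
      simpa [hz] using pt_mem_lay (x := z) (s j e)
    have h2 : pt z ∈ lay (s j e') (ψ j e') := by
      simpa [hz, Ne.symm hs] using pt_mem_lay (x := z) (s j e')
    obtain ⟨v, hv, hgv⟩ := LP.map_lay he (hψ0 j e he) (hψ j e he) h1
    obtain ⟨v', hv', hgv'⟩ := LP.map_lay he' (hψ0 j e' he') (hψ j e' he') h2
    obtain rfl := hinj (hgv.trans hgv'.symm)
    obtain ⟨c, hc⟩ := lay_inj he he' (fun h0 => hz0 (by rw [← hgv, h0, mulVec_zero])) hv hv'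
    exact hne c hc
  have hconst : ∀ j e, e ≠ 0 → s j e = s j e0 := by
    intro j e he
    by_cases h : ∀ c : F, e ≠ c • e0
    · exact (hind j e0 e he00 he h).symm
    · push Not at h
      obtain ⟨c, hc⟩ := h
      have he1 : (Pi.single p₁ 1 : γ → F) ≠ 0 := by simp
      have h1 : ∀ d : F, (Pi.single p₁ 1 : γ → F) ≠ d • e0 := fun d hd => by
        have := congrFun hd p₁; simp [he0, hp, Ne.symm hp] at this
      have h2 : ∀ d : F, (Pi.single p₁ 1 : γ → F) ≠ d • e := fun d hd => h1 (d * c) (by rw [hd, hc, smul_smul])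
      exact (hind j e _ he he1 h2).trans (hind j e0 _ he00 he1 h1).symm
  have hsinj : Function.Injective fun j => s j e0 := by
    intro j l hjl
    change s j e0 = s l e0 at hjl
    by_contra hne
    set x : ι → γ → F := fun _ => e0
    set x' : ι → γ → F := Function.update x l (Pi.single p₁ 1) with hx'
    have hx0 : pt x ≠ 0 := pt_ne_zero fun _ => he00
    have hx'0 : pt x' ≠ 0 := pt_ne_zero fun i => by
      by_cases hi : i = l
      · subst hi; simp [hx']
      · simpa [hx', hi, x] using he00
    have m1 : pt x ∈ lay j e0 := pt_mem_lay (x := x) j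
    have m2 : pt x ∈ lay l e0 := pt_mem_lay (x := x) l
    have m3 : pt x' ∈ lay j e0 := by
      have := pt_mem_lay (x := x') j; rwa [hx', Function.update_of_ne hne, ← hx'] at this
    obtain ⟨c, hc⟩ := lay_inj (hψ0 j e0 he00) (hψ0 l e0 he00) (fun h0 => hx0 (hzero _ h0))
      (hψ j e0 he00 _ m1) (hjl ▸ hψ l e0 he00 _ m2)
    have hc0 : c ≠ 0 := by rintro rfl; exact hψ0 l e0 he00 (by rw [hc, zero_smul])
    have hlay : lay (s l e0) (ψ l e0) = lay (s j e0) (ψ j e0) := by rw [hc, lay_smul _ _ hc0, hjl]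
    obtain ⟨v, hv, hgv⟩ := LP.map_lay he00 (hψ0 l e0 he00) (hψ l e0 he00) (hlay ▸ hψ j e0 he00 _ m3)
    rw [hinj hgv] at hv
    obtain ⟨d, hd⟩ := (pt_mem_lay_iff hx'0 he00).mp hv
    rw [hx', Function.update_self] at hd
    have := congrFun hd p₁
    simp [he0, hp, Ne.symm hp] at this
  let τ : Equiv.Perm ι := Equiv.ofBijective _ ⟨hsinj, (Finite.injective_iff_surjective).mp hsinj⟩
  have himg : ∀ x : ι → γ → F, (∀ i, x i ≠ 0) → ∃ c : F, c ≠ 0 ∧
      (g : Matrix (ι → γ) (ι → γ) F) *ᵥ pt x = c • pt (fun i => ψ (τ.symm i) (x (τ.symm i))) := by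
    intro x hx
    obtain ⟨c, hc⟩ := eq_pt_of_mem (y := fun i => ψ (τ.symm i) (x (τ.symm i))) (fun i => hψ0 _ _ (hx _))
      (v := (g : Matrix (ι → γ) (ι → γ) F) *ᵥ pt x) fun i => by
        have := hψ (τ.symm i) _ (hx _) _ (pt_mem_lay (x := x) (τ.symm i))
        rw [hconst _ _ (hx _)] at this
        rwa [show s (τ.symm i) e0 = i from τ.apply_symm_apply i] at this
    refine ⟨c, ?_, hc⟩
    rintro rfl
    rw [zero_smul] at hc
    exact pt_ne_zero hx (hzero _ hc)
  choose b hb using fun i => Function.ne_iff.mp (hψ0 (τ.symm i) e0 he00)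
  let a : ι → (γ → F) →ₗ[F] (γ → F) := fun i =>
    { toFun := fun v p => ((g : Matrix (ι → γ) (ι → γ) F) *ᵥ pt (Function.update (fun _ => e0) (τ.symm i) v))
        (Function.update b i p)
      map_add' := fun v w => funext fun p => by rw [pt_update_add, mulVec_add]; rfl
      map_smul' := fun c v => funext fun p => by rw [pt_update_smul, mulVec_smul]; rfl }
  have ha : ∀ i v, v ≠ 0 → ∃ c : F, c ≠ 0 ∧ a i v = c • ψ (τ.symm i) v := by
    intro i v hv
    obtain ⟨c, hc0, hc⟩ := himg (Function.update (fun _ => e0) (τ.symm i) v) fun l => by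
      by_cases hl : l = τ.symm i
      · subst hl; rwa [Function.update_self]
      · rwa [Function.update_of_ne hl]
    refine ⟨c * ∏ l ∈ univ.erase i, ψ (τ.symm l) e0 (b l), mul_ne_zero hc0
      (Finset.prod_ne_zero_iff.mpr fun l _ => hb l), funext fun p => ?_⟩
    show ((g : Matrix (ι → γ) (ι → γ) F) *ᵥ _) _ = _
    rw [hc, Pi.smul_apply, Pi.smul_apply, smul_eq_mul, smul_eq_mul, pt, ← Finset.prod_erase_mul univ _ (mem_univ i),
      Function.update_self, Function.update_self, ← mul_assoc]
    congr 2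
    refine Finset.prod_congr rfl fun l hl => ?_
    have hli := Finset.ne_of_mem_erase hl
    rw [Function.update_of_ne hli, Function.update_of_ne (fun h => hli (τ.symm.injective h))]
  have ha0 : ∀ i v, v ≠ 0 → a i v ≠ 0 := fun i v hv => by
    obtain ⟨c, hc, e⟩ := ha i v hv
    rw [e]
    exact smul_ne_zero hc (hψ0 _ _ hv)
  have hainj : ∀ i, Function.Injective (a i) := fun i => by
    rw [← LinearMap.ker_eq_bot, LinearMap.ker_eq_bot']
    exact fun v hv => by_contra fun h => ha0 i v h hv
  set Y : (ι → γ → F) → (ι → γ → F) := fun x i => a i (x (τ.symm i)) with hY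
  have hY0 : ∀ x : ι → γ → F, (∀ i, x i ≠ 0) → pt (Y x) ≠ 0 := fun x hx => pt_ne_zero fun i => ha0 i _ (hx _)
  have hκ : ∀ x : ι → γ → F, (∀ i, x i ≠ 0) → ∃ κ : F, (g : Matrix (ι → γ) (ι → γ) F) *ᵥ pt x = κ • pt (Y x) := by
    intro x hx
    obtain ⟨c, hc0, hc⟩ := himg x hx
    choose d hd0 hd using fun i => ha i (x (τ.symm i)) (hx _)
    refine ⟨c / ∏ i, d i, ?_⟩
    rw [hc, show pt (Y x) = (∏ i, d i) • pt (fun i => ψ (τ.symm i) (x (τ.symm i))) from funext fun q => by
      simp only [hY, pt, hd, Pi.smul_apply, smul_eq_mul, Finset.prod_mul_distrib], smul_smul,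
      div_mul_cancel₀ _ (Finset.prod_ne_zero_iff.mpr fun i _ => hd0 i)]
  choose! κ hκ using hκ
  have hYu : ∀ (x : ι → γ → F) l v, Y (Function.update x l v) = Function.update (Y x) (τ l) (a (τ l) v) := by
    intro x l v
    funext i
    by_cases hi : i = τ l
    · subst hi; simp [hY]
    · rw [Function.update_of_ne hi]
      simp only [hY]
      rw [Function.update_of_ne (fun h => hi (by rw [← h, Equiv.apply_symm_apply]))]
  have hstep : ∀ x : ι → γ → F, (∀ i, x i ≠ 0) → ∀ l v, v ≠ 0 → κ (Function.update x l v) = κ x := by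
    intro x hx l
    set K : (γ → F) → F := fun v => κ (Function.update x l v) with hK
    have hxu : ∀ v : γ → F, v ≠ 0 → ∀ i, Function.update x l v i ≠ 0 := fun v hv i => by
      by_cases hi : i = l
      · subst hi; rwa [Function.update_self]
      · rw [Function.update_of_ne hi]; exact hx i
    have hK' : ∀ v, v ≠ 0 → (g : Matrix (ι → γ) (ι → γ) F) *ᵥ pt (Function.update x l v) =
        pt (Function.update (Y x) (τ l) (K v • a (τ l) v)) := fun v hv => by
      rw [hκ _ (hxu v hv), hYu, pt_update_smul]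
    have hrest : pt (fun i : Rest (τ l) => Y x i) ≠ 0 := pt_ne_zero fun i => ha0 _ _ (hx _)
    have hcan : ∀ p q : γ → F, pt (Function.update (Y x) (τ l) p) = pt (Function.update (Y x) (τ l) q) → p = q := by
      intro p q h
      rw [pt_update, pt_update] at h
      obtain ⟨b', hb'⟩ := Function.ne_iff.mp hrest
      funext r
      have := congrFun h (ext (τ l) b' r)
      rw [pair_ext, pair_ext] at this
      exact mul_left_cancel₀ hb' this
    have hadd : ∀ v w, v ≠ 0 → w ≠ 0 → v + w ≠ 0 →
        K (v + w) • a (τ l) (v + w) = K v • a (τ l) v + K w • a (τ l) w := fun v w hv hw hvw => hcan _ _ (by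
      rw [pt_update_add, ← hK' _ hvw, ← hK' _ hv, ← hK' _ hw, ← mulVec_add, ← pt_update_add])
    have hindep : ∀ v w, v ≠ 0 → (∀ c : F, w ≠ c • v) → K v = K w := by
      intro v w hv hne
      have hw : w ≠ 0 := fun h => hne 0 (by rw [h, zero_smul])
      have hvw : v + w ≠ 0 := fun h => hne (-1) (by rw [neg_one_smul]; exact (neg_eq_of_add_eq_zero_right h).symm)
      have h := hadd v w hv hw hvw
      rw [← map_smul, ← map_smul, ← map_smul, ← map_add] at h
      have h' := hainj _ h
      rw [smul_add] at h'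
      have e1 : (K (v + w) - K v) • v = (K w - K (v + w)) • w := by
        rw [sub_smul, sub_smul]; linear_combination (norm := module) h'
      have h1 : K w = K (v + w) := by
        by_contra hc
        refine hne ((K w - K (v + w))⁻¹ * (K (v + w) - K v)) ?_
        rw [mul_smul, e1, smul_smul, inv_mul_cancel₀ (sub_ne_zero.mpr hc), one_smul]
      rw [h1, sub_self, zero_smul] at e1
      rw [h1, ← sub_eq_zero.mp ((smul_eq_zero.mp e1).resolve_right hv)]
    have hall : ∀ v w, v ≠ 0 → w ≠ 0 → K v = K w := by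
      intro v w hv hw
      by_cases h : ∀ c : F, w ≠ c • v
      · exact hindep v w hv h
      push Not at h
      obtain ⟨c, hc⟩ := h
      obtain ⟨z, hz⟩ : ∃ z : γ → F, ∀ d : F, z ≠ d • v := by
        obtain ⟨q, hq⟩ := Function.ne_iff.mp hv
        obtain ⟨r, hr⟩ := exists_ne q
        exact ⟨Pi.single r 1, fun d hd => by
          have h1 := congrFun hd q
          have h2 := congrFun hd r
          simp [Ne.symm hr] at h1 h2
          rcases h1 with h1 | h1
          · simp [h1] at h2
          · exact hq h1⟩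
      have hzw : ∀ d : F, z ≠ d • w := fun d hd => hz (d * c) (by rw [hd, hc, smul_smul])
      exact (hindep v z hv hz).trans (hindep w z hw hzw).symm
    intro v hv
    have := hall v (x l) hv (hx l)
    simp only [hK, Function.update_eq_self] at this
    exact this
  have hκc : ∀ x : ι → γ → F, (∀ i, x i ≠ 0) → κ x = κ (fun _ => e0) := by
    intro x hx
    have key : ∀ t : Finset ι, κ (fun i => if i ∈ t then x i else e0) = κ (fun _ => e0) := by
      intro t
      induction t using Finset.induction with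
      | empty => simp
      | insert j t hj ih =>
        rw [← ih, ← hstep (fun i => if i ∈ t then x i else e0) (fun i => by split <;> [exact hx i; exact he00])
          j (x j) (hx j)]
        congr 1
        funext i
        by_cases hij : i = j
        · subst hij; simp
        · simp [hij]
    have := key univ
    simpa using this
  set κ₀ := κ (fun _ => e0)
  obtain ⟨i₀⟩ := ‹Nonempty ι›
  refine ⟨τ.symm, Function.update a i₀ (κ₀ • a i₀), fun x => ?_⟩
  by_cases hx : ∀ i, x i ≠ 0
  · rw [hκ x hx, hκc x hx, show (fun i => Function.update a i₀ (κ₀ • a i₀) i (x (τ.symm i))) =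
      Function.update (Y x) i₀ (κ₀ • Y x i₀) from funext fun i => by
        by_cases hi : i = i₀
        · subst hi; simp [hY]
        · simp [hY, hi], pt_update_smul, Function.update_eq_self]
  · push Not at hx
    obtain ⟨i, hi⟩ := hx
    rw [pt_eq_zero hi, mulVec_zero, pt_eq_zero (i := τ i)]
    simp [hi]

end Cfsg.Lib.Classical.TensorPow
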