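import Cfsg.Agent.Classical.TensorPow.Sp
import Cfsg.Agent.Classical.TensorMax.Main
import Cfsg.Agent.Classical.Symp.Matrix

/-! The stabiliser of a symplectic tensor power is maximal in the symplectic group. -/

set_option autoImplicit false
set_option linter.unusedSectionVars false
set_option linter.unusedSimpArgs false
set_option linter.style.haveILetI false

namespace Cfsg.Lib.Classical.TensorPow

open Matrix Finset
open Cfsg.Lib.Classical (BilinIsom)
open Cfsg.Lib.Classical.TensorQ (Alt)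

universe u

variable {ι γ : Type} [Fintype ι] [DecidableEq ι] [Fintype γ] [DecidableEq γ] {F : Type u} [Field F]
  {ω : LinearMap.BilinForm F (γ → F)} {B : LinearMap.BilinForm F ((ι → γ) → F)}

/-- The maximality in the isometry group of an alternating tensor power. -/
theorem isMaximalIn_isometry [Fintype F] (T : TP ω B) (hB : B.IsAlt) (hk : 2 ≤ Fintype.card γ)
    (hq : 4 / Fintype.card γ + 1 < Fintype.card F)
    (hs : Fintype.card γ = 2 → ∃ s : F, s ≠ 0 ∧ s * s ≠ 1) (h2 : (2 : F) ≠ 0) (ht : 2 ≤ Fintype.card ι)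
    {G : Subgroup (GL (ι → γ) F)}
    (hG : ∀ g, g ∈ G ↔ ∀ u v,
      B ((g : Matrix (ι → γ) (ι → γ) F) *ᵥ u) ((g : Matrix (ι → γ) (ι → γ) F) *ᵥ v) = B u v) :
    Cfsg.Geo.IsMaximalIn G (lpSubgroup ι γ F ⊓ G) := by
  classical
  haveI : Nonempty γ := Fintype.card_pos_iff.mp (by omega)
  haveI : Nonempty ι := Fintype.card_pos_iff.mp (by omega)
  have hA := T.alt
  refine ⟨lt_of_le_of_ne inf_le_right fun h => ?_, fun M h₁ h₂ => ?_⟩
  · obtain ⟨q, p, hqp⟩ := T.exists_pair
    obtain ⟨g, hgv⟩ : ∃ g : BilinIsom B, ∀ x,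
        (g : ((ι → γ) → F) ≃ₗ[F] _) x = x + (1 * B x (pt fun _ => p)) • pt fun _ => p :=
      ⟨Cfsg.Lib.Classical.sympT hB (pt fun _ => p) 1, fun x => Cfsg.Lib.Classical.sympT_apply hB _ _ x⟩
    have hmem : toGL B g ∈ lpSubgroup ι γ F ⊓ G := by
      rw [h, hG]
      intro u v
      rw [toGL_mulVec, toGL_mulVec]
      exact g.2 u v
    obtain ⟨σ, a, ha⟩ := LP.structure (hmem.1 : LP (toGL B g)) hk
    obtain ⟨c, hc, hBc⟩ := T.pure
    have hq0 : q ≠ 0 := fun h0 => by rw [h0, map_zero, LinearMap.zero_apply] at hqp; exact zero_ne_one hqp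
    have hp0 : p ≠ 0 := fun h0 => by rw [h0, map_zero] at hqp; exact zero_ne_one hqp
    have h1 := ha fun _ => q
    rw [toGL_mulVec, hgv, hBc, one_mul, hqp, Finset.prod_const_one, mul_one,
      show c • pt (fun _ : ι => p) = pt (Function.update (fun _ => p) (Classical.arbitrary ι) (c • p)) by
        rw [pt_update_smul]; simp] at h1
    obtain ⟨j, hj⟩ := shared (pt_ne_zero fun _ => hq0) (pt_ne_zero fun i => by
      by_cases hi : i = Classical.arbitrary ι
      · subst hi; simpa using smul_ne_zero hc hp0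
      · simpa [hi] using hp0) h1
    obtain ⟨i, hi⟩ : ∃ i, i ≠ j := by
      haveI : Nontrivial ι := Fintype.one_lt_card_iff_nontrivial.mp (by omega)
      exact exists_ne j
    obtain ⟨s, hs'⟩ := hj i hi
    have h3 := congrArg (fun z => ω q z) hs'
    by_cases hi' : i = Classical.arbitrary ι
    · subst hi'
      simp [hqp, hA.self, hc] at h3
    · simp [hi', hqp, hA.self] at h3
  · by_cases hR : ∀ j, RadScalar ω M j
    · refine Or.inl (le_antisymm (fun g hg => ⟨?_, h₂ hg⟩) h₁)
      refine lp_of_radScalar T ?_ (Or.inl h2) hq (fun j => ⟨fun g hg => (hG g).mp (h₂ hg), fun d t => ?_⟩) hR hg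
      · rcases four_le_or_two hA hk with h4 | h2k
        · exact Or.inl h4
        · exact Or.inr ⟨h2k, hs h2k⟩
      · obtain ⟨g, hg⟩ := exists_isTr hA j d t
        exact ⟨g, h₁ ⟨hg.lp T, (hG g).mpr (hg.isometry T)⟩, hg⟩
    · push Not at hR
      obtain ⟨j, hj⟩ := hR
      refine Or.inr (le_antisymm h₂ fun g hg => isometry_mem T hB hk h2 (fun i => ⟨fun g hg => (hG g).mp (h₂ hg),
        fun d t => ?_⟩) (fun σ => ?_) hj ((hG g).mp hg))
      · obtain ⟨g, hg⟩ := exists_isTr hA i d t
        exact ⟨g, h₁ ⟨hg.lp T, (hG g).mpr (hg.isometry T)⟩, hg⟩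
      · obtain ⟨g, hgv, -⟩ := exists_permGL (γ := γ) (F := F) σ
        exact ⟨g, h₁ ⟨lp_of_perm σ hgv, (hG g).mpr fun u v => by rw [hgv, hgv]; exact T.pperm_isometry σ u v⟩, hgv⟩

section Transport

variable {N : Type} [Fintype N] [DecidableEq N] {k t : ℕ}

/-- The coordinates of the decomposition. -/
def coords (e : N ≃ (Fin t → Fin k)) (P : GL N F) : ((Fin t → Fin k) → F) →ₗ[F] (N → F) :=
  (P : Matrix N N F).mulVecLin.comp (LinearMap.funLeft F F e)

theorem coords_apply (e : N ≃ (Fin t → Fin k)) (P : GL N F) (x : (Fin t → Fin k) → F) :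
    coords e P x = (P : Matrix N N F) *ᵥ (x ∘ e) := rfl

theorem coords_surj (e : N ≃ (Fin t → Fin k)) (P : GL N F) (y : N → F) : ∃ x, coords e P x = y :=
  ⟨(((P⁻¹ : GL N F) : Matrix N N F) *ᵥ y) ∘ e.symm, by
    rw [coords_apply, Function.comp_assoc, Equiv.symm_comp_self, Function.comp_id, mulVec_self_inv]⟩

theorem coords_inj (e : N ≃ (Fin t → Fin k)) (P : GL N F) : Function.Injective (coords e P) := fun x y h => by
  rw [coords_apply, coords_apply] at h
  have := Matrix.mulVec_injective_of_isUnit P.isUnit h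
  funext a
  simpa using congrFun this (e.symm a)

/-- The isomorphism of matrix groups. -/
def transport (e : N ≃ (Fin t → Fin k)) (P : GL N F) : GL (Fin t → Fin k) F ≃* GL N F :=
  (Cfsg.Geo.glReindex e.symm).trans (MulAut.conj P)

theorem transport_act (e : N ≃ (Fin t → Fin k)) (P : GL N F) (g : GL (Fin t → Fin k) F) (x : (Fin t → Fin k) → F) :
    ((transport e P g : GL N F) : Matrix N N F) *ᵥ coords e P x =
      coords e P ((g : Matrix (Fin t → Fin k) (Fin t → Fin k) F) *ᵥ x) := by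
  show ((P * Cfsg.Geo.glReindex e.symm g * P⁻¹ : GL N F) : Matrix N N F) *ᵥ _ = _
  rw [coords_apply, coords_apply, mulVec_mulVec, ← Units.val_mul, inv_mul_cancel_right, Units.val_mul,
    ← mulVec_mulVec]
  congr 1
  show ((g : Matrix (Fin t → Fin k) (Fin t → Fin k) F).submatrix e e) *ᵥ (x ∘ e) = _
  rw [Matrix.submatrix_mulVec_equiv, Function.comp_assoc, Equiv.self_comp_symm, Function.comp_id]

theorem tensorWreathSubgroup_eq (e : N ≃ (Fin t → Fin k)) (P : GL N F) :
    Cfsg.Geo.tensorWreathSubgroup k t e P = (Cfsg.Geo.tensorWreathStandard k t F).map (transport e P).toMonoidHom := by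
  rw [Cfsg.Geo.tensorWreathSubgroup, Subgroup.map_map]
  rfl

theorem exists_tp {f : (N → F) → (N → F) → F} {f₁ : (Fin k → F) → (Fin k → F) → F}
    (hf₁ : Cfsg.Geo.IsSymplecticForm f₁) {e : N ≃ (Fin t → Fin k)} {P : GL N F}
    (hT : Cfsg.Geo.IsTensorPowerFormStructure id f f₁ e P) :
    ∃ (ω : LinearMap.BilinForm F (Fin k → F)) (B : LinearMap.BilinForm F ((Fin t → Fin k) → F)),
      TP ω B ∧ ∀ x y, f (coords e P x) (coords e P y) = B x y := by
  obtain ⟨c, hc, hT⟩ := hT
  set ω : LinearMap.BilinForm F (Fin k → F) :=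
    LinearMap.mk₂ F f₁ hf₁.bilinear.add_left hf₁.bilinear.smul_left hf₁.bilinear.add_right hf₁.bilinear.smul_right
    with hω
  have hωe : ∀ v w, ω v w = f₁ v w := fun v w => rfl
  have hg : ω = Matrix.toLinearMap₂' F (Cfsg.Geo.gramMatrix f₁) :=
    LinearMap.ext_basis (Pi.basisFun F (Fin k)) (Pi.basisFun F (Fin k)) fun i j => by
      rw [Pi.basisFun_apply, Pi.basisFun_apply, Matrix.toLinearMap₂'_apply']
      simp [hω, Cfsg.Geo.gramMatrix]
  have hA : Alt ω := ⟨fun v => by rw [hωe]; exact hf₁.alternating v, fun v hv => by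
    by_contra h0
    obtain ⟨-, x, hx⟩ := hf₁.nondegenerate v h0
    exact hx (hv x)⟩
  set M : Matrix (Fin t → Fin k) (Fin t → Fin k) F :=
    Matrix.of fun a b => c * ∏ i, Cfsg.Geo.gramMatrix f₁ (a i) (b i) with hM
  refine ⟨ω, Matrix.toLinearMap₂' F M, ⟨hA, c, hc, fun x y => ?_⟩, fun x y => ?_⟩
  · simp only [hg, Matrix.toLinearMap₂'_apply', dotProduct, mulVec, pt, Finset.mul_sum, hM, Matrix.of_apply]
    rw [Finset.prod_univ_sum, Fintype.piFinset_univ, Finset.mul_sum]
    refine Finset.sum_congr rfl fun a _ => ?_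
    rw [Finset.prod_univ_sum, Fintype.piFinset_univ, Finset.mul_sum]
    refine Finset.sum_congr rfl fun b _ => ?_
    rw [Finset.prod_mul_distrib, Finset.prod_mul_distrib]
    ring
  · rw [coords_apply, coords_apply, hT]
    simp only [Matrix.toLinearMap₂'_apply', dotProduct, mulVec, hM, Matrix.of_apply, id_eq, Finset.mul_sum]
    refine Finset.sum_congr rfl fun a _ => Finset.sum_congr rfl fun b _ => ?_
    ring

theorem two_le_k {f₁ : (Fin k → F) → (Fin k → F) → F} (hf₁ : Cfsg.Geo.IsSymplecticForm f₁) (hk0 : k ≠ 0) :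
    2 ≤ k := by
  by_contra h
  obtain rfl : k = 1 := by omega
  have hv : (fun _ => 1 : Fin 1 → F) ≠ 0 := fun h => one_ne_zero (congrFun h 0)
  obtain ⟨-, w, hw⟩ := hf₁.nondegenerate _ hv
  apply hw
  rw [show w = w 0 • (fun _ => 1 : Fin 1 → F) from funext fun i => by
    rw [Fin.fin_one_eq_zero i, Pi.smul_apply, smul_eq_mul, mul_one], hf₁.bilinear.smul_right, hf₁.alternating]
  simp

end Transport

theorem isMaximalIn_sp [Fintype F] {m k t : ℕ} (hm : 7 ≤ m) (hodd : Odd (Fintype.card F)) (ht3 : 3 ≤ t)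
    (hex : ¬ (Fintype.card F = 3 ∧ k = 2)) (e : (Fin m ⊕ Fin m) ≃ (Fin t → Fin k)) (P : GL (Fin m ⊕ Fin m) F)
    (f₁ : (Fin k → F) → (Fin k → F) → F) (hf₁ : Cfsg.Geo.IsSymplecticForm f₁)
    (hT : Cfsg.Geo.IsTensorPowerFormStructure id (Cfsg.sympForm m F) f₁ e P) :
    Cfsg.Geo.IsMaximalIn (Cfsg.spGL m F) (Cfsg.Geo.tensorWreathSubgroup k t e P ⊓ Cfsg.spGL m F) := by
  classical
  have hcard : 2 * m = k ^ t := by simpa [two_mul] using Fintype.card_congr e
  have hk : 2 ≤ k := two_le_k hf₁ fun h => by rw [h, zero_pow (by omega)] at hcard; omega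
  obtain ⟨ω, B, T, hfB⟩ := exists_tp hf₁ hT
  have h2 : (2 : F) ≠ 0 := Ring.two_ne_zero (R := F) fun h => by
    have := FiniteField.even_card_iff_char_two.mp h
    rw [Nat.odd_iff] at hodd
    omega
  have hq3 : 3 ≤ Fintype.card F := by
    have := Fintype.one_lt_card (α := F)
    rw [Nat.odd_iff] at hodd
    omega
  have hB : B.IsAlt := fun x => by
    rw [← hfB, ← Cfsg.Lib.Classical.sympBilin_eq_sympForm]
    exact Cfsg.Lib.Classical.sympBilin_isAlt m F _
  let G : Subgroup (GL (Fin t → Fin k) F) := (Cfsg.spGL m F).comap (transport e P).toMonoidHom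
  have hG : ∀ g, g ∈ G ↔ ∀ u v, B ((g : Matrix (Fin t → Fin k) (Fin t → Fin k) F) *ᵥ u)
      ((g : Matrix (Fin t → Fin k) (Fin t → Fin k) F) *ᵥ v) = B u v := by
    intro g
    show transport e P g ∈ Cfsg.spGL m F ↔ _
    constructor
    · intro h u v
      rw [← hfB, ← hfB, ← transport_act, ← transport_act]
      exact h _ _
    · intro h u v
      obtain ⟨u', rfl⟩ := coords_surj e P u
      obtain ⟨v', rfl⟩ := coords_surj e P v
      show Cfsg.sympForm m F ((transport e P g : GL _ F).1 *ᵥ _) ((transport e P g : GL _ F).1 *ᵥ _) = _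
      rw [transport_act, transport_act, hfB, hfB, h]
  have hmax := isMaximalIn_isometry T hB (by rwa [Fintype.card_fin]) (by
      rw [Fintype.card_fin]
      rcases eq_or_lt_of_le hk with rfl | hk'
      · have : Fintype.card F ≠ 3 := fun h => hex ⟨h, rfl⟩
        rw [Nat.odd_iff] at hodd
        omega
      · have : 4 / k ≤ 4 / 3 := Nat.div_le_div_left hk' (by omega)
        omega) (fun hk2 => by
      rw [Fintype.card_fin] at hk2
      by_contra hc
      push Not at hc
      have hsub : (univ : Finset F) ⊆ {0, 1, -1} := fun s _ => by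
        by_cases h0 : s = 0
        · simp [h0]
        rcases mul_self_eq_one_iff.mp (hc s h0) with h | h <;> simp [h]
      have := Finset.card_le_card hsub
      have h3 := Finset.card_le_three (a := (0 : F)) (b := 1) (c := -1)
      rw [Finset.card_univ] at this
      exact hex ⟨by omega, hk2⟩) h2 (by rw [Fintype.card_fin]; omega) hG
  have := TensorMax.isMaximalIn_map (transport e P) hmax
  have hGmap : G.map (transport e P).toMonoidHom = Cfsg.spGL m F :=
    Subgroup.map_comap_eq_self_of_surjective (transport e P).surjective _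
  rwa [Subgroup.map_inf _ _ _ (transport e P).injective, hGmap, ← tensorWreathStandard_eq hk (by omega),
    ← tensorWreathSubgroup_eq] at this

end Cfsg.Lib.Classical.TensorPow
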