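import Cfsg.Agent.Classical.TensorPow.Gen
import Cfsg.Agent.Classical.TensorPow.Main
import Cfsg.Agent.Classical.TensorQ.Main

/-! The stabiliser of a tensor power of a symplectic form is maximal in `Ω`. -/

set_option autoImplicit false
set_option linter.unusedSectionVars false
set_option linter.unusedSimpArgs false
set_option linter.style.haveILetI false

namespace Cfsg.Lib.Classical.TensorPow

open Matrix Finset
open Cfsg.Lib.Classical.TensorQ (omegaGL_eq)

universe u

variable {F : Type u} [Field F] [Fintype F]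

theorem two_ne_zero_iff_odd : (2 : F) ≠ 0 ↔ Odd (Fintype.card F) := by
  constructor
  · intro h
    rcases Nat.even_or_odd (Fintype.card F) with he | ho
    · have h1 : ringChar F = 2 := FiniteField.even_card_iff_char_two.mpr (Nat.even_iff.mp he)
      refine absurd ?_ h
      have h3 := ringChar.Nat.cast_ringChar (R := F)
      rw [h1] at h3
      exact_mod_cast h3
    · exact ho
  · intro ho
    refine Ring.two_ne_zero (R := F) fun h => ?_
    have := FiniteField.even_card_iff_char_two.mp h
    rw [Nat.odd_iff] at ho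
    omega

theorem exists_sq_ne_one (h3 : 3 < Fintype.card F) : ∃ s : F, s ≠ 0 ∧ s * s ≠ 1 := by
  classical
  by_contra hc
  push Not at hc
  have hsub : (univ : Finset F) ⊆ {0, 1, -1} := fun s _ => by
    by_cases h0 : s = 0
    · simp [h0]
    rcases mul_self_eq_one_iff.mp (hc s h0) with h | h <;> simp [h]
  have := (Finset.card_le_card hsub).trans Finset.card_le_three
  rw [Finset.card_univ] at this
  omega

theorem isMaximalIn_omega {n k t : ℕ} (hn : 13 ≤ n) (Q : (Fin n → F) → F)
    (hQ : Cfsg.Geo.IsNondegenerateQuadraticForm Q) (ht : 2 ≤ t) (hqt : Odd (Fintype.card F) → Even t)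
    (hex2 : ¬ (Fintype.card F = 3 ∧ k = 2)) (hex3 : ¬ Odd (Fintype.card F) → 6 ≤ k) (e : Fin n ≃ (Fin t → Fin k))
    (P : GL (Fin n) F) (f₁ : (Fin k → F) → (Fin k → F) → F) (hf₁ : Cfsg.Geo.IsSymplecticForm f₁)
    (hT : Cfsg.Geo.IsTensorPowerFormStructure id (QuadraticMap.polar Q) f₁ e P)
    (hpure : ∀ xs : Fin t → (Fin k → F),
      Q ((P : Matrix (Fin n) (Fin n) F) *ᵥ ((fun a : Fin t → Fin k => ∏ i, xs i (a i)) ∘ e)) = 0) :
    Cfsg.Geo.IsMaximalIn (Cfsg.Geo.omegaGL Q)
      (Cfsg.Geo.tensorWreathSubgroup k t e P ⊓ Cfsg.Geo.omegaGL Q) := by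
  classical
  obtain ⟨Q₀, rfl, hQ₀⟩ := Refl.exists_form hQ
  have hcard : n = k ^ t := by simpa using Fintype.card_congr e
  have hk : 2 ≤ k := two_le_k hf₁ fun h => by rw [h, zero_pow (by omega)] at hcard; omega
  obtain ⟨ω, B, T, hfB⟩ := exists_tp hf₁ hT
  let Q' : QuadraticForm F ((Fin t → Fin k) → F) := Q₀.comp (coords e P)
  have hQ' : ∀ x, Q' x = Q₀ (coords e P x) := fun x => rfl
  have S : OP ω B Q' := by
    refine ⟨T, fun x y => ?_, fun x => hpure x, ?_⟩
    · rw [← hfB]
      simp only [QuadraticMap.polar, hQ', map_add]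
    · have := Fintype.card_congr e
      simp only [Fintype.card_fin] at this
      omega
  have hb : Big (Fin t) (Fin k) F := by
    refine ⟨by rwa [Fintype.card_fin], ?_, fun hk2 => ⟨?_, ?_⟩, fun h2 => ?_, by rwa [Fintype.card_fin]⟩
    · by_cases h : Odd (Fintype.card F)
      · exact Or.inl (two_ne_zero_iff_odd.mpr h)
      · exact Or.inr (by have := hex3 h; rw [Fintype.card_fin]; omega)
    · rw [Fintype.card_fin] at hk2
      exact two_ne_zero_iff_odd.mpr (by_contra fun h => by have := hex3 h; omega)
    · rw [Fintype.card_fin] at hk2 ⊢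
      by_contra h
      obtain rfl : t = 2 := by omega
      rw [hk2] at hcard
      omega
    · rw [Fintype.card_fin]
      exact hqt (two_ne_zero_iff_odd.mp h2)
  have hq1 : 2 ≤ Fintype.card F := Fintype.one_lt_card
  have hq : 4 / Fintype.card (Fin k) + 1 < Fintype.card F := by
    rw [Fintype.card_fin]
    rcases lt_or_ge 4 k with h4 | h4
    · rw [Nat.div_eq_of_lt h4]
      omega
    · have ho : Odd (Fintype.card F) := by_contra fun h => by have := hex3 h; omega
      rw [Nat.odd_iff] at ho
      rcases eq_or_lt_of_le hk with rfl | hk'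
      · have : Fintype.card F ≠ 3 := fun h => hex2 ⟨h, rfl⟩
        omega
      · have : 4 / k ≤ 4 / 3 := Nat.div_le_div_left hk' (by omega)
        omega
  have hmax := S.isMaximalIn hb hq fun hk2 => exists_sq_ne_one (by
    rw [Fintype.card_fin] at hk2
    subst hk2
    have ho : Odd (Fintype.card F) := by_contra fun h => by have := hex3 h; omega
    have : Fintype.card F ≠ 3 := fun h => hex2 ⟨h, rfl⟩
    rw [Nat.odd_iff] at ho
    omega)
  have hI : (Cfsg.isometryGroup F (⇑Q')).map (transport e P).toMonoidHom = Cfsg.isometryGroup F (⇑Q₀) := by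
    ext g
    rw [Subgroup.mem_map_equiv, Refl.mem_iff, Refl.mem_iff]
    constructor
    · intro h y
      obtain ⟨x, rfl⟩ := coords_surj e P y
      rw [← (transport e P).apply_symm_apply g, transport_act]
      exact h x
    · intro h x
      rw [hQ', hQ', ← transport_act, (transport e P).apply_symm_apply, h]
  have hΩ : (Cfsg.Geo.omegaGL (⇑Q')).map (transport e P).toMonoidHom = Cfsg.Geo.omegaGL (⇑Q₀) := by
    rw [omegaGL_eq, omegaGL_eq, Subgroup.map_commutator, hI]
  have := TensorMax.isMaximalIn_map (transport e P) hmax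
  rwa [Subgroup.map_inf _ _ _ (transport e P).injective, hΩ, ← tensorWreathStandard_eq hk (by omega),
    ← tensorWreathSubgroup_eq] at this

end Cfsg.Lib.Classical.TensorPow
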