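import Cfsg.Agent.Classical.TensorPow.Sp
import Cfsg.Agent.Classical.TensorQ.Elements

/-! Slot transvections and factor permutations in the orthogonal group of a tensor power. -/

set_option autoImplicit false
set_option linter.unusedSectionVars false
set_option linter.unusedSimpArgs false
set_option linter.style.haveILetI false

namespace Cfsg.Lib.Classical.TensorPow

open Matrix Finset
open Cfsg.Lib.Classical.TensorQ (Alt transv transv_apply mem_omega_of_layers mulVec_omega)

universe u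

/-- An isometry moving every vector inside a totally singular subspace that it fixes pointwise lies in `Ω`. -/
theorem mem_omega_of_singular {N : Type} [Fintype N] [DecidableEq N] {F : Type u} [Field F] [Finite F]
    {Q : QuadraticForm F (N → F)} (hQ : (QuadraticMap.polarBilin Q).Nondegenerate) (hn : 5 ≤ Fintype.card N)
    (U : Submodule F (N → F)) (h0 : ∀ x ∈ U, Q x = 0) {k : GL N F} (hk : k ∈ Cfsg.isometryGroup F (⇑Q))
    (hfix : ∀ x ∈ U, (k : Matrix N N F) *ᵥ x = x) (hmove : ∀ x, (k : Matrix N N F) *ᵥ x - x ∈ U) :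
    k ∈ Cfsg.Geo.omegaGL (⇑Q) := by
  classical
  let b := Module.finBasis F U
  have hv : ∀ j, ∃ v : N → F, ∀ i, QuadraticMap.polar (⇑Q) (b i : N → F) v = if i = j then 1 else 0 := by
    intro j
    obtain ⟨φ, hφ⟩ := LinearMap.exists_extend (b.coord j)
    refine ⟨(LinearMap.BilinForm.toDual (QuadraticMap.polarBilin Q) hQ).symm φ, fun i => ?_⟩
    rw [QuadraticMap.polar_comm, ← QuadraticMap.polarBilin_apply_apply,
      LinearMap.BilinForm.apply_toDual_symm_apply]
    show (φ.comp U.subtype) (b i) = _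
    rw [hφ, Module.Basis.coord_apply, Module.Basis.repr_self, Finsupp.single_apply]
  choose v hv using hv
  refine mem_omega_of_layers hQ hn (fun i => (b i : N → F)) v (fun i => h0 _ (b i).2) (fun i j => ?_)
    (fun i j => hv j i) k hk (fun i => hfix _ (b i).2) fun x _ => ?_
  · simp only [QuadraticMap.polar, h0 _ (U.add_mem (b i).2 (b j).2), h0 _ (b i).2, h0 _ (b j).2, sub_zero]
  · have hspan : Submodule.span F (Set.range fun i => (b i : N → F)) = U := by
      rw [show (Set.range fun i => (b i : N → F)) = U.subtype '' Set.range b by rw [← Set.range_comp]; rfl,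
        Submodule.span_image, b.span_eq, Submodule.map_top, Submodule.range_subtype]
    rw [hspan]
    exact hmove x

variable {ι γ : Type} [Fintype ι] [DecidableEq ι] [Fintype γ] [DecidableEq γ] {F : Type u} [Field F]

/-- A quadratic form on a symplectic tensor power, vanishing on the pure tensors. -/
structure OP (ω : LinearMap.BilinForm F (γ → F)) (B : LinearMap.BilinForm F ((ι → γ) → F))
    (Q : QuadraticForm F ((ι → γ) → F)) : Prop where
  tp : TP ω B
  polar : ∀ x y, QuadraticMap.polar (⇑Q) x y = B x y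
  pure0 : ∀ x, Q (pt x) = 0
  card_ge : 5 ≤ Fintype.card (ι → γ)

variable {ω : LinearMap.BilinForm F (γ → F)} {B : LinearMap.BilinForm F ((ι → γ) → F)}
  {Q : QuadraticForm F ((ι → γ) → F)}

namespace OP

variable (S : OP ω B Q)
include S

theorem symm (x y : (ι → γ) → F) : B x y = B y x := by rw [← S.polar, ← S.polar, QuadraticMap.polar_comm]

theorem nondeg : (QuadraticMap.polarBilin Q).Nondegenerate :=
  ⟨fun v h => S.tp.nd fun y => by rw [← S.polar]; exact h _,
    fun v h => S.tp.nd fun y => by rw [S.symm, ← S.polar]; exact h _⟩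

theorem pair_lay (j : ι) (u v : (Rest j → γ) → F) (e : γ → F) : B (pair j u e) (pair j v e) = 0 := by
  rcases isEmpty_or_nonempty γ with h | h
  · rw [show pair j u e = 0 from funext fun a => isEmptyElim (a j), map_zero, LinearMap.zero_apply]
  obtain ⟨B₁, R₁⟩ := exists_rest1 S.tp j
  rw [R₁.pair, S.tp.alt.self, mul_zero]

theorem lay_singular (j : ι) (e : γ → F) : ∀ x ∈ lay j e, Q x = 0 := by
  rintro _ ⟨u, rfl⟩
  rw [eq_sum_pt u]
  suffices h : ∀ s : Finset (Rest j → γ), Q (pairL j e (∑ a ∈ s, u a • pt fun i => Pi.single (a i) (1 : F))) = 0 from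
    h univ
  intro s
  induction s using Finset.induction with
  | empty => simp
  | insert a s ha ih =>
    rw [Finset.sum_insert ha, map_add, map_smul, QuadraticMap.map_add (f := Q), ih, QuadraticMap.map_smul,
      QuadraticMap.polar_smul_left, S.polar, show pairL j e (∑ x ∈ s, u x • pt fun i => Pi.single (x i) (1 : F)) =
        pair j (∑ x ∈ s, u x • pt fun i => Pi.single (x i) (1 : F)) e from rfl,
      show pairL j e (pt fun i => Pi.single (a i) (1 : F)) = pair j (pt fun i => Pi.single (a i) (1 : F)) e from rfl,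
      S.pair_lay]
    have : Q (pair j (pt fun i => Pi.single (a i) (1 : F)) e) = 0 := by
      set z : ι → γ → F := fun i => if h : i = j then e else Pi.single (a ⟨i, h⟩) 1 with hz
      rw [show pair j (pt fun i => Pi.single (a i) (1 : F)) e = pt z by
        rw [pt_eq_pair j z, show z j = e by simp [hz]]
        congr 2
        funext i
        simp [hz, i.2]]
      exact S.pure0 z
    rw [this]
    simp

theorem mem_isometry {g : GL (ι → γ) F} (h0 : ∀ x, Q ((g : Matrix (ι → γ) (ι → γ) F) *ᵥ pt x) = 0)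
    (h : ∀ u v, B ((g : Matrix (ι → γ) (ι → γ) F) *ᵥ u) ((g : Matrix (ι → γ) (ι → γ) F) *ᵥ v) = B u v) :
    g ∈ Cfsg.isometryGroup F (⇑Q) := by
  refine (Refl.mem_iff Q).mpr fun x => ?_
  rw [eq_sum_pt x]
  induction (univ : Finset (ι → γ)) using Finset.induction with
  | empty => simp
  | insert a s ha ih =>
    rw [Finset.sum_insert ha, mulVec_add, mulVec_smul, QuadraticMap.map_add (f := Q), QuadraticMap.map_add (f := Q), ih,
      QuadraticMap.map_smul, QuadraticMap.map_smul, h0, S.pure0, S.polar, S.polar, ← mulVec_smul, h]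

theorem isometry_B {g : GL (ι → γ) F} (hg : g ∈ Cfsg.isometryGroup F (⇑Q)) (u v : (ι → γ) → F) :
    B ((g : Matrix (ι → γ) (ι → γ) F) *ᵥ u) ((g : Matrix (ι → γ) (ι → γ) F) *ᵥ v) = B u v := by
  simp only [← S.polar, QuadraticMap.polar, ← mulVec_add, (Refl.mem_iff Q).mp hg]

theorem omega_le {g : GL (ι → γ) F} (hg : g ∈ Cfsg.Geo.omegaGL (⇑Q)) : g ∈ Cfsg.isometryGroup F (⇑Q) := by
  obtain ⟨h, -, rfl⟩ := (Refl.mem_omegaGL Q g).mp hg
  exact h.2

variable [Finite F]

theorem tr_mem_omega {j : ι} {d : γ → F} {t : F} {g : GL (ι → γ) F} (h : IsTr ω j d t g) :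
    g ∈ Cfsg.Geo.omegaGL (⇑Q) := by
  have hv : ∀ v, (g : Matrix (ι → γ) (ι → γ) F) *ᵥ v = v + t • pair j (cwj ω j d v) d := fun v => by
    refine DFunLike.congr_fun (ext_pair j (L := (g : Matrix (ι → γ) (ι → γ) F).mulVecLin)
      (L' := LinearMap.id + t • (pairL j d).comp (cwj ω j d)) fun u w => ?_) v
    show _ *ᵥ pair j u w = pair j u w + t • pair j (cwj ω j d (pair j u w)) d
    rw [h, cwj_pair, pair_add_right, pair_smul_right, pair_smul_left, smul_smul]
  have hiso : g ∈ Cfsg.isometryGroup F (⇑Q) := S.mem_isometry (fun x => by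
    rw [pt_eq_pair j x, h, ← pt_update]; exact S.pure0 _) (h.isometry S.tp)
  refine mem_omega_of_singular S.nondeg S.card_ge (lay j d) (S.lay_singular j d) hiso ?_ fun x => ?_
  · rintro _ ⟨u, rfl⟩
    show _ *ᵥ pair j u d = pair j u d
    rw [h, S.tp.alt.self, mul_zero, zero_smul, add_zero]
  · rw [hv, add_sub_cancel_left]
    exact Submodule.smul_mem _ _ (pair_mem_lay _ _ _)

theorem exists_tr (j : ι) (d : γ → F) (t : F) :
    ∃ g ∈ lpSubgroup ι γ F ⊓ Cfsg.Geo.omegaGL (⇑Q), IsTr ω j d t g := by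
  obtain ⟨g, hg⟩ := exists_isTr S.tp.alt j d t
  exact ⟨g, ⟨hg.lp S.tp, S.tr_mem_omega hg⟩, hg⟩

theorem perm_isometry {σ : Equiv.Perm ι} {g : GL (ι → γ) F}
    (hg : ∀ v, (g : Matrix (ι → γ) (ι → γ) F) *ᵥ v = pperm σ v) : g ∈ Cfsg.isometryGroup F (⇑Q) :=
  S.mem_isometry (fun x => by rw [hg, pperm_pt]; exact S.pure0 _)
    fun u v => by rw [hg, hg]; exact S.tp.pperm_isometry σ u v

/-- The square of a product of two transpositions is in `Ω`. -/
theorem exists_cycle (s₁ s₂ : Equiv.Perm ι) (h₁ : s₁ * s₁ = 1) (h₂ : s₂ * s₂ = 1) :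
    ∃ g ∈ lpSubgroup ι γ F ⊓ Cfsg.Geo.omegaGL (⇑Q),
      ∀ v, (g : Matrix (ι → γ) (ι → γ) F) *ᵥ v = pperm (s₁ * s₂ * s₁ * s₂) v := by
  obtain ⟨a, ha, -⟩ := exists_permGL (γ := γ) (F := F) s₁
  obtain ⟨b, hb, -⟩ := exists_permGL (γ := γ) (F := F) s₂
  have hmul : ∀ (σ τ : Equiv.Perm ι) (v : (ι → γ) → F), pperm σ (pperm τ v) = pperm (σ * τ) v := fun σ τ v => rfl
  have hone : ∀ v : (ι → γ) → F, pperm (1 : Equiv.Perm ι) v = v := fun v => rfl
  have hinv : ∀ (σ : Equiv.Perm ι) (c : GL (ι → γ) F), σ * σ = 1 →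
      (∀ v, (c : Matrix (ι → γ) (ι → γ) F) *ᵥ v = pperm σ v) → c⁻¹ = c := fun σ c hσ hc =>
    inv_eq_of_mul_eq_one_right (ext_pt_GL fun x => by
      rw [Units.val_mul, ← mulVec_mulVec, hc, hc, hmul, hσ, hone, Units.val_one, one_mulVec])
  have hv : ∀ v, ((a * b * a * b : GL (ι → γ) F) : Matrix (ι → γ) (ι → γ) F) *ᵥ v =
      pperm (s₁ * s₂ * s₁ * s₂) v := fun v => by
    rw [Units.val_mul, Units.val_mul, Units.val_mul, ← mulVec_mulVec, ← mulVec_mulVec, ← mulVec_mulVec, hb, ha, hb,
      ha, hmul, hmul, hmul]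
  refine ⟨a * b * a * b, ⟨lp_of_perm _ hv, ?_⟩, hv⟩
  rw [show Cfsg.Geo.omegaGL (⇑Q) = ⁅Cfsg.isometryGroup F (⇑Q), Cfsg.isometryGroup F (⇑Q)⁆ from
    Subgroup.map_subtype_commutator _]
  have := Subgroup.commutator_mem_commutator (S.perm_isometry ha) (S.perm_isometry hb)
  rwa [commutatorElement_def, hinv s₁ a h₁ ha, hinv s₂ b h₂ hb] at this

/-- In characteristic two a transposition fixing a third factor is in `Ω`. -/
theorem exists_swap (h2 : (2 : F) = 0) {a b j : ι} (haj : a ≠ j) (hbj : b ≠ j) :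
    ∃ g ∈ lpSubgroup ι γ F ⊓ Cfsg.Geo.omegaGL (⇑Q),
      ∀ v, (g : Matrix (ι → γ) (ι → γ) F) *ᵥ v = pperm (Equiv.swap a b) v := by
  obtain ⟨g, hg, -⟩ := exists_permGL (γ := γ) (F := F) (Equiv.swap a b)
  refine ⟨g, ⟨lp_of_perm _ hg, ?_⟩, hg⟩
  set τ := Equiv.swap a b with hτ
  have hτj : τ j = j := Equiv.swap_apply_of_ne_of_ne haj.symm hbj.symm
  have hneg : ∀ x : F, -x = x := fun x => by linear_combination (-x) * h2
  have hinvol : ∀ v : (ι → γ) → F, pperm τ (pperm τ v) = v := fun v => by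
    have := pperm_comp_symm τ v
    rwa [hτ, Equiv.symm_swap] at this
  have hdiag : ∀ x : (ι → γ) → F, B (pperm τ x) x = 0 := by
    intro x
    rw [eq_sum_pt x]
    obtain ⟨c, hc, hB⟩ := S.tp.pure
    suffices h : ∀ s : Finset (ι → γ), B (pperm τ (∑ q ∈ s, x q • pt fun i => Pi.single (q i) (1 : F)))
        (∑ q ∈ s, x q • pt fun i => Pi.single (q i) (1 : F)) = 0 from h univ
    intro s
    induction s using Finset.induction with
    | empty => simp
    | insert q s hq ih =>
      have hself : B (pperm τ (pt fun i => Pi.single (q i) (1 : F))) (pt fun i => Pi.single (q i) (1 : F)) = 0 := by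
        rw [pperm_pt, hB, Finset.prod_eq_zero (mem_univ j), mul_zero]
        rw [show τ.symm j = j from τ.symm_apply_eq.mpr hτj.symm, S.tp.alt.self]
      have hcr : ∀ u v, B (pperm τ u) v = B (pperm τ v) u := fun u v => by
        rw [← S.tp.pperm_isometry τ, hinvol, S.symm]
      rw [Finset.sum_insert hq, map_add, map_add, map_add, LinearMap.add_apply, LinearMap.add_apply, ih, map_smul,
        map_smul, map_smul, LinearMap.smul_apply, LinearMap.smul_apply, hself, map_smul, smul_eq_mul, smul_eq_mul,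
        smul_eq_mul, hcr (∑ q ∈ s, x q • pt fun i => Pi.single (q i) (1 : F))]
      linear_combination (x q * B (pperm τ (pt fun i => Pi.single (q i) (1 : F)))
        (∑ q ∈ s, x q • pt fun i => Pi.single (q i) (1 : F))) * h2
  let L : ((ι → γ) → F) →ₗ[F] ((ι → γ) → F) := pperm τ - LinearMap.id
  have hiso := S.perm_isometry hg
  refine mem_omega_of_singular S.nondeg S.card_ge (LinearMap.range L) ?_ hiso ?_ fun x => ?_
  · rintro _ ⟨x, rfl⟩
    show Q (pperm τ x - x) = 0
    have hQ : Q (pperm τ x) = Q x := by rw [← hg]; exact (Refl.mem_iff Q).mp hiso x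
    rw [sub_eq_add_neg, QuadraticMap.map_add (f := Q), QuadraticMap.map_neg, hQ, QuadraticMap.polar_neg_right,
      S.polar, hdiag]
    linear_combination (Q x) * h2
  · rintro _ ⟨x, rfl⟩
    show _ *ᵥ (pperm τ x - x) = pperm τ x - x
    rw [hg, map_sub, hinvol]
    funext i
    simp only [Pi.sub_apply]
    linear_combination (x i - pperm τ x i) * h2
  · exact ⟨x, by show pperm τ x - x = _; rw [hg]⟩

end OP

end Cfsg.Lib.Classical.TensorPow
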