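import Cfsg.Agent.Classical.TensorPow.Slot

/-! Radical elements of `X` at a factor: the endomorphisms occurring in their layers. -/

set_option autoImplicit false
set_option linter.unusedSectionVars false
set_option linter.unusedSimpArgs false

namespace Cfsg.Lib.Classical.TensorPow

open Matrix Finset
open Cfsg.Lib.Classical.TensorQ (Alt rk transv rk_apply transv_apply)

universe u

variable {ι γ : Type} [Fintype ι] [DecidableEq ι] [Fintype γ] [DecidableEq γ] {F : Type u} [Field F]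
  {ω : LinearMap.BilinForm F (γ → F)} {B : LinearMap.BilinForm F ((ι → γ) → F)} {X : Subgroup (GL (ι → γ) F)}
  {j : ι} {B₁ : LinearMap.BilinForm F ((Rest j → γ) → F)}

/-- `k` acts as a radical element with first layer `Y`. -/
structure Acts (ω : LinearMap.BilinForm F (γ → F)) (j : ι) (e : γ → F)
    (Y : ((Rest j → γ) → F) →ₗ[F] ((ι → γ) → F)) (k : GL (ι → γ) F) : Prop where
  fix : ∀ u, (k : Matrix (ι → γ) (ι → γ) F) *ᵥ pair j u e = pair j u e
  act : ∀ x, ∃ c, (k : Matrix (ι → γ) (ι → γ) F) *ᵥ x = x + Y (cwj ω j e x) + pair j c e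

/-- Some element of `X` acts as a radical element with first layer `Y`. -/
def Rel (ω : LinearMap.BilinForm F (γ → F)) (X : Subgroup (GL (ι → γ) F)) (j : ι) (e : γ → F)
    (Y : ((Rest j → γ) → F) →ₗ[F] ((ι → γ) → F)) : Prop :=
  (∀ u, cwj ω j e (Y u) = 0) ∧ ∃ k ∈ X, Acts ω j e Y k

/-- `A` occurs as a block at `e`, `w`. -/
def Has (ω : LinearMap.BilinForm F (γ → F)) (X : Subgroup (GL (ι → γ) F)) (j : ι) (A : EndP (Rest j) γ F)
    (e w : γ → F) : Prop :=
  Rel ω X j e ((pairL j w).comp A)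

/-- `A` occurs as a block everywhere. -/
def InAlg (ω : LinearMap.BilinForm F (γ → F)) (X : Subgroup (GL (ι → γ) F)) (j : ι) (A : EndP (Rest j) γ F) : Prop :=
  ∀ e w : γ → F, e ≠ 0 → ω e w = 0 → Has ω X j A e w

/-- `C` occurs in the centre of the radical everywhere. -/
def Cen (ω : LinearMap.BilinForm F (γ → F)) (X : Subgroup (GL (ι → γ) F)) (j : ι) (C : EndP (Rest j) γ F) : Prop :=
  ∀ e : γ → F, e ≠ 0 → ∃ k ∈ X, ∀ x, (k : Matrix (ι → γ) (ι → γ) F) *ᵥ x = x + pair j (C (cwj ω j e x)) e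

theorem eq_of_pair_decomp {L L' : ((ι → γ) → F) →ₗ[F] ((ι → γ) → F)} {e f : γ → F} (hf : ω f e = 1)
    (h₁ : ∀ u z, ω z e = 0 → L (pair j u z) = L' (pair j u z)) (h₂ : ∀ u, L (pair j u f) = L' (pair j u f)) :
    L = L' := by
  refine ext_pair j fun u z => ?_
  have hz : ω (z - ω z e • f) e = 0 := by
    rw [map_sub, LinearMap.sub_apply, map_smul, LinearMap.smul_apply, hf, smul_eq_mul, mul_one, sub_self]
  rw [show z = (z - ω z e • f) + ω z e • f by rw [sub_add_cancel], pair_add_right, pair_smul_right, map_add, map_add,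
    map_smul, map_smul, h₁ _ _ hz, h₂]

theorem cwj_line (hA : Alt ω) (e : γ → F) (c : (Rest j → γ) → F) : cwj ω j e (pair j c e) = 0 := by
  rw [cwj_pair, hA.self, zero_smul]

theorem rel_add (hA : Alt ω) {e : γ → F} {Y Y' : ((Rest j → γ) → F) →ₗ[F] ((ι → γ) → F)} (h : Rel ω X j e Y)
    (h' : Rel ω X j e Y') : Rel ω X j e (Y + Y') := by
  obtain ⟨hp, k, hk, hka⟩ := h
  obtain ⟨hp', k', hk', hka'⟩ := h'
  refine ⟨fun v => by rw [LinearMap.add_apply, map_add, hp, hp', add_zero], k * k', mul_mem hk hk', fun v => ?_,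
    fun x => ?_⟩
  · rw [Units.val_mul, ← mulVec_mulVec, hka'.fix, hka.fix]
  · obtain ⟨c', hc'⟩ := hka'.act x
    obtain ⟨c, hc⟩ := hka.act x
    obtain ⟨d, hd⟩ := hka.act (Y' (cwj ω j e x))
    refine ⟨c + c' + d, ?_⟩
    rw [Units.val_mul, ← mulVec_mulVec, hc', mulVec_add, mulVec_add, hc, hka.fix, hd, hp', map_zero, pair_add_left,
      pair_add_left, LinearMap.add_apply]
    abel

theorem rel_neg (hA : Alt ω) {e : γ → F} {Y : ((Rest j → γ) → F) →ₗ[F] ((ι → γ) → F)} (h : Rel ω X j e Y) :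
    Rel ω X j e (-Y) := by
  obtain ⟨hp, k, hk, hka⟩ := h
  refine ⟨fun v => by rw [LinearMap.neg_apply, map_neg, hp, neg_zero], k⁻¹, inv_mem hk, fun v => ?_, fun x => ?_⟩
  · conv_lhs => rw [← hka.fix v, mulVec_inv_self]
  set y := ((k⁻¹ : GL (ι → γ) F) : Matrix (ι → γ) (ι → γ) F) *ᵥ x with hy
  obtain ⟨c, hc⟩ := hka.act y
  rw [hy, mulVec_self_inv, ← hy] at hc
  have hcw : cwj ω j e x = cwj ω j e y := by rw [hc, map_add, map_add, hp, cwj_line hA, add_zero, add_zero]
  refine ⟨-c, ?_⟩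
  rw [LinearMap.neg_apply, hcw, pair_neg_left]
  nth_rewrite 1 [hc]
  abel

theorem rel_conj (R₁ : Rest1 ω B j B₁) (hX : XJ ω B X j) {g : GL (ι → γ) F} (hg : g ∈ X)
    (a : ((Rest j → γ) → F) ≃ₗ[F] ((Rest j → γ) → F)) (ha : ∀ v w, B₁ (a v) (a w) = B₁ v w) {e e' : γ → F}
    (hge : ∀ v, (g : Matrix (ι → γ) (ι → γ) F) *ᵥ pair j v e = pair j (a v) e')
    {Y : ((Rest j → γ) → F) →ₗ[F] ((ι → γ) → F)} (h : Rel ω X j e Y) :
    Rel ω X j e' ((g : Matrix (ι → γ) (ι → γ) F).mulVecLin.comp (Y.comp a.symm.toLinearMap)) := by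
  obtain ⟨hp, k, hk, hka⟩ := h
  have hcw : ∀ x, cwj ω j e' ((g : Matrix (ι → γ) (ι → γ) F) *ᵥ x) = a (cwj ω j e x) := fun x =>
    sub_eq_zero.mp (R₁.nd _ fun w => by
      rw [← a.apply_symm_apply w, map_sub, LinearMap.sub_apply, ha, ← R₁.contract, ← hge, hX.iso g hg, R₁.contract,
        sub_self])
  refine ⟨fun v => ?_, g * k * g⁻¹, mul_mem (mul_mem hg hk) (inv_mem hg), fun v => ?_, fun x => ?_⟩
  · show cwj ω j e' ((g : Matrix (ι → γ) (ι → γ) F) *ᵥ Y (a.symm v)) = 0
    rw [hcw, hp, map_zero]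
  · conv_lhs => rw [← a.apply_symm_apply v, ← hge, Units.val_mul, Units.val_mul, ← mulVec_mulVec, ← mulVec_mulVec,
      mulVec_inv_self, hka.fix, hge, a.apply_symm_apply]
  · set y := ((g⁻¹ : GL (ι → γ) F) : Matrix (ι → γ) (ι → γ) F) *ᵥ x with hy
    obtain ⟨c, hc⟩ := hka.act y
    refine ⟨a c, ?_⟩
    have hxy : x = (g : Matrix (ι → γ) (ι → γ) F) *ᵥ y := by rw [hy, mulVec_self_inv]
    show _ = x + (g : Matrix (ι → γ) (ι → γ) F) *ᵥ Y (a.symm (cwj ω j e' x)) + pair j (a c) e'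
    rw [Units.val_mul, Units.val_mul, ← mulVec_mulVec, ← mulVec_mulVec, ← hy, hc, mulVec_add, mulVec_add, hge, ← hxy]
    congr 2
    rw [hxy, hcw, a.symm_apply_apply]

theorem rel_comm (hA : Alt ω) (R₁ : Rest1 ω B j B₁) (hX : XJ ω B X j) {e w : γ → F} (hew : ω e w = 0) (s : F)
    {Y : ((Rest j → γ) → F) →ₗ[F] ((ι → γ) → F)} (h : Rel ω X j e Y) :
    Rel ω X j e (s • (pairL j w).comp ((cwj ω j w).comp Y)) := by
  obtain ⟨t, htX, ht⟩ := hX.tr w s
  have h1 := rel_conj R₁ hX htX (LinearEquiv.refl F _) (fun v w => rfl) (e' := e) (fun v => by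
    rw [ht, hew, mul_zero, zero_smul, add_zero]; rfl) h
  have h2 := rel_add hA h1 (rel_neg hA h)
  convert h2 using 1
  refine LinearMap.ext fun v => ?_
  have := DFunLike.congr_fun (ext_pair j (L := (t : Matrix (ι → γ) (ι → γ) F).mulVecLin)
    (L' := LinearMap.id + s • (pairL j w).comp (cwj ω j w)) fun u z => by
      show _ *ᵥ pair j u z = pair j u z + s • pair j (cwj ω j w (pair j u z)) w
      rw [ht, cwj_pair, pair_add_right, pair_smul_right, pair_smul_left, smul_smul]) (Y v)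
  show _ = (t : Matrix (ι → γ) (ι → γ) F) *ᵥ Y v + -Y v
  simp only [Matrix.mulVecLin_apply, LinearMap.add_apply, LinearMap.id_apply, LinearMap.smul_apply] at this
  rw [this, LinearMap.smul_apply, ← sub_eq_add_neg, add_sub_cancel_left]
  rfl

theorem has_add_right (hA : Alt ω) {A : EndP (Rest j) γ F} {e w w' : γ → F} (h : Has ω X j A e w)
    (h' : Has ω X j A e w') : Has ω X j A e (w + w') := by
  have := rel_add hA h h'
  unfold Has
  convert this using 1
  exact LinearMap.ext fun v => pair_add_right j (A v) w w'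

theorem has_neg_right (hA : Alt ω) {A : EndP (Rest j) γ F} {e w : γ → F} (h : Has ω X j A e w) :
    Has ω X j A e (-w) := by
  have := rel_neg hA h
  unfold Has
  convert this using 1
  exact LinearMap.ext fun v => pair_neg_right j (A v) w

theorem has_move (hA : Alt ω) (R₁ : Rest1 ω B j B₁) (hX : XJ ω B X j) {A : EndP (Rest j) γ F} {e w w' : γ → F}
    (hew' : ω e w' = 0) (s : F) (h : Has ω X j A e w) : Has ω X j A e ((s * ω w w') • w') := by
  have := rel_comm hA R₁ hX hew' s h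
  unfold Has
  convert this using 1
  refine LinearMap.ext fun v => ?_
  show pair j (A v) _ = s • pair j (cwj ω j w' (pair j (A v) w)) w'
  rw [cwj_pair, pair_smul_left, pair_smul_right, smul_smul]

theorem inAlg_of_has (hA : Alt ω) (R₁ : Rest1 ω B j B₁) (hX : XJ ω B X j) {A : EndP (Rest j) γ F} {e w : γ → F}
    (he : e ≠ 0) (hw : ∀ c : F, w ≠ c • e) (h : Has ω X j A e w) : InAlg ω X j A := by
  have hall : ∀ w', ω e w' = 0 → Has ω X j A e w' := by
    have hne : ∀ w', ω e w' = 0 → ω w w' ≠ 0 → Has ω X j A e w' := fun w' h1 h2 => by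
      have := has_move hA R₁ hX h1 (ω w w')⁻¹ h
      rwa [inv_mul_cancel₀ h2, one_smul] at this
    obtain ⟨w₁, hw₁, hw₁'⟩ : ∃ w₁, ω e w₁ = 0 ∧ ω w w₁ ≠ 0 := by
      by_contra hc
      push Not at hc
      obtain ⟨c, hc⟩ := hA.mem_line he hc
      exact hw c hc
    intro w' hw'
    by_cases h2 : ω w w' = 0
    · have h3 := hne (w' + w₁) (by rw [map_add, hw', hw₁, add_zero]) (by rwa [map_add, h2, zero_add])
      have := has_add_right hA h3 (has_neg_right hA (hne w₁ hw₁ hw₁'))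
      rwa [add_neg_cancel_right] at this
    · exact hne w' hw' h2
  intro e' w' he'
  refine hA.transitive (P := fun e' => ∀ w', ω e' w' = 0 → Has ω X j A e' w') (fun d t x hx w' hw' => ?_) he he' hall w'
  obtain ⟨g, hgX, hg⟩ := hX.tr d t
  have h0 : ω x (w' - (t * ω w' d) • d) = 0 := by
    rw [map_sub, map_smul, smul_eq_mul]
    rw [map_add, LinearMap.add_apply, map_smul, LinearMap.smul_apply, smul_eq_mul, hA.skew w' d] at hw'
    linear_combination hw'
  have := rel_conj R₁ hX hgX (LinearEquiv.refl F _) (fun v w => rfl) (e' := x + (t * ω x d) • d)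
    (fun v => by rw [hg]; rfl) (hx _ h0)
  unfold Has
  convert this using 1
  refine LinearMap.ext fun v => ?_
  show pair j (A v) w' = (g : Matrix (ι → γ) (ι → γ) F) *ᵥ pair j (A v) _
  rw [hg]
  congr 1
  simp only [map_sub, LinearMap.sub_apply, map_smul, LinearMap.smul_apply, smul_eq_mul, hA.self]
  module

theorem Rest1.contractL (hA : Alt ω) (R₁ : Rest1 ω B j B₁) :
    ∃ s : F, ∀ v u z, B (TensorPow.pair j u z) v = s * B₁ (cwj ω j z v) u := by
  obtain ⟨s, -, hs⟩ := R₁.symm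
  refine ⟨-s, fun v u z => DFunLike.congr_fun (ext_pair j (L := B (TensorPow.pair j u z))
    (L' := (-s) • (B₁.flip u).comp (cwj ω j z)) fun u' w => ?_) v⟩
  show B (TensorPow.pair j u z) (TensorPow.pair j u' w) = -s * B₁ (cwj ω j z (TensorPow.pair j u' w)) u
  rw [R₁.pair, cwj_pair, map_smul, LinearMap.smul_apply, smul_eq_mul, hs u' u, hA.skew w z]
  ring

/-- The action of a radical element on `U ⊗ e⊥`. -/
theorem acts_perp (hA : Alt ω) (R₁ : Rest1 ω B j B₁) (hX : XJ ω B X j) {e : γ → F} (he : e ≠ 0)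
    {Y : ((Rest j → γ) → F) →ₗ[F] ((ι → γ) → F)} (hp : ∀ v, cwj ω j e (Y v) = 0) {k : GL (ι → γ) F} (hk : k ∈ X)
    (hka : Acts ω j e Y k) {x : (ι → γ) → F} (hx : cwj ω j e x = 0) :
    ∃ c, (k : Matrix (ι → γ) (ι → γ) F) *ᵥ x = x + pair j c e ∧ ∀ v, B₁ c v = B x (Y v) := by
  obtain ⟨f, hf⟩ := hA.exists_one he
  obtain ⟨s, hs⟩ := R₁.contractL hA
  obtain ⟨c, hc⟩ := hka.act x
  rw [hx, map_zero, add_zero] at hc
  refine ⟨c, hc, fun v => ?_⟩
  obtain ⟨c', hc'⟩ := hka.act (pair j v f)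
  have := hX.iso k hk x (pair j v f)
  rw [hc, hc', cwj_pair, hf, one_smul] at this
  simp only [map_add, LinearMap.add_apply] at this
  rw [R₁.contract x c' e, hx, map_zero, LinearMap.zero_apply, R₁.pair c v e f, hA.skew f e, hf, hs (Y v) c e, hp,
    R₁.pair c c' e e, hA.self, map_zero, LinearMap.zero_apply] at this
  linear_combination -this

theorem acts_fix (hA : Alt ω) (R₁ : Rest1 ω B j B₁) (hX : XJ ω B X j) {e : γ → F} (he : e ≠ 0)
    {Y : ((Rest j → γ) → F) →ₗ[F] ((ι → γ) → F)} (hp : ∀ v, cwj ω j e (Y v) = 0) {k : GL (ι → γ) F} (hk : k ∈ X)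
    (hka : Acts ω j e Y k) {x : (ι → γ) → F} (hx : cwj ω j e x = 0) (hxY : ∀ v, B x (Y v) = 0) :
    (k : Matrix (ι → γ) (ι → γ) F) *ᵥ x = x := by
  obtain ⟨c, hc, hcv⟩ := acts_perp hA R₁ hX he hp hk hka hx
  rw [hc, R₁.nd c fun v => by rw [hcv, hxY], pair_zero_left, add_zero]

theorem inAlg_add (hA : Alt ω) {A A' : EndP (Rest j) γ F} (h : InAlg ω X j A) (h' : InAlg ω X j A') :
    InAlg ω X j (A + A') := fun e w he hew => by
  rw [Has, LinearMap.comp_add]; exact rel_add hA (h e w he hew) (h' e w he hew)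

theorem inAlg_neg (hA : Alt ω) {A : EndP (Rest j) γ F} (h : InAlg ω X j A) : InAlg ω X j (-A) :=
  fun e w he hew => by rw [Has, LinearMap.comp_neg]; exact rel_neg hA (h e w he hew)

theorem inAlg_smul (c : F) {A : EndP (Rest j) γ F} (h : InAlg ω X j A) : InAlg ω X j (c • A) := fun e w he hew => by
  have := h e (c • w) he (by rw [map_smul, hew, smul_zero])
  unfold Has at this ⊢
  convert this using 1
  refine LinearMap.ext fun v => ?_
  show pair j (c • A v) w = pair j (A v) (c • w)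
  rw [pair_smul_left, pair_smul_right]

theorem inAlg_one (hA : Alt ω) (hX : XJ ω B X j) : InAlg ω X j LinearMap.id := fun e w he hew => by
  obtain ⟨R, hR, hRy⟩ := radW hA hX hew
  refine ⟨fun v => ?_, R, hR, fun v => ?_, fun x => ⟨cwj ω j w x, ?_⟩⟩
  · show cwj ω j e (pair j v w) = 0
    rw [cwj_pair, hA.swap hew, zero_smul]
  · rw [hRy, cwj_pair, cwj_pair, hA.self, hew]
    simp only [zero_smul, pair_zero_left, add_zero]
  · rw [hRy, add_right_comm]
    rfl

theorem cen_comp (hA : Alt ω) (R₁ : Rest1 ω B j B₁) (hX : XJ ω B X j) (h4 : 4 ≤ Fintype.card γ)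
    {C A : EndP (Rest j) γ F} (hC : Cen ω X j C) (hA' : InAlg ω X j A) : InAlg ω X j (C.comp A) := by
  obtain ⟨p⟩ : Nonempty γ := Fintype.card_pos_iff.mp (by omega)
  have he : (Pi.single p (1 : F) : γ → F) ≠ 0 := by simp
  set e : γ → F := Pi.single p 1
  obtain ⟨w, w', hw, hw', hww⟩ := hA.exists_pair_perp ![e] (by omega)
  have hew : ω e w = 0 := hw 0
  have hew' : ω e w' = 0 := hw' 0
  have hw'0 : w' ≠ 0 := fun h => by rw [h, map_zero] at hww; exact zero_ne_one hww
  obtain ⟨k, hk, hky⟩ := hC w' hw'0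
  have hfix : ∀ v, (k : Matrix (ι → γ) (ι → γ) F) *ᵥ pair j v e = pair j v e := fun v => by
    rw [hky, cwj_pair, hew', zero_smul, map_zero, pair_zero_left, add_zero]
  have h1 := rel_add hA (rel_conj R₁ hX hk (LinearEquiv.refl F _) (fun v w => rfl) (e' := e) hfix (hA' e w he hew))
    (rel_neg hA (hA' e w he hew))
  refine inAlg_of_has hA R₁ hX he (fun c hc => ?_) (w := w') ?_
  · rw [hc, map_smul, hA.swap hew, smul_zero] at hww
    exact zero_ne_one hww
  unfold Has
  convert h1 using 1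
  refine LinearMap.ext fun v => ?_
  show pair j (C (A v)) w' = (k : Matrix (ι → γ) (ι → γ) F) *ᵥ pair j (A v) w + -pair j (A v) w
  rw [hky, cwj_pair, hww, one_smul]
  abel

theorem inAlg_comp (hA : Alt ω) (R₁ : Rest1 ω B j B₁) (hX : XJ ω B X j) (h5 : 5 ≤ Fintype.card γ)
    {A A' : EndP (Rest j) γ F} (hA₁ : InAlg ω X j A) (hA₂ : InAlg ω X j A') : InAlg ω X j (A'.comp A) := by
  obtain ⟨p⟩ : Nonempty γ := Fintype.card_pos_iff.mp (by omega)
  have he : (Pi.single p (1 : F) : γ → F) ≠ 0 := by simp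
  set e : γ → F := Pi.single p 1
  obtain ⟨w, w', g, g', hew, hew', heg, heg', hww, hwg, hwg', hw'g, hw'g', hgg⟩ := hA.exists_two_pairs h5 he
  have hw' : w' ≠ 0 := fun h => by rw [h, map_zero] at hww; exact zero_ne_one hww
  obtain ⟨hp₂, k, hk, hka⟩ := hA₂ w' g hw' hw'g
  have hfix : ∀ v, (k : Matrix (ι → γ) (ι → γ) F) *ᵥ pair j v e = pair j v e := fun v =>
    acts_fix hA R₁ hX hw' hp₂ hk hka (by rw [cwj_pair, hew', zero_smul]) fun u => by
      show B (pair j v e) (pair j (A' u) g) = 0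
      rw [R₁.pair, heg, mul_zero]
  have h1 := rel_conj R₁ hX hk (LinearEquiv.refl F _) (fun v w => rfl) (e' := e) hfix (hA₁ e w he hew)
  have h2 := rel_comm hA R₁ hX heg' 1 h1
  have hg'e : ∀ c : F, g' ≠ c • e := fun c hc => by
    rw [hc, map_smul, hA.swap heg, smul_zero] at hgg
    exact zero_ne_one hgg
  refine inAlg_of_has hA R₁ hX he hg'e ?_
  unfold Has
  convert h2 using 1
  refine LinearMap.ext fun v => ?_
  show pair j (A' (A v)) g' = (1 : F) • pair j (cwj ω j g' ((k : Matrix (ι → γ) (ι → γ) F) *ᵥ pair j (A v) w)) g'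
  obtain ⟨c, hc⟩ := hka.act (pair j (A v) w)
  rw [one_smul, hc, cwj_pair, hww, one_smul, map_add, map_add, cwj_pair, cwj_pair, hwg', hw'g']
  show _ = pair j ((0 : F) • A v + cwj ω j g' (pair j (A' (A v)) g) + (0 : F) • c) g'
  rw [cwj_pair, hgg, one_smul]
  simp

theorem cen_of_one (hA : Alt ω) (R₁ : Rest1 ω B j B₁) (hX : XJ ω B X j) {C : EndP (Rest j) γ F} {e : γ → F}
    (he : e ≠ 0)
    (h : ∃ k ∈ X, ∀ x, (k : Matrix (ι → γ) (ι → γ) F) *ᵥ x = x + pair j (C (cwj ω j e x)) e) : Cen ω X j C := by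
  intro e' he'
  refine hA.transitive (P := fun w => ∃ k ∈ X, ∀ x,
    (k : Matrix (ι → γ) (ι → γ) F) *ᵥ x = x + pair j (C (cwj ω j w x)) w) (fun d t z hz => ?_) he he' h
  obtain ⟨k, hk, hky⟩ := hz
  obtain ⟨g, hgX, hg⟩ := hX.tr d t
  refine ⟨g * k * g⁻¹, mul_mem (mul_mem hgX hk) (inv_mem hgX), fun x => ?_⟩
  have hcw : cwj ω j z (((g⁻¹ : GL (ι → γ) F) : Matrix (ι → γ) (ι → γ) F) *ᵥ x) =
      cwj ω j (z + (t * ω z d) • d) x := sub_eq_zero.mp (R₁.nd _ fun v => by
    rw [map_sub, LinearMap.sub_apply, ← R₁.contract, ← R₁.contract,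
      ← hX.iso g hgX (((g⁻¹ : GL (ι → γ) F) : Matrix (ι → γ) (ι → γ) F) *ᵥ x), mulVec_self_inv, hg, sub_self])
  rw [Units.val_mul, Units.val_mul, ← mulVec_mulVec, ← mulVec_mulVec, hky, mulVec_add, mulVec_self_inv, hg, hcw]

theorem cen_add (hA : Alt ω) {C C' : EndP (Rest j) γ F} (h : Cen ω X j C) (h' : Cen ω X j C') :
    Cen ω X j (C + C') := fun e he => by
  obtain ⟨k, hk, hky⟩ := h e he
  obtain ⟨k', hk', hky'⟩ := h' e he
  refine ⟨k * k', mul_mem hk hk', fun x => ?_⟩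
  rw [Units.val_mul, ← mulVec_mulVec, hky', hky, map_add, cwj_line hA, add_zero, LinearMap.add_apply, pair_add_left]
  abel

theorem cen_neg (hA : Alt ω) {C : EndP (Rest j) γ F} (h : Cen ω X j C) : Cen ω X j (-C) := fun e he => by
  obtain ⟨k, hk, hky⟩ := h e he
  refine ⟨k⁻¹, inv_mem hk, fun x => ?_⟩
  set y := ((k⁻¹ : GL (ι → γ) F) : Matrix (ι → γ) (ι → γ) F) *ᵥ x with hy
  have hc := hky y
  rw [hy, mulVec_self_inv, ← hy] at hc
  have hcw : cwj ω j e x = cwj ω j e y := by rw [hc, map_add, cwj_line hA, add_zero]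
  rw [LinearMap.neg_apply, pair_neg_left, hcw]
  nth_rewrite 1 [hc]
  abel

/-- The commutator of two radical elements. -/
theorem cen_of_inAlg (hA : Alt ω) (R₁ : Rest1 ω B j B₁) (hX : XJ ω B X j) (h4 : 4 ≤ Fintype.card γ)
    {A A' As As' : EndP (Rest j) γ F} (hAs : ∀ u v, B₁ (As u) v = B₁ u (A v))
    (hAs' : ∀ u v, B₁ (As' u) v = B₁ u (A' v)) (h : InAlg ω X j A) (h' : InAlg ω X j A') :
    Cen ω X j (As.comp A' + As'.comp A) := by
  obtain ⟨p⟩ : Nonempty γ := Fintype.card_pos_iff.mp (by omega)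
  have he : (Pi.single p (1 : F) : γ → F) ≠ 0 := by simp
  set e : γ → F := Pi.single p 1
  obtain ⟨f, hf⟩ := hA.exists_one he
  obtain ⟨w, w', hw, hw', hww⟩ := hA.exists_pair_perp ![e] (by omega)
  have hwe : ω w e = 0 := hA.swap (hw 0)
  have hw'e : ω w' e = 0 := hA.swap (hw' 0)
  obtain ⟨hp, k, hk, hka⟩ := h e w he (hw 0)
  obtain ⟨hp', k', hk', hka'⟩ := h' e w' he (hw' 0)
  have hperp : ∀ (A As : EndP (Rest j) γ F), (∀ u v, B₁ (As u) v = B₁ u (A v)) → ∀ (w : γ → F) (k : GL (ι → γ) F),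
      k ∈ X → (∀ v, cwj ω j e ((pairL j w).comp A v) = 0) → Acts ω j e ((pairL j w).comp A) k → ∀ u z, ω z e = 0 →
      (k : Matrix (ι → γ) (ι → γ) F) *ᵥ pair j u z = pair j u z + pair j (ω z w • As u) e := by
    intro A As hAs w k hk hp hka u z hz
    obtain ⟨c, hc, hcv⟩ := acts_perp hA R₁ hX he hp hk hka (x := pair j u z) (by rw [cwj_pair, hz, zero_smul])
    rw [hc, sub_eq_zero.mp (R₁.nd (c - ω z w • As u) fun v => by
      rw [map_sub, LinearMap.sub_apply, hcv, map_smul, LinearMap.smul_apply, hAs, LinearMap.comp_apply]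
      show B (pair j u z) (pair j (A v) w) - _ = 0
      rw [R₁.pair, smul_eq_mul, mul_comm, sub_self])]
  refine cen_of_one hA R₁ hX he ⟨k' * k * (k * k')⁻¹, mul_mem (mul_mem hk' hk) (inv_mem (mul_mem hk hk')), ?_⟩
  set C := As.comp A' + As'.comp A with hC
  have key : (k' : Matrix (ι → γ) (ι → γ) F).mulVecLin.comp (k : Matrix (ι → γ) (ι → γ) F).mulVecLin =
      (k : Matrix (ι → γ) (ι → γ) F).mulVecLin.comp (k' : Matrix (ι → γ) (ι → γ) F).mulVecLin +
        (pairL j e).comp (C.comp (cwj ω j e)) := by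
    refine eq_of_pair_decomp (j := j) hf (fun u z hz => ?_) fun u => ?_
    · simp only [LinearMap.add_apply, LinearMap.comp_apply, Matrix.mulVecLin_apply, hperp A As hAs w k hk hp hka u z hz,
        hperp A' As' hAs' w' k' hk' hp' hka' u z hz, mulVec_add, hka.fix, hka'.fix, cwj_pair, hz, zero_smul, map_zero,
        add_zero]
      abel
    · obtain ⟨c, hc⟩ := hka.act (pair j u f)
      obtain ⟨c', hc'⟩ := hka'.act (pair j u f)
      simp only [LinearMap.add_apply, LinearMap.comp_apply, Matrix.mulVecLin_apply, cwj_pair, hf, one_smul] at hc hc' ⊢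
      show _ = _ + pair j (As (A' u) + As' (A u)) e
      rw [hc, hc', mulVec_add, mulVec_add, mulVec_add, mulVec_add, hka.fix, hka'.fix, hc, hc',
        show (pairL j w) (A u) = pair j (A u) w from rfl, show (pairL j w') (A' u) = pair j (A' u) w' from rfl,
        hperp A' As' hAs' w' k' hk' hp' hka' _ w hwe, hperp A As hAs w k hk hp hka _ w' hw'e, hA.skew w w', hww,
        neg_one_smul, one_smul, pair_neg_left, pair_add_left]
      abel
  intro x
  obtain ⟨y, rfl⟩ : ∃ y, ((k * k' : GL (ι → γ) F) : Matrix (ι → γ) (ι → γ) F) *ᵥ y = x :=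
    ⟨_, mulVec_self_inv (k * k') x⟩
  rw [Units.val_mul, ← mulVec_mulVec, mulVec_inv_self, Units.val_mul, Units.val_mul, ← mulVec_mulVec, ← mulVec_mulVec]
  have h1 := DFunLike.congr_fun key y
  simp only [LinearMap.add_apply, LinearMap.comp_apply, Matrix.mulVecLin_apply] at h1
  rw [h1]
  congr 1
  show pair j (C (cwj ω j e y)) e = _
  congr 2
  obtain ⟨c', hc'⟩ := hka'.act y
  obtain ⟨c, hc⟩ := hka.act ((k' : Matrix (ι → γ) (ι → γ) F) *ᵥ y)
  rw [hc, map_add, map_add, hp, cwj_line hA, hc', map_add, map_add, hp', cwj_line hA]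
  simp

/-- A failure of scalarity gives a non-scalar layer or centre. -/
theorem exists_nonscalar (hA : Alt ω) (R₁ : Rest1 ω B j B₁) (hX : XJ ω B X j) (hS : ¬ RadScalar ω X j) :
    (4 ≤ Fintype.card γ → ∃ A, InAlg ω X j A ∧ ∀ c : F, A ≠ c • LinearMap.id) ∧
      (Fintype.card γ = 2 → ∃ C, Cen ω X j C ∧ ∀ c : F, C ≠ c • LinearMap.id) := by
  unfold RadScalar at hS
  push Not at hS
  obtain ⟨e, he, k, hk, hfix, hperp, hnk⟩ := hS
  haveI : Nonempty γ := not_isEmpty_iff.mp fun h => he (funext fun q => isEmptyElim q)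
  obtain ⟨f, hf⟩ := hA.exists_one he
  let Y : ((Rest j → γ) → F) →ₗ[F] ((ι → γ) → F) :=
    (k : Matrix (ι → γ) (ι → γ) F).mulVecLin.comp (pairL j f) - pairL j f
  have hYv : ∀ v, Y v = (k : Matrix (ι → γ) (ι → γ) F) *ᵥ pair j v f - pair j v f := fun v => rfl
  have hp : ∀ v, cwj ω j e (Y v) = 0 := fun v => R₁.nd _ fun u => by
    rw [← R₁.contract, hYv, map_sub, LinearMap.sub_apply]
    nth_rewrite 1 [← hfix u]
    rw [hX.iso k hk, sub_self]
  have hact : Acts ω j e Y k := by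
    refine ⟨hfix, fun x => ?_⟩
    obtain ⟨c, hc⟩ := hperp (x - pair j (cwj ω j e x) f) (by rw [map_sub, cwj_pair, hf, one_smul, sub_self])
    refine ⟨c, ?_⟩
    rw [mulVec_sub, sub_eq_iff_eq_add] at hc
    rw [hc, hYv]
    abel
  have hY : Rel ω X j e Y := ⟨hp, k, hk, hact⟩
  -- a non-scalar layer, or a scalar one
  by_cases hall : ∀ w, ω e w = 0 → ∃ c : F, (cwj ω j w).comp Y = c • LinearMap.id
  swap
  · push Not at hall
    obtain ⟨w, hew, hns⟩ := hall
    have hne : ∀ c : F, w ≠ c • e := fun c hc => hns 0 (LinearMap.ext fun v => by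
      rw [hc, LinearMap.comp_apply, cwj_smul, hp, smul_zero, zero_smul, LinearMap.zero_apply])
    refine ⟨fun _ => ⟨(cwj ω j w).comp Y, inAlg_of_has hA R₁ hX he hne ?_, hns⟩, fun h2 => absurd hns ?_⟩
    · have := rel_comm hA R₁ hX hew 1 hY
      rwa [one_smul] at this
    · -- in dimension two every vector orthogonal to `e` is a multiple of `e`
      intro _
      obtain ⟨c, hc⟩ : ∃ c : F, w = c • e := by
        refine hA.mem_line he fun v hv => ?_
        by_contra hwv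
        have hind : LinearIndependent F ![e, w] := by
          rw [LinearIndependent.pair_iff' he]
          exact fun a ha => hne a ha.symm
        have htop := hind.span_eq_top_of_card_eq_finrank (by rw [Fintype.card_fin, Module.finrank_pi, h2])
        have : f ∈ Submodule.span F (Set.range ![e, w]) := htop ▸ Submodule.mem_top
        rw [Matrix.range_cons_cons_empty, Submodule.mem_span_pair] at this
        obtain ⟨a, b, hab⟩ := this
        rw [← hab, map_add, LinearMap.add_apply, map_smul, map_smul, LinearMap.smul_apply, LinearMap.smul_apply, hA.self,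
          hA.swap hew, smul_zero, smul_zero, add_zero] at hf
        exact zero_ne_one hf
      exact hne c hc
  -- reduce to a centre element
  obtain ⟨p⟩ : Nonempty γ := inferInstance
  have hu₀ : (pt fun _ : Rest j => (Pi.single p 1 : γ → F)) ≠ 0 := pt_ne_zero fun _ => by simp
  set u₀ : (Rest j → γ) → F := pt fun _ => Pi.single p 1
  set Y₀ := Y + (pairL j e).comp ((cwj ω j f).comp Y) with hY₀def
  have hef : ω e f = -1 := by rw [hA.skew f e, hf]
  have hY₀v : ∀ v, Y₀ v = Y v + pair j (cwj ω j f (Y v)) e := fun v => rfl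
  obtain ⟨y, hy⟩ := exists_pure_of_contract hA (A := (LinearMap.id : EndP (Rest j) γ F)) (L := Y₀) ⟨u₀, hu₀⟩ fun z => by
    obtain ⟨c, hc⟩ := hall (z + ω e z • f) (by
      rw [map_add, map_smul, hef, smul_eq_mul, mul_neg, mul_one, add_neg_cancel])
    refine ⟨c, fun v => ?_⟩
    have h1 : cwj ω j (z + ω e z • f) (Y v) = c • v := DFunLike.congr_fun hc v
    rw [cwj_add, cwj_smul] at h1
    rw [LinearMap.id_apply, hY₀v, map_add, cwj_pair, ← h1]
  have hye : ω y e = 0 := by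
    have := hp u₀
    have h1 : cwj ω j e (Y₀ u₀) = 0 := by rw [hY₀v, map_add, this, cwj_line hA, add_zero]
    rw [hy, LinearMap.id_apply, cwj_pair, smul_eq_zero] at h1
    exact h1.resolve_right hu₀
  obtain ⟨R, hR, hRy⟩ := radW hA hX (hA.swap hye)
  have hRfix : ∀ v, (R : Matrix (ι → γ) (ι → γ) F) *ᵥ pair j v e = pair j v e := fun v => by
    rw [hRy, cwj_pair, cwj_pair, hA.self, hA.swap hye]
    simp only [zero_smul, pair_zero_left, add_zero]
  set kc := R⁻¹ * k with hkc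
  have hkcX : kc ∈ X := mul_mem (inv_mem hR) hk
  have hkact : Acts ω j e (0 : ((Rest j → γ) → F) →ₗ[F] ((ι → γ) → F)) kc := by
    refine ⟨fun v => ?_, fun x => ?_⟩
    · rw [hkc, Units.val_mul, ← mulVec_mulVec, hfix]
      conv_lhs => rw [← hRfix v, mulVec_inv_self]
    obtain ⟨c, hc⟩ := hact.act x
    set a := c - cwj ω j f (Y (cwj ω j e x)) with ha
    refine ⟨a - cwj ω j y x, ?_⟩
    rw [hkc, Units.val_mul, ← mulVec_mulVec, LinearMap.zero_apply, add_zero]
    have hRx : (R : Matrix (ι → γ) (ι → γ) F) *ᵥ (x + pair j (a - cwj ω j y x) e) =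
        (k : Matrix (ι → γ) (ι → γ) F) *ᵥ x := by
      have hyx := hy (cwj ω j e x)
      rw [LinearMap.id_apply, hY₀v] at hyx
      rw [mulVec_add, hRfix, hRy, hc, ← hyx, ha,
        show pair j (c - cwj ω j f (Y (cwj ω j e x)) - cwj ω j y x) e =
          pair j (c - cwj ω j f (Y (cwj ω j e x))) e - pair j (cwj ω j y x) e from map_sub (pairL j e) _ _,
        show pair j (c - cwj ω j f (Y (cwj ω j e x))) e = pair j c e - pair j (cwj ω j f (Y (cwj ω j e x))) e from
          map_sub (pairL j e) _ _]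
      abel
    rw [← hRx, mulVec_inv_self]
  let C : EndP (Rest j) γ F :=
    (-cwj ω j f).comp ((kc : Matrix (ι → γ) (ι → γ) F).mulVecLin.comp (pairL j f) - pairL j f)
  have hform : ∀ x, (kc : Matrix (ι → γ) (ι → γ) F) *ᵥ x = x + pair j (C (cwj ω j e x)) e := fun x => by
    have h1 := acts_fix hA R₁ hX he (Y := 0) (fun v => by simp) hkcX hkact
      (x := x - pair j (cwj ω j e x) f) (by rw [map_sub, cwj_pair, hf, one_smul, sub_self]) fun v => by simp
    obtain ⟨c, hc⟩ := hkact.act (pair j (cwj ω j e x) f)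
    rw [LinearMap.zero_apply, add_zero] at hc
    rw [mulVec_sub, hc, sub_eq_iff_eq_add] at h1
    have hC : C (cwj ω j e x) = c := by
      show -cwj ω j f ((kc : Matrix (ι → γ) (ι → γ) F) *ᵥ pair j (cwj ω j e x) f - pair j (cwj ω j e x) f) = c
      rw [hc, add_sub_cancel_left, cwj_pair, hef, neg_smul, one_smul, neg_neg]
    rw [h1, hC]
    abel
  have hns : ∀ c : F, C ≠ c • LinearMap.id := by
    intro c hC
    let s₁ : (γ → F) →ₗ[F] (γ → F) := LinearMap.id + ((ω.flip y).smulRight e) + ((ω.flip e).smulRight y)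
    let s₂ : (γ → F) →ₗ[F] (γ → F) := LinearMap.id + c • ((ω.flip e).smulRight e)
    obtain ⟨u, w, hne⟩ := hnk (s₁.comp s₂)
    refine hne ?_
    rw [show k = R * kc by rw [hkc, mul_inv_cancel_left], Units.val_mul, ← mulVec_mulVec, hform, cwj_pair, hC]
    show (R : Matrix (ι → γ) (ι → γ) F) *ᵥ (pair j u w + pair j (c • ω w e • u) e) = pair j u (s₁ (s₂ w))
    rw [pair_smul_left, pair_smul_left, ← pair_smul_right, ← pair_smul_right, ← pair_add_right,
      show w + c • ω w e • e = s₂ w from rfl, hRy, cwj_pair, cwj_pair, pair_smul_left, pair_smul_left,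
      ← pair_smul_right, ← pair_smul_right, ← pair_add_right, ← pair_add_right]
    rfl
  have hCen : Cen ω X j C := cen_of_one hA R₁ hX he ⟨kc, hkcX, hform⟩
  exact ⟨fun h4 => ⟨C, by simpa using cen_comp hA R₁ hX h4 hCen (inAlg_one hA hX), hns⟩,
    fun _ => ⟨C, hCen, hns⟩⟩

end Cfsg.Lib.Classical.TensorPow
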