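import Cfsg.Agent.Classical.TensorPow.Ops

/-! Square-zero operators of the rank of a transvection, in the wreath group or in the sum of the slots. -/

set_option autoImplicit false
set_option linter.unusedSectionVars false
set_option linter.unusedSimpArgs false

namespace Cfsg.Lib.Classical.TensorPow

open Matrix Finset
open Cfsg.Lib.Classical.TensorQ (scalar_of_eigen)

universe u

variable {ι γ : Type} [Fintype ι] [DecidableEq ι] [Fintype γ] [DecidableEq γ] {F : Type u} [Field F]

theorem exists_avoid (hk : 2 ≤ Fintype.card γ) (p q : γ → F) :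
    ∃ z : γ → F, (∀ c : F, z ≠ c • p) ∧ ∀ c : F, z ≠ c • q := by
  have one : ∀ p : γ → F, ∃ z : γ → F, z ∉ Submodule.span F {p} := by
    intro p
    by_contra hh
    push Not at hh
    have h1 := Submodule.finrank_mono (show (⊤ : Submodule F (γ → F)) ≤ Submodule.span F {p} from fun z _ => hh z)
    have h2 : Module.finrank F (Submodule.span F ({p} : Set (γ → F))) ≤ 1 :=
      (finrank_span_le_card _).trans (by simp)
    rw [finrank_top, Module.finrank_pi] at h1
    omega
  suffices h : ∃ z, z ∉ Submodule.span F {p} ∧ z ∉ Submodule.span F {q} by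
    obtain ⟨z, hp, hq⟩ := h
    exact ⟨z, fun c hc => hp (Submodule.mem_span_singleton.mpr ⟨c, hc.symm⟩),
      fun c hc => hq (Submodule.mem_span_singleton.mpr ⟨c, hc.symm⟩)⟩
  obtain ⟨a, ha⟩ := one p
  obtain ⟨b, hb⟩ := one q
  by_cases ha' : a ∈ Submodule.span F {q}
  · by_cases hb' : b ∈ Submodule.span F {p}
    · exact ⟨a + b, fun h => ha ((Submodule.add_mem_iff_left _ hb').mp h),
        fun h => hb ((Submodule.add_mem_iff_right _ ha').mp h)⟩
    · exact ⟨b, hb', hb⟩
  · exact ⟨a, ha, ha'⟩

theorem kronOp_scalar (c : ι → F) :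
    kronOp (fun i => c i • (LinearMap.id : (γ → F) →ₗ[F] (γ → F))) = (∏ i, c i) • LinearMap.id :=
  ext_pt fun x => by
    rw [kronOp_pt, LinearMap.smul_apply, LinearMap.id_apply]
    funext a
    simp [pt, Finset.prod_mul_distrib]

theorem scalar_of_kronOp_eq [Nonempty γ] {a : ι → (γ → F) →ₗ[F] (γ → F)} {μ : F} (hμ : μ ≠ 0)
    (h : kronOp a = μ • LinearMap.id) (l : ι) : ∃ c : F, a l = c • LinearMap.id := by
  refine scalar_of_eigen _ fun v hv => ?_
  set x : ι → γ → F := Function.update (fun _ => Pi.single (Classical.arbitrary γ) 1) l v with hx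
  have e := DFunLike.congr_fun h (pt x)
  rw [kronOp_pt, LinearMap.smul_apply, LinearMap.id_apply] at e
  have hx0 : pt x ≠ 0 := pt_ne_zero fun i => by
    by_cases hi : i = l
    · subst hi; simpa [hx] using hv
    · simp [hx, hi]
  obtain ⟨s, hs⟩ := pt_prop e (by rw [e]; exact smul_ne_zero hμ hx0) l
  exact ⟨s, by simpa [hx] using hs⟩

/-- The root lemma: an element permuting the layers which is unipotent of the rank of a transvection is a
transvection of one factor. -/
theorem root_lp [Finite F] [Nonempty ι] (hk : 2 ≤ Fintype.card γ) (hchar : (2 : F) ≠ 0 ∨ 4 ≤ Fintype.card γ)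
    {h : GL (ι → γ) F} (hh : LP h)
    (hsq : ∀ v, (h : Matrix (ι → γ) (ι → γ) F) *ᵥ ((h : Matrix (ι → γ) (ι → γ) F) *ᵥ v - v) =
      (h : Matrix (ι → γ) (ι → γ) F) *ᵥ v - v)
    (hr : Module.finrank F (LinearMap.range ((h : Matrix (ι → γ) (ι → γ) F).mulVecLin - LinearMap.id)) =
      Fintype.card γ ^ (Fintype.card ι - 1)) :
    ∃ (i : ι) (d : γ → F), d ≠ 0 ∧
      LinearMap.range ((h : Matrix (ι → γ) (ι → γ) F).mulVecLin - LinearMap.id) = lay i d := by
  classical
  haveI : Nonempty γ := Fintype.card_pos_iff.mp (by omega)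
  obtain ⟨σ, a, hστ⟩ := hh.structure hk
  have hinj : Function.Injective ((h : Matrix (ι → γ) (ι → γ) F).mulVec) :=
    Matrix.mulVec_injective_of_isUnit h.isUnit
  set e₀ : γ → F := Pi.single (Classical.arbitrary γ) 1
  have he₀ : e₀ ≠ 0 := by simp [e₀]
  have hainj : ∀ i, Function.Injective (a i) := by
    intro i
    rw [← LinearMap.ker_eq_bot, LinearMap.ker_eq_bot']
    intro v hv
    by_contra hv0
    refine pt_ne_zero (x := Function.update (fun _ => e₀) (σ i) v) (fun l => ?_) (hinj ?_)
    · by_cases hl : l = σ i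
      · subst hl; simpa using hv0
      · simpa [hl] using he₀
    · rw [mulVec_zero, hστ, pt_eq_zero (i := i)]
      simpa using hv
  let ae : ι → (γ → F) ≃ₗ[F] (γ → F) := fun i => LinearEquiv.ofInjectiveEndo (a i) (hainj i)
  have hae : ∀ i v, a i ((ae i).symm v) = v := fun i v => (ae i).apply_symm_apply v
  have hh2 : ∀ x : ι → γ → F, pt (fun i => a i (a (σ i) (x (σ (σ i))))) =
      (2 : F) • pt (fun i => a i (x (σ i))) - pt x := by
    intro x
    have := hsq (pt x)
    rw [mulVec_sub, hστ, hστ] at this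
    rw [two_smul]
    linear_combination (norm := module) this
  have hy0 : ∀ x : ι → γ → F, (∀ i, x i ≠ 0) → ∀ i, a i (x (σ i)) ≠ 0 := fun x hx i h0 =>
    hx (σ i) (hainj i (h0.trans (map_zero (a i)).symm))
  -- `h` as a tensor product of maps when the permutation is trivial
  have hkron : σ = 1 → ∀ v, (h : Matrix (ι → γ) (ι → γ) F) *ᵥ v = kronOp a v := fun hσ v => by
    refine DFunLike.congr_fun (ext_pt (L := (h : Matrix (ι → γ) (ι → γ) F).mulVecLin) (L' := kronOp a) fun x => ?_) v
    rw [Matrix.mulVecLin_apply, hστ, kronOp_pt, hσ]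
    rfl
  have hone : σ = 1 → (∃ j, ∀ i, i ≠ j → ∃ c : F, a i = c • LinearMap.id) →
      ∃ (i : ι) (d : γ → F), d ≠ 0 ∧
        LinearMap.range ((h : Matrix (ι → γ) (ι → γ) F).mulVecLin - LinearMap.id) = lay i d := by
    rintro hσ ⟨j, hj⟩
    choose! c hc using hj
    refine ⟨j, one_slot (A := (∏ i : Rest j, c i) • a j - LinearMap.id) (fun u w => ?_) hr⟩
    rw [LinearMap.sub_apply, Matrix.mulVecLin_apply, hkron hσ, kronOp_pair,
      show (fun i : Rest j => a i) = fun i : Rest j => c i • LinearMap.id from funext fun i => hc i i.2,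
      kronOp_scalar]
    show pair j ((∏ i : Rest j, c i) • u) (a j w) - pair j u w = pair j u ((∏ i : Rest j, c i) • a j w - w)
    rw [pair_smul_left, ← pair_smul_right]
    exact (map_sub (pairR j u) _ _).symm
  by_cases h2 : (2 : F) ≠ 0
  · -- odd characteristic
    have hfix : ∀ x : ι → γ → F, (∀ i, x i ≠ 0) → ∃ j, ∀ i, i ≠ j → ∃ s : F, a i (x (σ i)) = s • x i := by
      intro x hx
      obtain ⟨i₀⟩ := ‹Nonempty ι›
      set y : ι → γ → F := fun i => a i (x (σ i)) with hy
      have e1 : pt (Function.update y i₀ ((2 : F) • y i₀)) = (2 : F) • pt y := by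
        rw [pt_update_smul, Function.update_eq_self]
      have e2 : pt (Function.update x i₀ ((-1 : F) • x i₀)) = -pt x := by
        rw [pt_update_smul, Function.update_eq_self, neg_one_smul]
      obtain ⟨j, hj⟩ := shared (x := Function.update x i₀ ((-1 : F) • x i₀))
        (y := Function.update y i₀ ((2 : F) • y i₀)) (z := fun i => a i (a (σ i) (x (σ (σ i)))))
        (by rw [e2]; exact neg_ne_zero.mpr (pt_ne_zero hx))
        (by rw [e1]; exact smul_ne_zero h2 (pt_ne_zero (hy0 x hx)))
        (by rw [e1, e2, hh2]; abel)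
      refine ⟨j, fun i hi => ?_⟩
      obtain ⟨s, hs⟩ := hj i hi
      by_cases hi₀ : i = i₀
      · subst hi₀
        rw [Function.update_self, Function.update_self] at hs
        refine ⟨(2 : F)⁻¹ * -s, ?_⟩
        rw [mul_smul, ← inv_smul_smul₀ h2 (a i (x (σ i))), show (2 : F) • a i (x (σ i)) = _ from hs, smul_smul,
          smul_smul, smul_smul]
        ring_nf
      · rw [Function.update_of_ne hi₀, Function.update_of_ne hi₀] at hs
        exact ⟨s, hs⟩
    have hσ : σ = 1 := by
      by_contra hσ
      obtain ⟨i, hi⟩ := not_forall.mp (fun hall => hσ (Equiv.ext hall))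
      change σ i ≠ i at hi
      obtain ⟨z, hz₁, hz₂⟩ := exists_avoid hk ((ae i).symm e₀) (a (σ i) e₀)
      set l := σ i with hl
      have hz0 : z ≠ 0 := fun h0 => hz₁ 0 (by rw [h0, zero_smul])
      obtain ⟨zm, hzm, -⟩ := exists_avoid hk ((ae l).symm z) 0
      have hzm0 : zm ≠ 0 := fun h0 => hzm 0 (by rw [h0, zero_smul])
      set x : ι → γ → F := fun m => if m = i then e₀ else if m = l then z else zm with hx
      have hx0 : ∀ m, x m ≠ 0 := fun m => by simp only [hx]; split_ifs <;> assumption
      have f1 : ∀ s : F, a i (x (σ i)) ≠ s • x i := fun s hs => by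
        simp only [hx, ← hl, hi, if_false, if_true] at hs
        exact hz₁ s (hainj i (by rw [map_smul, hae, hs]))
      have f2 : ∀ s : F, a l (x (σ l)) ≠ s • x l := fun s hs => by
        have hxl : x l = z := by simp [hx, hi]
        rw [hxl] at hs
        by_cases hli : σ l = i
        · have hxi : x (σ l) = e₀ := by simp [hx, hli]
          rw [hxi] at hs
          by_cases hs0 : s = 0
          · rw [hs0, zero_smul] at hs
            exact he₀ (hainj l (hs.trans (map_zero _).symm))
          · exact hz₂ s⁻¹ (by rw [hs, smul_smul, inv_mul_cancel₀ hs0, one_smul])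
        · have hll : σ l ≠ l := fun h => hi (σ.injective h)
          have hxm : x (σ l) = zm := by simp [hx, hli, hll]
          rw [hxm] at hs
          exact hzm s (hainj l (by rw [map_smul, hae, hs]))
      obtain ⟨j, hj⟩ := hfix x hx0
      by_cases hij : i = j
      · obtain ⟨s, hs⟩ := hj l (hij ▸ hi)
        exact f2 s hs
      · obtain ⟨s, hs⟩ := hj i hij
        exact f1 s hs
    refine hone hσ ?_
    by_cases hall : ∀ i, ∃ c : F, a i = c • LinearMap.id
    · exact ⟨Classical.arbitrary ι, fun i _ => hall i⟩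
    push Not at hall
    obtain ⟨j, hj⟩ := hall
    refine ⟨j, fun i hi => ?_⟩
    by_contra hc
    push Not at hc
    have ev : ∀ m, (∀ c : F, a m ≠ c • LinearMap.id) → ∃ v, v ≠ 0 ∧ ∀ c : F, a m v ≠ c • v := by
      intro m hm
      by_contra hv
      push Not at hv
      obtain ⟨c, hc⟩ := scalar_of_eigen (a m) hv
      exact hm c hc
    obtain ⟨v, hv0, hv⟩ := ev i hc
    obtain ⟨w, hw0, hw⟩ := ev j hj
    set x : ι → γ → F := fun m => if m = i then v else if m = j then w else e₀ with hx
    obtain ⟨j', hj'⟩ := hfix x (fun m => by simp only [hx]; split_ifs <;> assumption)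
    by_cases h' : i = j'
    · obtain ⟨s, hs⟩ := hj' j (h' ▸ Ne.symm hi)
      exact hw s (by simpa [hx, hσ, Ne.symm hi] using hs)
    · obtain ⟨s, hs⟩ := hj' i h'
      exact hv s (by simpa [hx, hσ] using hs)
  have h4 : 4 ≤ Fintype.card γ := hchar.resolve_left h2
  replace h2 : (2 : F) = 0 := not_not.mp h2
  -- characteristic two
  haveI : CharP F 2 := CharTwo.of_one_ne_zero_of_two_eq_zero one_ne_zero h2
  have hh2' : ∀ x : ι → γ → F, pt (fun i => a i (a (σ i) (x (σ (σ i))))) = pt x := fun x => by
    rw [hh2, h2, zero_smul, zero_sub]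
    exact CharTwo.neg_eq _
  have hsq' : ∀ x : ι → γ → F, (∀ i, x i ≠ 0) → ∀ i, ∃ s : F, a i (a (σ i) (x (σ (σ i)))) = s • x i := fun x hx i =>
    pt_prop (y := fun i => a i (a (σ i) (x (σ (σ i))))) (c := 1) (by rw [one_smul]; exact hh2' x)
      (by rw [hh2' x]; exact pt_ne_zero hx) i
  have hσσ : ∀ i, σ (σ i) = i := by
    intro i
    by_contra hne
    obtain ⟨z, hz, -⟩ := exists_avoid hk ((ae (σ i)).symm ((ae i).symm e₀)) 0
    have hz0 : z ≠ 0 := fun h0 => hz 0 (by rw [h0, zero_smul])
    obtain ⟨s, hs⟩ := hsq' (fun m => if m = i then e₀ else z) (fun m => by split <;> assumption) i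
    rw [if_neg hne, if_pos rfl] at hs
    refine hz s (hainj (σ i) (hainj i ?_))
    simp only [map_smul, hae]
    exact hs
  have hsc : ∀ i, ∃ c : F, (a i).comp (a (σ i)) = c • LinearMap.id := fun i =>
    scalar_of_eigen _ fun v hv => by
      obtain ⟨s, hs⟩ := hsq' (fun _ => v) (fun _ => hv) i
      exact ⟨s, hs⟩
  by_cases hσ : σ = 1
  · by_cases hall : ∃ j, ∀ i, i ≠ j → ∃ c : F, a i = c • LinearMap.id
    · exact hone hσ hall
    push Not at hall
    obtain ⟨i₀⟩ := ‹Nonempty ι›
    obtain ⟨j, -, hj⟩ := hall i₀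
    obtain ⟨m, hmj, hm⟩ := hall j
    obtain ⟨c, hc⟩ := hsc j
    rw [hσ] at hc
    obtain ⟨μ, hμ⟩ := FiniteField.isSquare_of_char_two (ringChar.eq F 2) c
    have hcc : ∀ v, a j (a j v) = c • v := fun v => DFunLike.congr_fun hc v
    have hμ0 : μ ≠ 0 := by
      rintro rfl
      refine he₀ (hainj j (hainj j ?_))
      rw [hcc, hμ, mul_zero, zero_smul, map_zero, map_zero]
    have hlt := two_strict (T := (h : Matrix (ι → γ) (ι → γ) F).mulVecLin - LinearMap.id) (j := j)
      (A := μ⁻¹ • a j - LinearMap.id) (h := μ • kronOp fun i : Rest j => a i)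
      (S := μ • kronOp (fun i : Rest j => a i) - LinearMap.id) (by omega) (fun u w => ?_) ?_ ?_ ?_ ?_
    · exact absurd hr (ne_of_gt hlt)
    · rw [LinearMap.sub_apply, Matrix.mulVecLin_apply, hkron hσ, kronOp_pair, LinearMap.id_apply]
      set K := kronOp (fun i : Rest j => a i) u
      show pair j K (a j w) - pair j u w = pair j (μ • K) (μ⁻¹ • a j w - w) + pair j (μ • K - u) w
      rw [show pair j (μ • K) (μ⁻¹ • a j w - w) = pair j (μ • K) (μ⁻¹ • a j w) - pair j (μ • K) w from
        map_sub (pairR j _) _ _, show pair j (μ • K - u) w = pair j (μ • K) w - pair j u w from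
        map_sub (pairL j w) _ _, pair_smul_left, pair_smul_right, smul_smul, mul_inv_cancel₀ hμ0, one_smul]
      abel
    · intro u u' huu
      refine pairL_injective j (w := a j e₀) (fun h0 => he₀ (hainj j (h0.trans (map_zero _).symm))) ?_
      have huu' : kronOp (fun i : Rest j => a i) u = kronOp (fun i : Rest j => a i) u' :=
        smul_right_injective _ hμ0 huu
      refine congrArg (pairL j (a j e₀)) ?_
      refine pairL_injective j he₀ (hinj ?_)
      show (h : Matrix (ι → γ) (ι → γ) F) *ᵥ pair j u e₀ = (h : Matrix (ι → γ) (ι → γ) F) *ᵥ pair j u' e₀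
      rw [hkron hσ, hkron hσ, kronOp_pair, kronOp_pair, huu']
    · refine LinearMap.ext fun v => ?_
      simp only [LinearMap.comp_apply, LinearMap.sub_apply, LinearMap.smul_apply, LinearMap.id_apply, map_sub,
        map_smul, LinearMap.zero_apply, hcc, smul_smul, hμ]
      rw [show μ⁻¹ * (μ * μ) = μ by field_simp, smul_sub, smul_smul, inv_mul_cancel₀ hμ0, one_smul]
      linear_combination (norm := module) (-1 : F) • CharTwo.add_self_eq_zero (μ⁻¹ • a j v - v)
    · intro h0
      refine hj μ (LinearMap.ext fun v => ?_)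
      have : μ⁻¹ • a j v - v = 0 := DFunLike.congr_fun h0 v
      rw [LinearMap.smul_apply, LinearMap.id_apply, ← smul_inv_smul₀ hμ0 (a j v), sub_eq_zero.mp this]
    · intro h0
      obtain ⟨d, hd⟩ := scalar_of_kronOp_eq (a := fun i : Rest j => a i) (μ := μ⁻¹) (inv_ne_zero hμ0)
        (LinearMap.ext fun u => by
          have : μ • kronOp (fun i : Rest j => a i) u - u = 0 := DFunLike.congr_fun h0 u
          rw [LinearMap.smul_apply, LinearMap.id_apply, eq_inv_smul_iff₀ hμ0, sub_eq_zero.mp this]) ⟨m, hmj⟩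
      exact hm d hd
  -- two factors are exchanged
  exfalso
  obtain ⟨i, hi⟩ := not_forall.mp (fun hall => hσ (Equiv.ext hall))
  change σ i ≠ i at hi
  obtain ⟨l, hl⟩ : ∃ l, σ i = l := ⟨_, rfl⟩
  have hli : σ l = i := hl ▸ hσσ i
  have hne : l ≠ i := hl ▸ hi
  obtain ⟨μ, hμ⟩ := hsc l
  rw [hli] at hμ
  let ord : γ ≃ Fin (Fintype.card γ) := Fintype.equivFin γ
  let J := {b : ι → γ // ord (b i) < ord (b l)}
  let z : (ι → γ) → (ι → γ → F) := fun b m =>
    if m = i then a i (Pi.single (b m) 1) else Pi.single (b m) 1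
  let V : (J → F) →ₗ[F] ((ι → γ) → F) := Fintype.linearCombination F (fun b : J => pt (z b.1))
  let ψ : ι → (γ → F) →ₗ[F] (γ → F) := fun m => if m = i then (ae i).symm.toLinearMap else LinearMap.id
  let L : ((ι → γ) → F) →ₗ[F] (J → F) := LinearMap.pi fun c : J => (LinearMap.proj c.1).comp (kronOp ψ)
  set T := (h : Matrix (ι → γ) (ι → γ) F).mulVecLin - LinearMap.id with hT
  have hψz : ∀ b, kronOp ψ (pt (z b)) = Pi.single b 1 := fun b => by
    rw [kronOp_pt, show (fun m => ψ m (z b m)) = fun m => Pi.single (b m) (1 : F) from funext fun m => by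
      by_cases hm : m = i
      · rw [hm]; simp only [ψ, z, if_pos rfl]; exact (ae i).symm_apply_apply _
      · simp only [ψ, z, if_neg hm]; rfl, pt_single]
  have hψh : ∀ (b c : J), kronOp ψ ((h : Matrix (ι → γ) (ι → γ) F) *ᵥ pt (z b.1)) c.1 = 0 := fun b c => by
    rw [hστ, kronOp_pt]
    by_contra hne0
    have hp := Finset.prod_ne_zero_iff.mp hne0
    have hi' := hp i (mem_univ i)
    have hl' := hp l (mem_univ l)
    simp only [ψ, z, hl, hli, if_neg hne, if_pos rfl, LinearMap.id_apply] at hi' hl'
    rw [show ((ae i).symm.toLinearMap) (a i (Pi.single (b.1 l) 1)) = Pi.single (b.1 l) 1 from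
      (ae i).symm_apply_apply _] at hi'
    rw [show a l (a i (Pi.single (b.1 i) 1)) = μ • Pi.single (b.1 i) 1 from DFunLike.congr_fun hμ _] at hl'
    have e1 : c.1 i = b.1 l := by_contra fun h => hi' (Pi.single_eq_of_ne h 1)
    have e2 : c.1 l = b.1 i := by_contra fun h => hl' (by rw [Pi.smul_apply, Pi.single_eq_of_ne h, smul_zero])
    have := c.2
    rw [e1, e2] at this
    exact lt_asymm this b.2
  have hinjV : Function.Injective (T.comp V) := by
    rw [← LinearMap.ker_eq_bot, LinearMap.ker_eq_bot']
    intro s hs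
    funext c
    have := congrFun (congrArg L hs) c
    simp only [V, L, hT, LinearMap.comp_apply, Fintype.linearCombination_apply, map_sum, map_smul, Finset.sum_apply,
      LinearMap.pi_apply, LinearMap.proj_apply, LinearMap.sub_apply, Matrix.mulVecLin_apply, LinearMap.id_apply,
      map_sub, Pi.sub_apply, Pi.smul_apply, hψh, hψz, map_zero, Pi.zero_apply, smul_eq_mul, zero_sub] at this
    rw [Finset.sum_eq_single c (fun b _ hb => by
      rw [Pi.single_eq_of_ne (fun h => hb (Subtype.ext h.symm)), neg_zero, mul_zero])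
      (fun h => absurd (mem_univ c) h), Pi.single_eq_same] at this
    simpa using this
  have h1 := Submodule.finrank_mono (show LinearMap.range (T.comp V) ≤ LinearMap.range T from
    LinearMap.range_comp_le_range V T)
  rw [LinearMap.finrank_range_of_inj hinjV, hr, Module.finrank_pi] at h1
  -- counting
  have e1 : Fintype.card {b : ι → γ // ord (b l) < ord (b i)} = Fintype.card J :=
    Fintype.card_congr (Equiv.subtypeEquiv (Equiv.arrowCongr (Equiv.swap i l) (Equiv.refl γ)) fun b => by
      simp [Equiv.arrowCongr_apply])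
  have e2 : Fintype.card {b : ι → γ // b i = b l} = Fintype.card γ ^ (Fintype.card ι - 1) := by
    let E : {b : ι → γ // b i = b l} ≃ (Rest l → γ) :=
      { toFun := fun b m => b.1 m
        invFun := fun b => ⟨ext l b (b ⟨i, hne.symm⟩), by simp [ext, hne.symm]⟩
        left_inv := fun b => Subtype.ext (funext fun m => by
          by_cases hm : m = l
          · rw [hm]; simp [ext, b.2]
          · simp [ext, hm])
        right_inv := fun b => ext_rest l b _ }
    rw [Fintype.card_congr E, Fintype.card_fun, Fintype.card_subtype_compl, Fintype.card_subtype_eq]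
  have e3 : Fintype.card (ι → γ) = Fintype.card J + Fintype.card {b : ι → γ // ord (b l) < ord (b i)} +
      Fintype.card {b : ι → γ // b i = b l} := by
    simp only [J, Fintype.card_subtype]
    rw [← Finset.card_univ, ← Finset.card_union_of_disjoint, ← Finset.card_union_of_disjoint]
    · congr 1
      refine (Finset.eq_univ_iff_forall.mpr fun b => ?_).symm
      simp only [Finset.mem_union, Finset.mem_filter, mem_univ, true_and]
      rcases lt_trichotomy (ord (b i)) (ord (b l)) with h | h | h
      · exact Or.inl (Or.inl h)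
      · exact Or.inr (ord.injective h)
      · exact Or.inl (Or.inr h)
    · rw [Finset.disjoint_left]
      intro b hb hb'
      simp only [Finset.mem_union, Finset.mem_filter, mem_univ, true_and] at hb hb'
      rw [hb'] at hb
      simp at hb
    · rw [Finset.disjoint_left]
      intro b hb hb'
      simp only [Finset.mem_filter, mem_univ, true_and] at hb hb'
      exact lt_asymm hb hb'
  rw [Fintype.card_fun, e1, e2] at e3
  have ht : 1 ≤ Fintype.card ι := Fintype.card_pos
  have hpow : Fintype.card γ ^ Fintype.card ι = Fintype.card γ ^ (Fintype.card ι - 1) * Fintype.card γ := by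
    rw [← pow_succ, Nat.sub_add_cancel ht]
  have := Nat.mul_le_mul_left (Fintype.card γ ^ (Fintype.card ι - 1)) h4
  have := pow_pos (show 0 < Fintype.card γ by omega) (Fintype.card ι - 1)
  omega

/-- The sum lemma: a square-zero sum of maps of single slots of the rank of a transvection acts on one slot. -/
theorem root_sum [Finite F] [Nonempty ι] (hk : 2 ≤ Fintype.card γ) (hchar : (2 : F) ≠ 0 ∨ 3 ≤ Fintype.card γ)
    {M : ι → (γ → F) →ₗ[F] (γ → F)} (hsq : ∀ v, sumOp M (sumOp M v) = 0)
    (hr : Module.finrank F (LinearMap.range (sumOp M)) = Fintype.card γ ^ (Fintype.card ι - 1)) :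
    ∃ (i : ι) (d : γ → F), d ≠ 0 ∧ LinearMap.range (sumOp M) = lay i d := by
  classical
  haveI : Nonempty γ := Fintype.card_pos_iff.mp (by omega)
  have hone : ∀ j, (∀ i, i ≠ j → ∃ c : F, M i = c • LinearMap.id) →
      ∃ (i : ι) (d : γ → F), d ≠ 0 ∧ LinearMap.range (sumOp M) = lay i d := by
    intro j hj
    choose! c hc using hj
    refine ⟨j, one_slot (A := M j + (∑ i : Rest j, c i) • LinearMap.id) (fun u w => ?_) hr⟩
    rw [sumOp_pair, show sumOp (fun i : Rest j => M i) u = (∑ i : Rest j, c i) • u from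
      DFunLike.congr_fun (ext_pt (L := sumOp fun i : Rest j => M i) (L' := (∑ i : Rest j, c i) • LinearMap.id)
        fun x => by
          rw [sumOp_pt, LinearMap.smul_apply, LinearMap.id_apply, Finset.sum_smul]
          refine Finset.sum_congr rfl fun i _ => ?_
          rw [hc i i.2, LinearMap.smul_apply, LinearMap.id_apply, pt_update_smul, Function.update_eq_self]) u]
    show pair j ((∑ i : Rest j, c i) • u) w + pair j u (M j w) = pair j u (M j w + (∑ i : Rest j, c i) • w)
    rw [pair_add_right, pair_smul_left, pair_smul_right, add_comm]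
  by_cases hall : ∃ j, ∀ i, i ≠ j → ∃ c : F, M i = c • LinearMap.id
  · obtain ⟨j, hj⟩ := hall
    exact hone j hj
  push Not at hall
  exfalso
  obtain ⟨i₀⟩ := ‹Nonempty ι›
  obtain ⟨j, -, hj⟩ := hall i₀
  obtain ⟨m, hmj, hm⟩ := hall j
  by_cases h2 : (2 : F) ≠ 0
  · -- two slots give a cross term
    have ev : ∀ n, (∀ c : F, M n ≠ c • LinearMap.id) →
        ∃ (v : γ → F) (φ : Module.Dual F (γ → F)), φ v = 0 ∧ φ (M n v) = 1 := by
      intro n hn
      obtain ⟨v, hv⟩ : ∃ v, M n v ∉ Submodule.span F {v} := by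
        by_contra hc
        push Not at hc
        obtain ⟨c, hc⟩ := scalar_of_eigen (M n) fun v _ =>
          (Submodule.mem_span_singleton.mp (hc v)).imp fun s hs => hs.symm
        exact hn c hc
      obtain ⟨φ, hφ, hφ'⟩ := Submodule.exists_dual_map_eq_bot_of_notMem hv inferInstance
      refine ⟨v, (φ (M n v))⁻¹ • φ, ?_, ?_⟩
      · rw [LinearMap.smul_apply, (Submodule.eq_bot_iff _).mp hφ' _ ⟨v, Submodule.mem_span_singleton_self v, rfl⟩,
          smul_zero]
      · rw [LinearMap.smul_apply, smul_eq_mul, inv_mul_cancel₀ hφ]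
    obtain ⟨v, φ, hφv, hφ⟩ := ev j hj
    obtain ⟨w, χ, hχw, hχ⟩ := ev m hm
    set p := Classical.arbitrary γ
    let e₀ : γ → F := Pi.single p 1
    set x : ι → γ → F := fun n => if n = j then v else if n = m then w else e₀ with hx
    let θ : ι → (γ → F) →ₗ[F] F := fun n => if n = j then φ else if n = m then χ else LinearMap.proj p
    -- the product functional
    let R : ι → (γ → F) →ₗ[F] (γ → F) := fun n => (θ n).smulRight e₀
    let Φ : ((ι → γ) → F) →ₗ[F] F := (LinearMap.proj fun _ => p).comp (kronOp R)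
    have hΦ : ∀ y : ι → γ → F, Φ (pt y) = ∏ n, θ n (y n) := fun y => by
      show kronOp R (pt y) (fun _ => p) = _
      rw [kronOp_pt, pt]
      exact Finset.prod_congr rfl fun n _ => by simp [R, e₀]
    have hterm : ∀ n n', Φ (pt (Function.update (Function.update x n (M n (x n))) n'
        (M n' (Function.update x n (M n (x n)) n')))) =
        if (n = j ∧ n' = m) ∨ (n = m ∧ n' = j) then 1 else 0 := by
      intro n n'
      rw [hΦ]
      split_ifs with hcase
      · refine Finset.prod_eq_one fun q _ => ?_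
        rcases hcase with ⟨e1, e2⟩ | ⟨e1, e2⟩
        all_goals
          rw [e1, e2]
          by_cases hq : q = j
          · rw [hq]; simp [θ, x, hmj, Ne.symm hmj, hφ]
          · by_cases hq' : q = m
            · rw [hq']; simp [θ, x, hmj, Ne.symm hmj, hχ]
            · simp [θ, x, hq, hq', e₀]
      · push Not at hcase
        by_cases hnj : n = j ∨ n' = j
        · refine Finset.prod_eq_zero (mem_univ m) ?_
          have h1 : m ≠ n ∧ m ≠ n' := by
            rcases hnj with rfl | rfl
            · exact ⟨hmj, fun h => hcase.1 rfl h.symm⟩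
            · exact ⟨fun h => hcase.2 h.symm rfl, hmj⟩
          simp [θ, x, hmj, h1.1, h1.2, hχw]
        · push Not at hnj
          refine Finset.prod_eq_zero (mem_univ j) ?_
          simp [θ, x, Ne.symm hnj.1, Ne.symm hnj.2, hφv]
    have h0 := congrArg Φ (hsq (pt x))
    rw [sumOp_pt, map_sum] at h0
    simp only [sumOp_pt, map_sum, map_zero, hterm] at h0
    rw [← Fintype.sum_prod_type', Finset.sum_boole] at h0
    have hset : (univ.filter fun q : ι × ι => q.1 = j ∧ q.2 = m ∨ q.1 = m ∧ q.2 = j) = {(j, m), (m, j)} := by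
      ext ⟨a, b⟩
      simp [and_comm]
    rw [hset, Finset.card_pair (fun h => hmj (congrArg Prod.fst h).symm)] at h0
    exact h2 (by exact_mod_cast h0)
  -- characteristic two
  have h3 : 3 ≤ Fintype.card γ := hchar.resolve_left h2
  replace h2 : (2 : F) = 0 := not_not.mp h2
  haveI : CharP F 2 := CharTwo.of_one_ne_zero_of_two_eq_zero one_ne_zero h2
  set S := sumOp fun i : Rest j => M i with hS
  have hpair : ∀ u w, sumOp M (pair j u w) = pair j (S u) w + pair j u (M j w) := fun u w => sumOp_pair M j u w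
  obtain ⟨c, hc⟩ : ∃ c : F, (M j).comp (M j) = c • LinearMap.id := by
    refine scalar_of_eigen _ fun w hw => ?_
    have hu : (pt fun _ : Rest j => (Pi.single (Classical.arbitrary γ) 1 : γ → F)) ≠ 0 := pt_ne_zero fun _ => by simp
    set u := pt fun _ : Rest j => (Pi.single (Classical.arbitrary γ) 1 : γ → F)
    obtain ⟨b, hb⟩ := Function.ne_iff.mp hu
    have := hsq (pair j u w)
    rw [hpair, map_add, hpair, hpair] at this
    refine ⟨-(S (S u) b) / u b, funext fun q => ?_⟩
    have := congrFun this (ext j b q)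
    simp only [Pi.add_apply, Pi.zero_apply, pair_ext] at this
    simp only [LinearMap.comp_apply, Pi.smul_apply, smul_eq_mul]
    simp only [Pi.zero_apply] at hb
    field_simp
    linear_combination this - S u b * M j w q * h2
  obtain ⟨μ, hμ⟩ := FiniteField.isSquare_of_char_two (ringChar.eq F 2) c
  have hcc : ∀ v, M j (M j v) = c • v := fun v => DFunLike.congr_fun hc v
  have hlt := two_strict (T := sumOp M) (j := j) (A := M j - μ • LinearMap.id)
    (h := LinearMap.id) (S := S + μ • LinearMap.id) h3 (fun u w => ?_) (fun u u' h => h) ?_ ?_ ?_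
  · exact absurd hr (ne_of_gt hlt)
  · rw [hpair]
    show _ = pair j u (M j w - μ • w) + pair j (S u + μ • u) w
    rw [show pair j u (M j w - μ • w) = pair j u (M j w) - pair j u (μ • w) from map_sub (pairR j u) _ _,
      pair_smul_right, pair_add_left, pair_smul_left]
    abel
  · refine LinearMap.ext fun v => ?_
    simp only [LinearMap.comp_apply, LinearMap.sub_apply, LinearMap.smul_apply, LinearMap.id_apply, map_sub,
      map_smul, LinearMap.zero_apply, hcc, smul_smul, hμ]
    linear_combination (norm := module) CharTwo.add_self_eq_zero ((μ * μ) • v - μ • M j v)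
  · exact fun h0 => hj μ (sub_eq_zero.mp h0)
  · intro h0
    obtain ⟨d, hd⟩ := scalar_of_sumOp_eq (M := fun i : Rest j => M i) (μ := -μ)
      ((eq_neg_of_add_eq_zero_left h0).trans (neg_smul μ _).symm) ⟨m, hmj⟩
    exact hm d hd

end Cfsg.Lib.Classical.TensorPow
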