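import Cfsg.Agent.Classical.TensorPow.Average

/-! A group in which the stabilisers of layers split permutes the layers. -/

set_option autoImplicit false
set_option linter.unusedSectionVars false
set_option linter.unusedSimpArgs false

namespace Cfsg.Lib.Classical.TensorPow

open Matrix Finset

universe u

variable {ι γ : Type} [Fintype ι] [DecidableEq ι] [Fintype γ] [DecidableEq γ] {F : Type u} [Field F]
  {ω : LinearMap.BilinForm F (γ → F)} {B : LinearMap.BilinForm F ((ι → γ) → F)}

theorem mulVec_inv_self {κ : Type} [Fintype κ] [DecidableEq κ] (g : GL κ F) (x : κ → F) :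
    ((g⁻¹ : GL κ F) : Matrix κ κ F) *ᵥ ((g : Matrix κ κ F) *ᵥ x) = x := by
  rw [mulVec_mulVec, ← Units.val_mul, inv_mul_cancel, Units.val_one, one_mulVec]

theorem mulVec_self_inv {κ : Type} [Fintype κ] [DecidableEq κ] (g : GL κ F) (x : κ → F) :
    (g : Matrix κ κ F) *ᵥ (((g⁻¹ : GL κ F) : Matrix κ κ F) *ᵥ x) = x := by
  rw [mulVec_mulVec, ← Units.val_mul, mul_inv_cancel, Units.val_one, one_mulVec]

theorem IsTr.fix_lay {l j : ι} (hlj : l ≠ j) {d : γ → F} {t : F} {g : GL (ι → γ) F} (h : IsTr ω l d t g)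
    (e : γ → F) {v : (ι → γ) → F} (hv : v ∈ lay j e) : (g : Matrix (ι → γ) (ι → γ) F) *ᵥ v ∈ lay j e := by
  obtain ⟨u, rfl⟩ := hv
  have := pair_left_ext (j := j) e (L := (lay j e).mkQ.comp (g : Matrix (ι → γ) (ι → γ) F).mulVecLin) (L' := 0)
    (fun x => by
      set z : ι → γ → F := fun i => if h : i = j then e else x ⟨i, h⟩ with hz
      have hzj : z j = e := by simp [hz]
      have hzp : pt z = pair j (pt x) e := by
        rw [pt_eq_pair j, hzj]
        congr 2
        funext i
        simp [hz, i.2]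
      rw [← hzp, LinearMap.comp_apply, Matrix.mulVecLin_apply, pt_eq_pair l, h, ← pt_update, Submodule.mkQ_apply,
        LinearMap.zero_apply, Submodule.Quotient.mk_eq_zero]
      have := pt_mem_lay (x := Function.update z l (z l + (t * ω (z l) d) • d)) j
      rwa [Function.update_of_ne (Ne.symm hlj), hzj] at this) u
  rwa [LinearMap.comp_apply, LinearMap.zero_apply, Submodule.mkQ_apply, Submodule.Quotient.mk_eq_zero] at this

/-- A group element mapping one layer to a layer permutes all layers, given this for the stabilisers. -/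
theorem lp_of_layer_map [Finite F] [Nonempty ι] (T : TP ω B) (hk : 2 ≤ Fintype.card γ)
    (hchar : (2 : F) ≠ 0 ∨ 4 ≤ Fintype.card γ) {X : Subgroup (GL (ι → γ) F)} (hX : SX ω B X)
    (hstab : ∀ h ∈ X, ∀ (i : ι) (e : γ → F), e ≠ 0 →
      (∀ v ∈ lay i e, (h : Matrix (ι → γ) (ι → γ) F) *ᵥ v ∈ lay i e) → LP h)
    {g : GL (ι → γ) F} (hg : g ∈ X) {j i : ι} {d d' : γ → F} (hd : d ≠ 0) (hd' : d' ≠ 0)
    (hmap : ∀ v ∈ lay j d, (g : Matrix (ι → γ) (ι → γ) F) *ᵥ v ∈ lay i d') : LP g := by
  haveI : Nonempty γ := Fintype.card_pos_iff.mp (by omega)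
  have step : ∀ (j i : ι) (d d' : γ → F), d ≠ 0 → d' ≠ 0 →
      (∀ v ∈ lay j d, (g : Matrix (ι → γ) (ι → γ) F) *ᵥ v ∈ lay i d') →
      ∀ l, l ≠ j → ∀ e : γ → F, e ≠ 0 → ∃ (i' : ι) (e' : γ → F), e' ≠ 0 ∧
        ∀ v ∈ lay l e, (g : Matrix (ι → γ) (ι → γ) F) *ᵥ v ∈ lay i' e' := by
    intro j i d d' hd hd' hmap l hl e he
    obtain ⟨r, hr, hrt⟩ := hX.tr l e 1
    refine exists_layer_map T hk hchar he one_ne_zero hrt
      (hstab _ (mul_mem (mul_mem hg hr) (inv_mem hg)) i d' hd' fun v hv => ?_)
    obtain ⟨v₀, hv₀, rfl⟩ := LP.map_lay hd hd' hmap hv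
    rw [Units.val_mul, Units.val_mul, ← mulVec_mulVec, ← mulVec_mulVec, mulVec_inv_self]
    exact hmap _ (hrt.fix_lay hl d hv₀)
  intro l e he
  by_cases hl : l = j
  · by_cases hm : ∃ m, m ≠ j
    · obtain ⟨m, hm⟩ := hm
      have hp : (Pi.single (Classical.arbitrary γ) 1 : γ → F) ≠ 0 := by simp
      obtain ⟨i', e', he', hm'⟩ := step j i d d' hd hd' hmap m hm _ hp
      exact step m i' _ e' hp he' hm' l (hl ▸ Ne.symm hm) e he
    · push Not at hm
      -- a single factor
      set w : γ → F := fun p => ((g : Matrix (ι → γ) (ι → γ) F) *ᵥ pair l (fun _ => 1) e) (fun _ => p) with hw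
      have hone : ∀ a : ι → γ, a = fun _ => a l := fun a => funext fun i => by rw [hm i, ← hl]
      have hgu : (g : Matrix (ι → γ) (ι → γ) F) *ᵥ pair l (fun _ => 1) e = pair l (fun _ => 1) w := funext fun a => by
        rw [pair_apply, one_mul, hw]
        exact congrArg _ (hone a)
      refine ⟨l, w, fun h0 => ?_, fun v hv => ?_⟩
      · rw [h0, show pair l (fun _ => (1 : F)) (0 : γ → F) = 0 from map_zero (pairR l fun _ => (1 : F))] at hgu
        refine he (funext fun p => ?_)
        have := congrFun (Matrix.mulVec_injective_of_isUnit g.isUnit (hgu.trans (mulVec_zero _).symm)) fun _ => p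
        simpa [pair_apply] using this
      · obtain ⟨u, rfl⟩ := hv
        haveI : IsEmpty (Rest l) := ⟨fun i => i.2 ((hm i).trans hl.symm)⟩
        have hu : u = u isEmptyElim • (fun _ => 1 : (Rest l → γ) → F) := funext fun b => by
          rw [Subsingleton.elim b isEmptyElim, Pi.smul_apply, smul_eq_mul, mul_one]
        show _ *ᵥ pair l u e ∈ _
        rw [hu, pair_smul_left, mulVec_smul, hgu]
        exact Submodule.smul_mem _ _ (pair_mem_lay _ _ _)
  · exact step j i d d' hd hd' hmap l hl e he

/-- An element leaving the invariant in place permutes the layers. -/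
theorem lp_of_invariant [Finite F] [Nonempty ι] (T : TP ω B) (hk : 2 ≤ Fintype.card γ)
    (hchar : (2 : F) ≠ 0 ∨ 3 ≤ Fintype.card γ) {g : GL (ι → γ) F} {ν : F} (hν0 : ν ≠ 0)
    (hν : ∀ u v, B ((g : Matrix (ι → γ) (ι → γ) F) *ᵥ u) ((g : Matrix (ι → γ) (ι → γ) F) *ᵥ v) = ν * B u v)
    (hμ : ∀ v, MU ω (fun s => (g : Matrix (ι → γ) (ι → γ) F) *ᵥ v s) = ν ^ 2 * MU ω v) : LP g := by
  classical
  haveI : Nonempty γ := Fintype.card_pos_iff.mp (by omega)
  intro j e he
  obtain ⟨c, hc, hB⟩ := T.pure
  obtain ⟨p, q, hpq⟩ := T.exists_pair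
  set za : ι → γ → F := Function.update (fun _ => p) j e with hza
  set zb : ι → γ → F := Function.update (fun _ => q) j e with hzb
  obtain ⟨M₀, hM₀⟩ := exists_sum_op ω T (pt za) (pt zb)
  set G := (g : Matrix (ι → γ) (ι → γ) F) with hG
  obtain ⟨M₁, hM₁⟩ := exists_sum_op ω T (G *ᵥ pt za) (G *ᵥ pt zb)
  have hN : ∀ u w, sumOp M₀ (pair j u w) = pair j u ((-c⁻¹ * ω w e) • e) := by
    intro u w
    refine pair_left_ext (L := sumOp M₀) (L' := pairL j ((-c⁻¹ * ω w e) • e)) w (fun x => ?_) u
    set z : ι → γ → F := fun i => if h : i = j then w else x ⟨i, h⟩ with hz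
    have hzj : z j = w := by simp [hz]
    have hzr : (fun i : Rest j => z i) = x := funext fun i => by simp [hz, i.2]
    rw [← hzr, ← hzj, ← pt_eq_pair]
    refine T.ext_B fun y => ?_
    rw [← hM₀]
    show _ = B (pair j (pt fun i : Rest j => z i) _) (pt y)
    rw [← pt_update, show (![pt za, pt zb, pt z, pt y] : Fin 4 → (ι → γ) → F) = fun s => pt (![za, zb, z, y] s) from
      funext fun s => by fin_cases s <;> rfl, MU_pt, mu1, hB, Finset.sum_eq_single j]
    · rw [← Finset.mul_prod_erase univ _ (mem_univ j), ← Finset.mul_prod_erase univ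
        (fun i => ω (Function.update z j _ i) (y i)) (mem_univ j)]
      simp only [slotVal, if_pos, cross4, Fin.isValue, Matrix.cons_val_zero, Matrix.cons_val_one, Matrix.cons_val,
        hza, hzb, Function.update_self, map_smul, LinearMap.smul_apply, smul_eq_mul]
      rw [Finset.prod_congr rfl (fun i hi => show _ = ω (z i) (y i) by
          simp [Finset.ne_of_mem_erase hi, hpq]),
        Finset.prod_congr rfl (fun i hi => show ω (Function.update z j _ i) (y i) = ω (z i) (y i) by
          simp [Finset.ne_of_mem_erase hi]), T.alt.skew (z j) e]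
      field_simp
    · intro l _ hl
      exact Finset.prod_eq_zero (mem_univ j) (by
        simp [slotVal, cross4, Ne.symm hl, hza, hzb, T.alt.self])
    · exact fun h => absurd (mem_univ _) h
  obtain ⟨f₀, hf₀⟩ := T.alt.exists_one he
  have hrange0 : LinearMap.range (sumOp M₀) = lay j e := by
    apply le_antisymm
    · rintro _ ⟨v, rfl⟩
      have := DFunLike.congr_fun (ext_pair j (L := (lay j e).mkQ.comp (sumOp M₀)) (L' := 0) fun u w => by
        rw [LinearMap.comp_apply, hN, pair_smul_right, LinearMap.zero_apply, Submodule.mkQ_apply,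
          Submodule.Quotient.mk_eq_zero]
        exact Submodule.smul_mem _ _ (pair_mem_lay _ _ _)) v
      rwa [LinearMap.comp_apply, LinearMap.zero_apply, Submodule.mkQ_apply, Submodule.Quotient.mk_eq_zero] at this
    · rintro _ ⟨u, rfl⟩
      refine ⟨(-c) • pair j u f₀, ?_⟩
      rw [map_smul, hN, hf₀, pair_smul_right, smul_smul, mul_one, neg_mul_neg, mul_inv_cancel₀ hc, one_smul]
      rfl
  have hsq0 : ∀ v, sumOp M₀ (sumOp M₀ v) = 0 := by
    intro v
    obtain ⟨u, hu⟩ : sumOp M₀ v ∈ lay j e := hrange0 ▸ ⟨v, rfl⟩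
    rw [← hu]
    show sumOp M₀ (pair j u e) = 0
    rw [hN, T.alt.self, mul_zero, zero_smul]
    exact map_zero (pairR j u)
  have hconj : ∀ v, sumOp M₁ (G *ᵥ v) = ν • G *ᵥ sumOp M₀ v := by
    intro v
    refine T.ext_B fun y => ?_
    conv_lhs => rw [← mulVec_self_inv g (pt y)]
    conv_rhs => rw [← mulVec_self_inv g (pt y)]
    rw [← hM₁, show (![G *ᵥ pt za, G *ᵥ pt zb, G *ᵥ v,
        G *ᵥ (((g⁻¹ : GL (ι → γ) F) : Matrix (ι → γ) (ι → γ) F) *ᵥ pt y)] : Fin 4 → (ι → γ) → F) =
      fun s => G *ᵥ (![pt za, pt zb, v, ((g⁻¹ : GL (ι → γ) F) : Matrix (ι → γ) (ι → γ) F) *ᵥ pt y] s) from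
      funext fun s => by fin_cases s <;> rfl, hμ, hM₀, map_smul, LinearMap.smul_apply, hν, smul_eq_mul]
    ring
  have hsurj : ∀ x, ∃ v, G *ᵥ v = x := fun x => ⟨_, mulVec_self_inv g x⟩
  have hrange1 : LinearMap.range (sumOp M₁) = (lay j e).map G.mulVecLin := by
    rw [← hrange0]
    ext x
    constructor
    · rintro ⟨y, rfl⟩
      obtain ⟨v, rfl⟩ := hsurj y
      exact ⟨_, ⟨ν • v, rfl⟩, by rw [map_smul, map_smul, Matrix.mulVecLin_apply, hconj]⟩
    · rintro ⟨_, ⟨v, rfl⟩, rfl⟩
      exact ⟨ν⁻¹ • G *ᵥ v, by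
        rw [map_smul, hconj, smul_smul, inv_mul_cancel₀ hν0, one_smul, Matrix.mulVecLin_apply]⟩
  obtain ⟨i, d, hd, hi⟩ := root_sum hk hchar
    (fun x => by obtain ⟨v, rfl⟩ := hsurj x; rw [hconj, map_smul, hconj, hsq0, mulVec_zero, smul_zero, smul_zero])
    (by rw [hrange1, ← (Submodule.equivMapOfInjective _ (Matrix.mulVec_injective_of_isUnit g.isUnit) _).finrank_eq,
      finrank_lay j he])
  exact ⟨i, d, hd, fun v hv => hi ▸ hrange1 ▸ ⟨v, hv, rfl⟩⟩

/-- The vector of the other factors containing a vector at a further factor. -/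
def addSlot (i : ι) (l : Rest i) (u : (Rest l → γ) → F) (z : γ → F) : (Rest (l : ι) → γ) → F :=
  fun c => u (fun m => c ⟨m.1.1, fun h => m.2 (Subtype.ext h)⟩) * z (c ⟨i, l.2.symm⟩)

theorem pair_pair (i : ι) (l : Rest i) (u : (Rest l → γ) → F) (w z : γ → F) :
    pair i (pair l u w) z = pair (l : ι) (addSlot i l u z) w := funext fun a => by
  simp only [pair_apply, addSlot]
  ring

/-- The form on the other factors. -/
noncomputable def restForm (B : LinearMap.BilinForm F ((ι → γ) → F)) (i : ι) (e f : γ → F) :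
    LinearMap.BilinForm F ((Rest i → γ) → F) :=
  LinearMap.compl₁₂ B (pairL i e) (pairL i f)

theorem restForm_pt {c : F} (hB : ∀ x y, B (pt x) (pt y) = c * ∏ i, ω (x i) (y i)) {i : ι} {e f : γ → F}
    (hef : ω e f = 1) (x y : Rest i → γ → F) :
    restForm B i e f (pt x) (pt y) = c * ∏ l, ω (x l) (y l) := by
  set X : ι → γ → F := fun l => if h : l = i then e else x ⟨l, h⟩ with hXdef
  set Y : ι → γ → F := fun l => if h : l = i then f else y ⟨l, h⟩ with hYdef
  have hX : pair i (pt x) e = pt X := by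
    rw [pt_eq_pair i X, show X i = e by simp [hXdef]]
    congr 2
    funext l
    simp [hXdef, l.2]
  have hY : pair i (pt y) f = pt Y := by
    rw [pt_eq_pair i Y, show Y i = f by simp [hYdef]]
    congr 2
    funext l
    simp [hYdef, l.2]
  show B (pair i (pt x) e) (pair i (pt y) f) = _
  rw [hX, hY, hB, ← Finset.mul_prod_erase univ _ (mem_univ i), show X i = e by simp [hXdef],
    show Y i = f by simp [hYdef], hef, one_mul,
    Finset.prod_subtype (univ.erase i) (p := fun l => l ≠ i) (by simp) fun l => ω (X l) (Y l)]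
  exact congrArg (c * ·) (Finset.prod_congr rfl fun l _ => by simp [hXdef, hYdef, l.2])

theorem TP.rest (T : TP ω B) {i : ι} {e f : γ → F} (hef : ω e f = 1) : TP ω (restForm B i e f) := by
  obtain ⟨c, hc, hB⟩ := T.pure
  exact ⟨T.alt, c, hc, restForm_pt hB hef⟩

theorem pair_form (T : TP ω B) {i : ι} {e f : γ → F} (hef : ω e f = 1) (u v : (Rest i → γ) → F) (w z : γ → F) :
    B (pair i u w) (pair i v z) = restForm B i e f u v * ω w z := by
  obtain ⟨c, hc, hB⟩ := T.pure
  have := DFunLike.congr_fun (DFunLike.congr_fun (ext_pt (L := LinearMap.compl₁₂ B (pairL i w) (pairL i z))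
    (L' := ω w z • restForm B i e f) fun x => ext_pt fun y => ?_) u) v
  · exact this.trans (mul_comm _ _)
  set X : ι → γ → F := fun l => if h : l = i then w else x ⟨l, h⟩ with hXdef
  set Y : ι → γ → F := fun l => if h : l = i then z else y ⟨l, h⟩ with hYdef
  have hX : pair i (pt x) w = pt X := by
    rw [pt_eq_pair i X, show X i = w by simp [hXdef]]
    congr 2
    funext l
    simp [hXdef, l.2]
  have hY : pair i (pt y) z = pt Y := by
    rw [pt_eq_pair i Y, show Y i = z by simp [hYdef]]
    congr 2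
    funext l
    simp [hYdef, l.2]
  show B (pair i (pt x) w) (pair i (pt y) z) = ω w z * restForm B i e f (pt x) (pt y)
  rw [restForm_pt hB hef, hX, hY, hB, ← Finset.mul_prod_erase univ _ (mem_univ i),
    show X i = w by simp [hXdef], show Y i = z by simp [hYdef],
    Finset.prod_subtype (univ.erase i) (p := fun l => l ≠ i) (by simp) fun l => ω (X l) (Y l),
    Finset.prod_congr rfl fun (l : Rest i) _ => show ω (X l) (Y l) = ω (x l) (y l) by simp [hXdef, hYdef, l.2]]
  ring

/-- The maps induced on the other factors. -/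
def restGroup [Finite F] (X : Subgroup (GL (ι → γ) F)) (i : ι) : Subgroup (GL (Rest i → γ) F) where
  carrier := {A | ∃ g ∈ X, ∃ b : (γ → F) →ₗ[F] (γ → F), ∀ u w,
    (g : Matrix (ι → γ) (ι → γ) F) *ᵥ pair i u w =
      pair i ((A : Matrix (Rest i → γ) (Rest i → γ) F) *ᵥ u) (b w)}
  one_mem' := ⟨1, one_mem X, LinearMap.id, fun u w => by simp⟩
  mul_mem' := by
    rintro A A' ⟨g, hg, b, h⟩ ⟨g', hg', b', h'⟩
    exact ⟨g * g', mul_mem hg hg', b.comp b', fun u w => by
      rw [Units.val_mul, Units.val_mul, ← mulVec_mulVec, ← mulVec_mulVec, h', h]; rfl⟩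
  inv_mem' := by
    rintro A hA
    obtain ⟨m, hm, e⟩ := (isOfFinOrder_of_finite A).exists_pow_eq_one
    rw [show A⁻¹ = A ^ (m - 1) from inv_eq_of_mul_eq_one_right (by rw [← pow_succ', Nat.sub_add_cancel hm, e])]
    clear hm e
    induction m - 1 with
    | zero => exact ⟨1, one_mem X, LinearMap.id, fun u w => by simp⟩
    | succ n ih =>
      obtain ⟨g, hg, b, h⟩ := ih
      obtain ⟨g', hg', b', h'⟩ := hA
      exact ⟨g * g', mul_mem hg hg', b.comp b', fun u w => by
        rw [pow_succ, Units.val_mul, Units.val_mul, ← mulVec_mulVec, ← mulVec_mulVec, h', h]; rfl⟩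

theorem SX.rest [Finite F] [Nonempty γ] (T : TP ω B) {X : Subgroup (GL (ι → γ) F)} (hX : SX ω B X) {i : ι}
    {e f : γ → F} (hef : ω e f = 1) : SX ω (restForm B i e f) (restGroup X i) := by
  have he : e ≠ 0 := fun h => by rw [h, map_zero, LinearMap.zero_apply] at hef; exact zero_ne_one hef
  have Tr := T.rest (i := i) hef
  obtain ⟨c, hc, hB⟩ := Tr.pure
  refine ⟨?_, fun l d t => ?_, ?_⟩
  · rintro A ⟨g, hg, b, hgb⟩
    obtain ⟨ν, hν0, hν⟩ := hX.sim g hg
    have h0 : ∀ u v, restForm B i e f ((A : Matrix (Rest i → γ) (Rest i → γ) F) *ᵥ u)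
        ((A : Matrix (Rest i → γ) (Rest i → γ) F) *ᵥ v) * ω (b e) (b f) = ν * restForm B i e f u v := fun u v => by
      have := hν (pair i u e) (pair i v f)
      rwa [hgb, hgb, pair_form T hef, pair_form T hef, hef, mul_one] at this
    have hb0 : ω (b e) (b f) ≠ 0 := fun h => by
      have := h0 (pt fun _ => e) (pt fun _ => f)
      rw [h, mul_zero, hB, hef, Finset.prod_const_one, mul_one] at this
      exact mul_ne_zero hν0 hc this.symm
    refine ⟨ν / ω (b e) (b f), div_ne_zero hν0 hb0, fun u v => ?_⟩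
    rw [div_mul_eq_mul_div, eq_div_iff hb0, h0]
  · obtain ⟨g, hg, hgt⟩ := hX.tr (l : ι) d t
    let b : (γ → F) →ₗ[F] (γ → F) := LinearMap.id + (t • ω.flip d).smulRight d
    have hb : ∀ w, b w = w + (t * ω w d) • d := fun w => rfl
    let A₀ : ((Rest i → γ) → F) →ₗ[F] ((Rest i → γ) → F) :=
      kronOp (Function.update (fun _ => LinearMap.id) l b)
    have hA₀ : ∀ u w, A₀ (pair l u w) = pair l u (b w) := fun u w => by
      show kronOp _ _ = _
      rw [kronOp_pair, Function.update_self]
      congr 1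
      rw [show (fun m : Rest l => Function.update (fun _ => LinearMap.id) l b (m : Rest i)) =
        fun m : Rest l => (1 : F) • (LinearMap.id : (γ → F) →ₗ[F] (γ → F)) from funext fun m => by
          rw [Function.update_of_ne m.2, one_smul], kronOp_scalar]
      simp
    have hgi : ∀ u w, (g : Matrix (ι → γ) (ι → γ) F) *ᵥ pair i u w = pair i (A₀ u) w := by
      intro u w
      have := ext_pair l (L := (g : Matrix (ι → γ) (ι → γ) F).mulVecLin.comp (pairL i w))
        (L' := (pairL i w).comp A₀) fun u' w' => by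
          show (g : Matrix (ι → γ) (ι → γ) F) *ᵥ pair i (pair l u' w') w = pair i (A₀ (pair l u' w')) w
          rw [hA₀, pair_pair, pair_pair, hgt, hb]
      exact DFunLike.congr_fun this u
    have hdet : (LinearMap.toMatrix' A₀).det ≠ 0 := by
      refine ((Matrix.isUnit_iff_isUnit_det _).mp (Matrix.mulVec_injective_iff_isUnit.mp fun u u' h => ?_)).ne_zero
      rw [LinearMap.toMatrix'_mulVec, LinearMap.toMatrix'_mulVec] at h
      refine pairL_injective i he (Matrix.mulVec_injective_of_isUnit g.isUnit ?_)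
      show (g : Matrix (ι → γ) (ι → γ) F) *ᵥ pair i u e = (g : Matrix (ι → γ) (ι → γ) F) *ᵥ pair i u' e
      rw [hgi, hgi, h]
    refine ⟨Matrix.GeneralLinearGroup.mkOfDetNeZero _ hdet, ⟨g, hg, LinearMap.id, fun u w => ?_⟩, fun u w => ?_⟩
    · rw [hgi]
      show _ = pair i (LinearMap.toMatrix' A₀ *ᵥ u) w
      rw [LinearMap.toMatrix'_mulVec]
    · show LinearMap.toMatrix' A₀ *ᵥ pair l u w = _
      rw [LinearMap.toMatrix'_mulVec, hA₀, hb]
  · rintro l e' he' A ⟨g, hg, b, hgb⟩ hA
    obtain ⟨a', b', hab⟩ := hX.split (l : ι) e' he' g hg fun v hv => by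
      obtain ⟨U, rfl⟩ := hv
      have := DFunLike.congr_fun (ext_pt (L := ((lay (l : ι) e').mkQ.comp (g : Matrix (ι → γ) (ι → γ) F).mulVecLin).comp
        (pairL (l : ι) e')) (L' := 0) fun x => by
          set z : ι → γ → F := fun m => if h : m = l then e' else x ⟨m, h⟩ with hz
          have hzp : pt z = pair (l : ι) (pt x) e' := by
            rw [pt_eq_pair (l : ι), show z l = e' by simp [hz]]
            congr 2
            funext m
            simp [hz, m.2]
          rw [LinearMap.comp_apply, LinearMap.comp_apply, show pairL (l : ι) e' (pt x) = pt z from hzp.symm,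
            Matrix.mulVecLin_apply, pt_eq_pair i, hgb, LinearMap.zero_apply, Submodule.mkQ_apply,
            Submodule.Quotient.mk_eq_zero]
          have hmem := hA (pt fun m : Rest i => z m) (by
            have := pt_mem_lay (x := fun m : Rest i => z m) l
            rwa [show z l = e' by simp [hz]] at this)
          obtain ⟨u', hu'⟩ := hmem
          rw [← hu']
          show pair i (pair l u' e') _ ∈ _
          rw [pair_pair]
          exact pair_mem_lay _ _ _) U
      rwa [LinearMap.comp_apply, LinearMap.comp_apply, LinearMap.zero_apply, Submodule.mkQ_apply,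
        Submodule.Quotient.mk_eq_zero] at this
    have hbe : b e ≠ 0 := fun h0 => by
      have : pair i (pt fun _ => e) e = 0 := Matrix.mulVec_injective_of_isUnit g.isUnit (by
        rw [mulVec_zero, hgb, h0]; exact map_zero (pairR i _))
      exact pt_ne_zero (x := fun _ : Rest i => e) (fun _ => he) (pairL_injective i he (this.trans (map_zero _).symm))
    obtain ⟨p, hp⟩ := Function.ne_iff.mp hbe
    let zs : (Rest i → γ) → Rest (l : ι) → γ := fun c m => if h : m.1 = i then p else c ⟨m.1, h⟩
    let a'' : ((Rest l → γ) → F) →ₗ[F] ((Rest l → γ) → F) :=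
      { toFun := fun u c => ((b e) p)⁻¹ * a' (addSlot i l u e)
          (zs (ext l c (Classical.arbitrary γ)))
        map_add' := fun u v => funext fun c => by
          rw [show addSlot i l (u + v) e = addSlot i l u e + addSlot i l v e from
            funext fun d => by simp [addSlot, add_mul], map_add, Pi.add_apply, Pi.add_apply]
          ring
        map_smul' := fun r u => funext fun c => by
          rw [show addSlot i l (r • u) e = r • addSlot i l u e from
            funext fun d => by simp [addSlot, mul_assoc], map_smul, Pi.smul_apply, Pi.smul_apply, smul_eq_mul,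
            smul_eq_mul, RingHom.id_apply]
          ring }
    refine ⟨a'', b', fun u w => funext fun c => ?_⟩
    have h1 := congrFun (hgb (pair l u w) e) (ext i c p)
    rw [pair_pair, hab, pair_ext, pair_apply, show ext i c p (l : ι) = c l from dif_neg l.2] at h1
    rw [pair_apply]
    show _ = ((b e) p)⁻¹ * a' (addSlot i l u e) (zs (ext l (fun m : Rest l => c m) _)) * b' w (c l)
    rw [show zs (ext l (fun m : Rest l => c m) (Classical.arbitrary γ)) = fun m : Rest (l : ι) => ext i c p m from
      funext fun m => by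
        by_cases hm : m.1 = i
        · simp [zs, ext, hm]
        · simp only [zs, ext, dif_neg hm]
          rw [dif_neg fun h => m.2 (congrArg Subtype.val h)]]
    simp only [Pi.zero_apply] at hp
    field_simp
    linear_combination -h1

/-- The scalar theorem: stabilisers of layers split only in a group permuting the layers. -/
theorem lp_of_split [Fintype F] (hk : 2 ≤ Fintype.card γ) (hchar : (2 : F) ≠ 0 ∨ 4 ≤ Fintype.card γ)
    (hq : 4 / Fintype.card γ + 1 < Fintype.card F) (T : TP ω B) {X : Subgroup (GL (ι → γ) F)} (hX : SX ω B X)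
    {g : GL (ι → γ) F} (hg : g ∈ X) : LP g := by
  classical
  haveI : Nonempty γ := Fintype.card_pos_iff.mp (by omega)
  suffices key : ∀ (n : ℕ) (κ : Type) [Fintype κ] [DecidableEq κ], Fintype.card κ = n →
      ∀ (B' : LinearMap.BilinForm F ((κ → γ) → F)) (X' : Subgroup (GL (κ → γ) F)), TP ω B' → SX ω B' X' →
      ∀ g' ∈ X', LP g' from key _ ι rfl B X T hX g hg
  intro n
  induction n using Nat.strong_induction_on with
  | _ n ih =>
    intro κ _ _ hn B' X' T' hX' g' hg'
    rcases isEmpty_or_nonempty κ with hκ | hκ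
    · exact fun j => isEmptyElim j
    have hstab : ∀ h ∈ X', ∀ (i : κ) (e : γ → F), e ≠ 0 →
        (∀ v ∈ lay i e, (h : Matrix (κ → γ) (κ → γ) F) *ᵥ v ∈ lay i e) → LP h := by
      intro h hh i e he hfix
      obtain ⟨a, b, hab⟩ := hX'.split i e he h hh hfix
      obtain ⟨e₁, f₁, hef⟩ := T'.exists_pair
      have hbinj : ∀ w, b w = 0 → w = 0 := fun w hw => by
        by_contra hw0
        have hu0 : (pt fun _ : Rest i => e) ≠ 0 := pt_ne_zero fun _ => he
        have : pair i (pt fun _ : Rest i => e) w = 0 := Matrix.mulVec_injective_of_isUnit h.isUnit (by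
          rw [mulVec_zero, hab, hw]; exact map_zero (pairR i _))
        exact hu0 (pairL_injective i hw0 (this.trans (map_zero _).symm))
      have hdet : (LinearMap.toMatrix' a).det ≠ 0 := by
        refine ((Matrix.isUnit_iff_isUnit_det _).mp (Matrix.mulVec_injective_iff_isUnit.mp fun u u' huu => ?_)).ne_zero
        rw [LinearMap.toMatrix'_mulVec, LinearMap.toMatrix'_mulVec] at huu
        refine pairL_injective i he (Matrix.mulVec_injective_of_isUnit h.isUnit ?_)
        show (h : Matrix (κ → γ) (κ → γ) F) *ᵥ pair i u e = (h : Matrix (κ → γ) (κ → γ) F) *ᵥ pair i u' e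
        rw [hab, hab, huu]
      set A := Matrix.GeneralLinearGroup.mkOfDetNeZero _ hdet with hA
      have hAv : ∀ u, (A : Matrix (Rest i → γ) (Rest i → γ) F) *ᵥ u = a u := fun u => LinearMap.toMatrix'_mulVec a u
      have hLP : LP A := ih (Fintype.card (Rest i)) (by
          rw [Fintype.card_subtype_compl, Fintype.card_subtype_eq, hn]
          have := Fintype.card_pos (α := κ)
          omega) (Rest i) rfl _ _ (T'.rest (i := i) hef) (hX'.rest T' hef) A
        ⟨h, hh, b, fun u w => by rw [hAv, hab]⟩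
      intro l d hd
      by_cases hl : l = i
      · subst hl
        refine ⟨l, b d, fun h0 => hd (hbinj d h0), fun v hv => ?_⟩
        obtain ⟨u, rfl⟩ := hv
        exact hab u d ▸ pair_mem_lay _ _ _
      obtain ⟨m, d', hd', hmap⟩ := hLP ⟨l, hl⟩ d hd
      refine ⟨(m : κ), d', hd', fun v hv => ?_⟩
      obtain ⟨U, rfl⟩ := hv
      have := DFunLike.congr_fun (ext_pt (L := ((lay (m : κ) d').mkQ.comp (h : Matrix (κ → γ) (κ → γ) F).mulVecLin).comp
        (pairL l d)) (L' := 0) fun x => by
          set z : κ → γ → F := fun m => if h : m = l then d else x ⟨m, h⟩ with hz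
          have hzp : pt z = pair l (pt x) d := by
            rw [pt_eq_pair l, show z l = d by simp [hz]]
            congr 2
            funext m
            simp [hz, m.2]
          rw [LinearMap.comp_apply, LinearMap.comp_apply, show pairL l d (pt x) = pt z from hzp.symm,
            Matrix.mulVecLin_apply, pt_eq_pair i, hab, LinearMap.zero_apply, Submodule.mkQ_apply,
            Submodule.Quotient.mk_eq_zero]
          obtain ⟨u', hu'⟩ := hmap (pt fun q : Rest i => z q) (by
            have := pt_mem_lay (x := fun q : Rest i => z q) ⟨l, hl⟩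
            rwa [show z ((⟨l, hl⟩ : Rest i) : κ) = d by simp [hz]] at this)
          rw [← hAv, ← hu']
          show pair i (pair m u' d') _ ∈ _
          rw [pair_pair]
          exact pair_mem_lay _ _ _) U
      rwa [LinearMap.comp_apply, LinearMap.comp_apply, LinearMap.zero_apply, Submodule.mkQ_apply,
        Submodule.Quotient.mk_eq_zero] at this
    obtain ⟨ν, hν0, hν, hμ⟩ := MU_invariant T' hk hchar hq hX'
      (fun g hg j i d d' hd hd' hmap => lp_of_layer_map T' hk hchar hX' hstab hg hd hd' hmap) hg'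
    exact lp_of_invariant T' hk (hchar.imp id fun h => by omega) hν0 hν hμ

end Cfsg.Lib.Classical.TensorPow
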