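import Cfsg.Agent.Classical.TensorPow.Omega

/-! Siegel elements at layers inside an overgroup with a non-scalar radical. -/

set_option autoImplicit false
set_option linter.unusedSectionVars false
set_option linter.unusedSimpArgs false
set_option linter.style.haveILetI false

namespace Cfsg.Lib.Classical.TensorPow

open Matrix Finset
open Cfsg.Lib.Classical.TensorQ (Alt)

universe u

variable {ι γ : Type} [Fintype ι] [DecidableEq ι] [Fintype γ] [DecidableEq γ] {F : Type u} [Field F] [Finite F]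
  {ω : LinearMap.BilinForm F (γ → F)} {B : LinearMap.BilinForm F ((ι → γ) → F)}
  {Q : QuadraticForm F ((ι → γ) → F)} {X : Subgroup (GL (ι → γ) F)}

/-- A subgroup between the layer-preserving elements of `Ω` and `Ω`. -/
structure Mid (Q : QuadraticForm F ((ι → γ) → F)) (X : Subgroup (GL (ι → γ) F)) : Prop where
  le : X ≤ Cfsg.Geo.omegaGL (⇑Q)
  lp : ∀ g, LP g → g ∈ Cfsg.Geo.omegaGL (⇑Q) → g ∈ X

/-- The Siegel element of `u`, `z` lies in `X`. -/
def Seed (Q : QuadraticForm F ((ι → γ) → F)) (X : Subgroup (GL (ι → γ) F)) (u z : (ι → γ) → F) : Prop :=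
  ∃ g ∈ X, ∀ x, (g : Matrix (ι → γ) (ι → γ) F) *ᵥ x = Refl.siegelMap Q u z x

theorem seed_zero (u : (ι → γ) → F) : Seed Q X u 0 :=
  ⟨1, one_mem X, fun x => by rw [Units.val_one, one_mulVec, Refl.siegel_zero]⟩

theorem seed_of_zero (z : (ι → γ) → F) : Seed Q X 0 z :=
  ⟨1, one_mem X, fun x => by simp [Refl.siegelMap]⟩

theorem seed_add {u z z' : (ι → γ) → F} (hu : Q u = 0) (hz : QuadraticMap.polar (⇑Q) u z = 0)
    (hz' : QuadraticMap.polar (⇑Q) u z' = 0) (h : Seed Q X u z) (h' : Seed Q X u z') : Seed Q X u (z + z') := by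
  obtain ⟨g, hg, e⟩ := h
  obtain ⟨g', hg', e'⟩ := h'
  exact ⟨g * g', mul_mem hg hg', fun x => by rw [Units.val_mul, ← mulVec_mulVec, e', e, Refl.siegel_add Q hu hz hz']⟩

namespace OP

variable (S : OP ω B Q)
include S

theorem mid_iso (hX : Mid Q X) {g : GL (ι → γ) F} (hg : g ∈ X) : g ∈ Cfsg.isometryGroup F (⇑Q) :=
  S.omega_le (hX.le hg)

theorem xj (hX : Mid Q X) (j : ι) : XJ ω B X j :=
  ⟨fun g hg => S.isometry_B (S.mid_iso hX hg), fun d t => by
    obtain ⟨g, hg, ht⟩ := S.exists_tr j d t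
    exact ⟨g, hX.lp g hg.1 hg.2, ht⟩⟩

theorem seed_conj {g : GL (ι → γ) F} (hgX : g ∈ X) (hgI : g ∈ Cfsg.isometryGroup F (⇑Q)) {u z : (ι → γ) → F}
    (h : Seed Q X u z) :
    Seed Q X ((g : Matrix (ι → γ) (ι → γ) F) *ᵥ u) ((g : Matrix (ι → γ) (ι → γ) F) *ᵥ z) := by
  obtain ⟨s, hs, e⟩ := h
  refine ⟨g * s * g⁻¹, mul_mem (mul_mem hgX hs) (inv_mem hgX), fun x => ?_⟩
  have hpol : ∀ a, QuadraticMap.polar (⇑Q) a (((g⁻¹ : GL (ι → γ) F) : Matrix (ι → γ) (ι → γ) F) *ᵥ x) =
      QuadraticMap.polar (⇑Q) ((g : Matrix (ι → γ) (ι → γ) F) *ᵥ a) x := fun a => by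
    rw [S.polar, S.polar, ← S.isometry_B hgI, mulVec_self_inv]
  rw [Units.val_mul, Units.val_mul, ← mulVec_mulVec, ← mulVec_mulVec, e, Refl.siegelMap, Refl.siegelMap, mulVec_add,
    mulVec_add, mulVec_smul, mulVec_smul, mulVec_self_inv, hpol, hpol, (Refl.mem_iff Q).mp hgI]

theorem rest_skew {j : ι} {B₁ : LinearMap.BilinForm F ((Rest j → γ) → F)} (R₁ : Rest1 ω B j B₁) [Nonempty γ]
    (a b : (Rest j → γ) → F) : B₁ b a = -B₁ a b := by
  obtain ⟨p, q, hpq⟩ := S.tp.exists_pair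
  have := S.symm (pair j a p) (pair j b q)
  rw [R₁.pair, R₁.pair, S.tp.alt.skew p q, hpq, mul_one, mul_neg, mul_one] at this
  rw [this, neg_neg]

theorem xb (hX : Mid Q X) (hpar : (2 : F) ≠ 0 → Even (Fintype.card ι)) (j : ι) : XB ω B X j := by
  refine ⟨fun i => S.xj hX i, fun l l' => ?_⟩
  by_cases hll : l = l'
  · subst hll
    exact ⟨1, one_mem X, LinearEquiv.refl F _, fun u z => by rw [Units.val_one, one_mulVec]; rfl,
      fun D => by simp⟩
  have hne : (l : ι) ≠ l' := fun h => hll (Subtype.ext h)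
  by_cases h2 : (2 : F) = 0
  · obtain ⟨g, hg, hgv⟩ := S.exists_swap h2 l.2 l'.2
    obtain ⟨π, hπ, hπs⟩ := exists_perm_rest (γ := γ) (F := F) j (Equiv.swap (l : ι) l')
      (Equiv.swap_apply_of_ne_of_ne (Ne.symm l.2) (Ne.symm l'.2))
    exact ⟨g, hX.lp g hg.1 hg.2, π, fun u z => by rw [hgv, hπ], hπs l l' (Equiv.swap_apply_left _ _)⟩
  obtain ⟨m, hmj, hml, hml'⟩ : ∃ m : ι, m ≠ j ∧ m ≠ l ∧ m ≠ l' := by
    by_contra hc
    push Not at hc
    have hsub : (univ : Finset ι) ⊆ {j, (l : ι), (l' : ι)} := fun i _ => by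
      by_cases h : i = j
      · simp [h]
      by_cases h' : i = l
      · simp [h']
      simp [hc i h h']
    have h3 := (Finset.card_le_card hsub).trans Finset.card_le_three
    have h2' : 2 < Fintype.card ι := by
      rw [← Finset.card_univ]
      exact Finset.two_lt_card.mpr ⟨j, mem_univ _, l, mem_univ _, l', mem_univ _, Ne.symm l.2, Ne.symm l'.2, hne⟩
    rw [Finset.card_univ] at h3
    obtain ⟨r, hr⟩ := hpar h2
    omega
  obtain ⟨g, hg, hgv⟩ := S.exists_cycle (Equiv.swap (l : ι) m) (Equiv.swap m (l' : ι)) (Equiv.swap_mul_self _ _)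
    (Equiv.swap_mul_self _ _)
  obtain ⟨π, hπ, hπs⟩ := exists_perm_rest (γ := γ) (F := F) j
    (Equiv.swap (l : ι) m * Equiv.swap m (l' : ι) * Equiv.swap (l : ι) m * Equiv.swap m (l' : ι)) (by
      simp only [Equiv.Perm.mul_apply, Equiv.swap_apply_of_ne_of_ne hmj.symm (Ne.symm l'.2),
        Equiv.swap_apply_of_ne_of_ne (Ne.symm l.2) hmj.symm])
  refine ⟨g, hX.lp g hg.1 hg.2, π, fun u z => by rw [hgv, hπ], hπs l l' ?_⟩
  simp only [Equiv.Perm.mul_apply]
  rw [Equiv.swap_apply_of_ne_of_ne hml.symm hne, Equiv.swap_apply_left, Equiv.swap_apply_left,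
    Equiv.swap_apply_of_ne_of_ne hne.symm hml'.symm]

/-- Siegel elements with both vectors in one layer (two-dimensional factors). -/
theorem seed_line_two (hX : Mid Q X) (hk : Fintype.card γ = 2) (h2 : (2 : F) ≠ 0) {j : ι}
    (hS : ¬ RadScalar ω X j) (a b : (Rest j → γ) → F) {e : γ → F} (he : e ≠ 0) :
    Seed Q X (pair j a e) (pair j b e) := by
  classical
  haveI : Nonempty γ := Fintype.card_pos_iff.mp (by omega)
  have hA := S.tp.alt
  obtain ⟨B₁, R₁⟩ := exists_rest1 S.tp j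
  obtain ⟨C, hC⟩ : ∃ C : EndP (Rest j) γ F, C = (B₁.flip a).smulRight b - (B₁.flip b).smulRight a := ⟨_, rfl⟩
  have hCa : ∀ x, C x = B₁ x a • b - B₁ x b • a := fun x => by rw [hC]; rfl
  have hadj : IsAdj B₁ C C := fun x y => by
    rw [hCa, hCa, map_sub, map_sub, map_smul, map_smul, map_smul, map_smul, LinearMap.sub_apply, LinearMap.smul_apply,
      LinearMap.smul_apply, smul_eq_mul, smul_eq_mul, smul_eq_mul, smul_eq_mul, S.rest_skew R₁ y b, S.rest_skew R₁ y a]
    ring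
  have hne : ∀ {l l' : Rest j}, l ≠ l' → (l : ι) ≠ l' := fun h h' => h (Subtype.ext h')
  have hCen := cen_all_two S.tp hk h2 R₁ (fun i => S.xj hX i) (fun p q r hpq hpr hqr => by
    obtain ⟨g, hg, hgv⟩ := S.exists_cycle (Equiv.swap (q : ι) p) (Equiv.swap (p : ι) r) (Equiv.swap_mul_self _ _)
      (Equiv.swap_mul_self _ _)
    obtain ⟨π, hπ, hπs⟩ := exists_perm_rest (γ := γ) (F := F) j
      (Equiv.swap (q : ι) p * Equiv.swap (p : ι) r * Equiv.swap (q : ι) p * Equiv.swap (p : ι) r) (by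
        simp only [Equiv.Perm.mul_apply, Equiv.swap_apply_of_ne_of_ne (Ne.symm p.2) (Ne.symm r.2),
          Equiv.swap_apply_of_ne_of_ne (Ne.symm q.2) (Ne.symm p.2)])
    refine ⟨g, hX.lp g hg.1 hg.2, π, fun u z => by rw [hgv, hπ], hπs p q ?_, hπs q r ?_⟩
    · simp only [Equiv.Perm.mul_apply]
      rw [Equiv.swap_apply_left, Equiv.swap_apply_of_ne_of_ne (Ne.symm (hne hqr)) (Ne.symm (hne hpr)),
        Equiv.swap_apply_right, Equiv.swap_apply_right]
    · simp only [Equiv.Perm.mul_apply]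
      rw [Equiv.swap_apply_of_ne_of_ne (hne hpq).symm (hne hqr), Equiv.swap_apply_left, Equiv.swap_apply_left,
        Equiv.swap_apply_of_ne_of_ne (Ne.symm (hne hqr)) (Ne.symm (hne hpr))]) hS hadj
  obtain ⟨g, hg, hgv⟩ := hCen e he
  refine ⟨g, hg, fun x => ?_⟩
  rw [hgv, hCa, Refl.siegelMap, S.lay_singular j e _ (pair_mem_lay j b e), S.polar, S.polar, S.symm (pair j a e) x,
    S.symm (pair j b e) x, R₁.contract x a e, R₁.contract x b e,
    show pair j (B₁ (cwj ω j e x) a • b - B₁ (cwj ω j e x) b • a) e =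
      B₁ (cwj ω j e x) a • pair j b e - B₁ (cwj ω j e x) b • pair j a e from by
        rw [← pair_smul_left, ← pair_smul_left]; exact map_sub (pairL j e) _ _]
  module

/-- Siegel elements across a layer and its orthogonal (larger factors). -/
theorem seed_layer_four (hX : Mid Q X) (h4 : 4 ≤ Fintype.card γ) (hchar : (2 : F) ≠ 0 ∨ 5 ≤ Fintype.card γ)
    (hpar : (2 : F) ≠ 0 → Even (Fintype.card ι)) {j : ι} (hS : ¬ RadScalar ω X j) (a b : (Rest j → γ) → F)
    {e d : γ → F} (he : e ≠ 0) (hed : ω e d = 0) : Seed Q X (pair j a e) (pair j b d) := by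
  classical
  haveI : Nonempty γ := Fintype.card_pos_iff.mp (by omega)
  have hA := S.tp.alt
  obtain ⟨B₁, R₁⟩ := exists_rest1 S.tp j
  have hXj := S.xj hX j
  have hu0 : Q (pair j a e) = 0 := S.lay_singular j e _ (pair_mem_lay j a e)
  have hperp : ∀ (v : (Rest j → γ) → F) {w : γ → F}, ω e w = 0 →
      QuadraticMap.polar (⇑Q) (pair j a e) (pair j v w) = 0 := fun v w hw => by rw [S.polar, R₁.pair, hw, mul_zero]
  -- a vector moved by a slot transvection
  have main : ∀ d, ω e d = 0 → (∀ c : F, d ≠ c • e) → Seed Q X (pair j a e) (pair j b d) := by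
    intro d hed hd
    obtain ⟨w, hew, hwd⟩ : ∃ w, ω e w = 0 ∧ ω w d = 1 := by
      obtain ⟨w, hw, hw'⟩ : ∃ w, ω e w = 0 ∧ ω d w ≠ 0 := by
        by_contra hc
        push Not at hc
        obtain ⟨c, hc⟩ := hA.mem_line he hc
        exact hd c hc
      refine ⟨(-(ω d w)⁻¹) • w, by rw [map_smul, hw, smul_zero], ?_⟩
      rw [map_smul, LinearMap.smul_apply, hA.skew d w, smul_eq_mul, neg_mul_neg, inv_mul_cancel₀ hw']
    obtain ⟨A, hAv⟩ : ∃ A : EndP (Rest j) γ F, ∀ v, A v = B₁ v a • b :=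
      ⟨(B₁.flip a).smulRight b, fun v => rfl⟩
    obtain ⟨hp, k, hk, hka⟩ := inAlg_top S.tp h4 hchar (S.xb hX hpar j) hS A e w he hew
    have huz := hperp b hew
    set Sg : GL (ι → γ) F := ↑(Refl.siegelG Q hu0 huz) with hSgdef
    have hSg : ∀ x, (Sg : Matrix (ι → γ) (ι → γ) F) *ᵥ x = Refl.siegelMap Q (pair j a e) (pair j b w) x :=
      fun x => Refl.mat_siegelG Q hu0 huz x
    have hSI : Sg ∈ Cfsg.isometryGroup F (⇑Q) := (Refl.siegelG Q hu0 huz).2
    have hSfix : ∀ v, (Sg : Matrix (ι → γ) (ι → γ) F) *ᵥ pair j v e = pair j v e := fun v => by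
      rw [hSg, Refl.siegelMap, S.polar, S.polar, S.pair_lay, R₁.pair, hA.swap hew]
      simp
    obtain ⟨kc, hkc⟩ : ∃ kc : GL (ι → γ) F, kc = Sg⁻¹ * k := ⟨_, rfl⟩
    have hkcI : kc ∈ Cfsg.isometryGroup F (⇑Q) := hkc ▸ mul_mem (inv_mem hSI) (S.mid_iso hX hk)
    have hkcfix : ∀ v, (kc : Matrix (ι → γ) (ι → γ) F) *ᵥ pair j v e = pair j v e := fun v => by
      rw [hkc, Units.val_mul, ← mulVec_mulVec, hka.fix]
      conv_lhs => rw [← hSfix v, mulVec_inv_self]
    have hkcact : ∀ x, ∃ c, (kc : Matrix (ι → γ) (ι → γ) F) *ᵥ x = x + pair j c e := fun x => by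
      obtain ⟨c, hc⟩ := hka.act x
      rw [show ((pairL j w).comp A) (cwj ω j e x) = QuadraticMap.polar (⇑Q) (pair j a e) x • pair j b w by
        show pair j (A (cwj ω j e x)) w = _
        rw [hAv, pair_smul_left, S.polar, S.symm, R₁.contract]] at hc
      set r := -QuadraticMap.polar (⇑Q) (pair j b w) x - Q (pair j b w) * QuadraticMap.polar (⇑Q) (pair j a e) x
      refine ⟨c - r • a, ?_⟩
      have : (Sg : Matrix (ι → γ) (ι → γ) F) *ᵥ (x + pair j (c - r • a) e) =
          (k : Matrix (ι → γ) (ι → γ) F) *ᵥ x := by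
        rw [hc, mulVec_add, hSfix, hSg, Refl.siegelMap, show pair j (c - r • a) e = pair j c e - pair j (r • a) e from
          map_sub (pairL j e) _ _, pair_smul_left]
        abel
      rw [hkc, Units.val_mul, ← mulVec_mulVec, ← this, mulVec_inv_self]
    obtain ⟨f, hf⟩ := hA.exists_one he
    have hzero : ∀ x, cwj ω j e x = 0 → (kc : Matrix (ι → γ) (ι → γ) F) *ᵥ x = x := by
      intro x hx
      obtain ⟨c, hc⟩ := hkcact x
      have hc0 : c = 0 := R₁.nd c fun v => by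
        obtain ⟨c', hc'⟩ := hkcact (pair j v f)
        have := S.isometry_B hkcI x (pair j v f)
        rw [hc, hc'] at this
        simp only [map_add, LinearMap.add_apply] at this
        rw [R₁.contract x c' e, hx, map_zero, LinearMap.zero_apply, R₁.pair c v e f, hA.skew f e, hf,
          R₁.pair c c' e e, hA.self] at this
        linear_combination -this
      rw [hc, hc0, pair_zero_left, add_zero]
    have hall : ∀ x, (kc : Matrix (ι → γ) (ι → γ) F) *ᵥ x =
        x + ((kc : Matrix (ι → γ) (ι → γ) F) *ᵥ pair j (cwj ω j e x) f - pair j (cwj ω j e x) f) := fun x => by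
      have h1 := hzero (x - pair j (cwj ω j e x) f) (by rw [map_sub, cwj_pair, hf, one_smul, sub_self])
      rw [mulVec_sub, sub_eq_iff_eq_add] at h1
      rw [h1]
      abel
    obtain ⟨t, ⟨htlp, htΩ⟩, ht⟩ := S.exists_tr j d 1
    have htX := hX.lp t htlp htΩ
    have htI := S.mid_iso hX htX
    have htfix : ∀ v, (t : Matrix (ι → γ) (ι → γ) F) *ᵥ pair j v e = pair j v e := fun v => by
      rw [ht, hed, mul_zero, zero_smul, add_zero]
    have hcomm : t * kc = kc * t := ext_pt_GL fun y => by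
      rw [pt_eq_pair j y, Units.val_mul, Units.val_mul, ← mulVec_mulVec, ← mulVec_mulVec, ht,
        hall (pair j _ (y j)), hall (pair j _ (y j + _)), cwj_pair, cwj_pair]
      simp only [map_add, LinearMap.add_apply, map_smul, LinearMap.smul_apply, hA.swap hed, smul_zero, add_zero]
      obtain ⟨c, hc⟩ := hkcact (pair j (ω (y j) e • pt fun i : Rest j => y i) f)
      rw [hc, add_sub_cancel_left, mulVec_add, ht, htfix]
    have ek : k = Sg * kc := by rw [hkc, mul_inv_cancel_left]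
    have ec : t * kc * t⁻¹ = kc := by rw [hcomm, mul_inv_cancel_right]
    have e1 : t * k * t⁻¹ * k⁻¹ = t * Sg * t⁻¹ * Sg⁻¹ := by
      rw [ek]
      calc t * (Sg * kc) * t⁻¹ * (Sg * kc)⁻¹ = t * Sg * t⁻¹ * (t * kc * t⁻¹) * kc⁻¹ * Sg⁻¹ := by group
        _ = _ := by rw [ec, mul_inv_cancel_right]
    refine ⟨t * Sg * t⁻¹ * Sg⁻¹, e1 ▸ mul_mem (mul_mem (mul_mem htX hk) (inv_mem htX)) (inv_mem hk), fun x => ?_⟩
    have hneg : QuadraticMap.polar (⇑Q) (pair j a e) (-pair j b w) = 0 := by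
      rw [QuadraticMap.polar_neg_right, huz, neg_zero]
    have hSinv : ∀ y, ((Sg⁻¹ : GL (ι → γ) F) : Matrix (ι → γ) (ι → γ) F) *ᵥ y =
        Refl.siegelMap Q (pair j a e) (-pair j b w) y := fun y => by
      conv_lhs => rw [show y = (Sg : Matrix (ι → γ) (ι → γ) F) *ᵥ Refl.siegelMap Q (pair j a e) (-pair j b w) y by
        rw [hSg, Refl.siegel_add Q hu0 huz hneg, add_neg_cancel, Refl.siegel_zero]]
      rw [mulVec_inv_self]
    have hpol : ∀ v v', QuadraticMap.polar (⇑Q) v (((t⁻¹ : GL (ι → γ) F) : Matrix (ι → γ) (ι → γ) F) *ᵥ v') =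
        QuadraticMap.polar (⇑Q) ((t : Matrix (ι → γ) (ι → γ) F) *ᵥ v) v' := fun v v' => by
      rw [S.polar, S.polar, ← S.isometry_B htI v, mulVec_self_inv]
    have hts : ∀ y, (t : Matrix (ι → γ) (ι → γ) F) *ᵥ
        Refl.siegelMap Q (pair j a e) (pair j b w) (((t⁻¹ : GL (ι → γ) F) : Matrix (ι → γ) (ι → γ) F) *ᵥ y) =
        Refl.siegelMap Q (pair j a e) (pair j b (w + d)) y := fun y => by
      have hz : (t : Matrix (ι → γ) (ι → γ) F) *ᵥ pair j b w = pair j b (w + d) := by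
        rw [ht, hwd, mul_one, one_smul]
      have hQz : Q (pair j b w) = Q (pair j b (w + d)) := by rw [← hz, (Refl.mem_iff Q).mp htI]
      rw [Refl.siegelMap, Refl.siegelMap, mulVec_add, mulVec_add, mulVec_smul, mulVec_smul, mulVec_self_inv, htfix, hz,
        hpol, hpol, htfix, hz, hQz]
    rw [Units.val_mul, Units.val_mul, Units.val_mul, ← mulVec_mulVec, ← mulVec_mulVec, ← mulVec_mulVec, hSinv, hSg,
      hts, Refl.siegel_add Q hu0 (hperp b (by rw [map_add, hew, hed, add_zero])) hneg, pair_add_right,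
      add_neg_cancel_comm]
  by_cases hd : ∀ c : F, d ≠ c • e
  · exact main d hed hd
  push Not at hd
  obtain ⟨c, hc⟩ := hd
  obtain ⟨g₀, g₁, hg₀, hg₁, hgg⟩ := hA.exists_pair_perp ![e] (by omega)
  have hg₀e : ω e g₀ = 0 := hg₀ 0
  have hg₁e : ω e g₁ = 0 := hg₁ 0
  have hne : ∀ (r s : F), r ≠ 0 → ∀ c' : F, s • e + r • g₀ ≠ c' • e := fun r s hr c' h => by
    have := congrArg (fun z => ω z g₁) h
    simp [hg₁e, hgg, hr] at this
  have h := seed_add hu0 (hperp b (by rw [map_add, map_smul, hA.self, map_smul, hg₀e]; simp))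
    (hperp b (by rw [map_add, map_smul, hA.self, map_smul, hg₀e]; simp))
    (main (c • e + (1 : F) • g₀) (by rw [map_add, map_smul, hA.self, map_smul, hg₀e]; simp) (hne 1 c one_ne_zero))
    (main ((0 : F) • e + (-1 : F) • g₀) (by rw [map_add, map_smul, hA.self, map_smul, hg₀e]; simp)
      (hne (-1) 0 (by simp)))
  rwa [← pair_add_right, show c • e + (1 : F) • g₀ + ((0 : F) • e + (-1 : F) • g₀) = d by rw [hc]; module] at h

end OP

end Cfsg.Lib.Classical.TensorPow
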