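import Cfsg.Agent.Classical.TensorQ.Setup

/-! Tensor powers of a symplectic space: pure tensors, layers, forms. -/

set_option autoImplicit false
set_option linter.unusedSectionVars false
set_option linter.unusedSimpArgs false

namespace Cfsg.Lib.Classical.TensorPow

open Matrix Finset
open Cfsg.Lib.Classical.TensorQ (Alt)

universe u

variable {ι γ : Type} [Fintype ι] [DecidableEq ι] [Fintype γ] [DecidableEq γ] {F : Type u} [Field F]

/-- The pure tensor of a family of vectors. -/
def pt (x : ι → γ → F) : (ι → γ) → F := fun a => ∏ i, x i (a i)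

/-- The other indices. -/
abbrev Rest (j : ι) := {i : ι // i ≠ j}

/-- The tensor of a tensor of the other factors and a vector of factor `j`. -/
def pair (j : ι) (u : (Rest j → γ) → F) (w : γ → F) : (ι → γ) → F := fun a => u (fun i => a i) * w (a j)

theorem pair_apply (j : ι) (u : (Rest j → γ) → F) (w : γ → F) (a : ι → γ) :
    pair j u w a = u (fun i => a i) * w (a j) := rfl

theorem pt_eq_pair (j : ι) (x : ι → γ → F) : pt x = pair j (pt fun i : Rest j => x i) (x j) := by
  funext a
  rw [pair_apply, pt, pt, ← Finset.prod_erase_mul univ _ (mem_univ j)]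
  congr 1
  exact Finset.prod_subtype (univ.erase j) (by simp) fun i => x i (a i)

theorem pair_add_left (j : ι) (u u' : (Rest j → γ) → F) (w : γ → F) :
    pair j (u + u') w = pair j u w + pair j u' w := funext fun a => by simp [pair_apply, add_mul]

theorem pair_add_right (j : ι) (u : (Rest j → γ) → F) (w w' : γ → F) :
    pair j u (w + w') = pair j u w + pair j u w' := funext fun a => by simp [pair_apply, mul_add]

theorem pair_smul_left (j : ι) (c : F) (u : (Rest j → γ) → F) (w : γ → F) :
    pair j (c • u) w = c • pair j u w := funext fun a => by simp [pair_apply, mul_assoc]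

theorem pair_smul_right (j : ι) (c : F) (u : (Rest j → γ) → F) (w : γ → F) :
    pair j u (c • w) = c • pair j u w := funext fun a => by simp [pair_apply, mul_left_comm]

/-- The coordinates with a prescribed value at `j`. -/
def ext (j : ι) (b : Rest j → γ) (p : γ) : ι → γ := fun i => if h : i = j then p else b ⟨i, h⟩

theorem ext_self (j : ι) (b : Rest j → γ) (p : γ) : ext j b p j = p := dif_pos rfl

theorem ext_rest (j : ι) (b : Rest j → γ) (p : γ) : (fun i : Rest j => ext j b p i) = b :=
  funext fun i => dif_neg i.2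

theorem pair_ext (j : ι) (u : (Rest j → γ) → F) (w : γ → F) (b : Rest j → γ) (p : γ) :
    pair j u w (ext j b p) = u b * w p := by rw [pair_apply, ext_self, ext_rest]

/-- `u ↦ u ⊗ w` at the factor `j`. -/
def pairL (j : ι) (w : γ → F) : ((Rest j → γ) → F) →ₗ[F] ((ι → γ) → F) where
  toFun u := pair j u w
  map_add' u u' := pair_add_left j u u' w
  map_smul' c u := pair_smul_left j c u w

/-- `w ↦ u ⊗ w` at the factor `j`. -/
def pairR (j : ι) (u : (Rest j → γ) → F) : (γ → F) →ₗ[F] ((ι → γ) → F) where
  toFun w := pair j u w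
  map_add' := pair_add_right j u
  map_smul' c w := pair_smul_right j c u w

theorem pairL_injective (j : ι) {w : γ → F} (hw : w ≠ 0) : Function.Injective (pairL j w) := by
  obtain ⟨p, hp⟩ := Function.ne_iff.mp hw
  intro u u' h
  funext b
  have := congrFun h (ext j b p)
  change pair j u w _ = pair j u' w _ at this
  rw [pair_ext, pair_ext] at this
  exact mul_right_cancel₀ hp this

theorem pt_ne_zero {x : ι → γ → F} (h : ∀ i, x i ≠ 0) : pt x ≠ 0 := by
  choose b hb using fun i => Function.ne_iff.mp (h i)
  exact fun h0 => Finset.prod_ne_zero_iff.mpr (fun i _ => hb i) (congrFun h0 b)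

theorem pt_eq_zero {x : ι → γ → F} {i : ι} (h : x i = 0) : pt x = 0 :=
  funext fun a => Finset.prod_eq_zero (mem_univ i) (by rw [h]; rfl)

theorem ne_zero_of_pt {x : ι → γ → F} (h : pt x ≠ 0) (i : ι) : x i ≠ 0 := fun h0 => h (pt_eq_zero h0)

theorem pt_single (a : ι → γ) : pt (fun i => Pi.single (a i) (1 : F)) = Pi.single a 1 := by
  funext b
  by_cases h : b = a
  · subst h
    simp [pt]
  · obtain ⟨i, hi⟩ := Function.ne_iff.mp h
    rw [Pi.single_eq_of_ne h]
    exact Finset.prod_eq_zero (mem_univ i) (Pi.single_eq_of_ne hi 1)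

theorem eq_sum_pt (v : (ι → γ) → F) : v = ∑ a, v a • pt (fun i => Pi.single (a i) (1 : F)) := by
  simp only [pt_single]
  exact pi_eq_sum_univ' v

theorem ext_pt {M : Type*} [AddCommGroup M] [Module F M] {L L' : ((ι → γ) → F) →ₗ[F] M}
    (h : ∀ x, L (pt x) = L' (pt x)) : L = L' :=
  LinearMap.ext fun v => by
    rw [eq_sum_pt v, map_sum, map_sum]
    exact Finset.sum_congr rfl fun a _ => by rw [map_smul, map_smul, h]

theorem ext_pt_GL {g g' : GL (ι → γ) F}
    (h : ∀ x, (g : Matrix (ι → γ) (ι → γ) F) *ᵥ pt x = (g' : Matrix (ι → γ) (ι → γ) F) *ᵥ pt x) : g = g' :=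
  Units.ext (Matrix.toLin'.injective
    (ext_pt (L := (g : Matrix (ι → γ) (ι → γ) F).mulVecLin) (L' := (g' : Matrix (ι → γ) (ι → γ) F).mulVecLin) h))

theorem pt_update (x : ι → γ → F) (j : ι) (v : γ → F) :
    pt (Function.update x j v) = pair j (pt fun i : Rest j => x i) v := by
  rw [pt_eq_pair j, Function.update_self]
  congr 2
  exact funext fun i => Function.update_of_ne i.2 _ _

theorem pt_update_add (x : ι → γ → F) (j : ι) (v w : γ → F) :
    pt (Function.update x j (v + w)) = pt (Function.update x j v) + pt (Function.update x j w) := by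
  rw [pt_update, pt_update, pt_update, pair_add_right]

theorem pt_update_smul (x : ι → γ → F) (j : ι) (c : F) (v : γ → F) :
    pt (Function.update x j (c • v)) = c • pt (Function.update x j v) := by
  rw [pt_update, pt_update, pair_smul_right]

/-- Proportional pure tensors have proportional factors. -/
theorem pt_prop {x y : ι → γ → F} {c : F} (h : pt y = c • pt x) (hy : pt y ≠ 0) (i : ι) :
    ∃ s : F, y i = s • x i := by
  rw [pt_eq_pair i y, pt_eq_pair i x, ← pair_smul_left] at h
  obtain ⟨b, hb⟩ := Function.ne_iff.mp (pt_ne_zero (x := fun l : Rest i => y l) fun l => ne_zero_of_pt hy l)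
  refine ⟨(c * pt (fun l : Rest i => x l) b) / pt (fun l : Rest i => y l) b, funext fun p => ?_⟩
  have := congrFun h (ext i b p)
  rw [pair_ext, pair_ext, Pi.smul_apply, smul_eq_mul] at this
  rw [Pi.smul_apply, smul_eq_mul]
  simp only [Pi.zero_apply] at hb
  field_simp
  linear_combination this

/-- If two pure tensors add up to a pure tensor, all their factors but one are proportional. -/
theorem shared [Nonempty ι] {x y z : ι → γ → F} (hx : pt x ≠ 0) (hy : pt y ≠ 0) (h : pt x + pt y = pt z) :
    ∃ j, ∀ i, i ≠ j → ∃ s : F, y i = s • x i := by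
  by_cases hall : ∀ i, ∃ s : F, y i = s • x i
  · exact ⟨Classical.arbitrary ι, fun i _ => hall i⟩
  push Not at hall
  obtain ⟨j, hj⟩ := hall
  refine ⟨j, fun i hi => ?_⟩
  have h' : TensorMax.pure (pt fun i : Rest j => x i) (x j) + TensorMax.pure (pt fun i : Rest j => y i) (y j) =
      TensorMax.pure (pt fun i : Rest j => z i) (z j) := by
    funext ⟨b, p⟩
    have := congrFun h (ext j b p)
    rw [pt_eq_pair j x, pt_eq_pair j y, pt_eq_pair j z, Pi.add_apply, pair_ext, pair_ext, pair_ext] at this
    exact this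
  rcases TensorMax.shared_of_sum (pt_ne_zero fun l : Rest j => ne_zero_of_pt hx l) (ne_zero_of_pt hx j) h' with
    ⟨c, hc⟩ | ⟨c, hc⟩
  · exact pt_prop hc (pt_ne_zero fun l : Rest j => ne_zero_of_pt hy l) ⟨i, hi⟩
  · exact absurd hc (hj c)

/-- A symplectic space and a form on its tensor power. -/
structure TP (ω : LinearMap.BilinForm F (γ → F)) (B : LinearMap.BilinForm F ((ι → γ) → F)) : Prop where
  alt : Alt ω
  pure : ∃ c : F, c ≠ 0 ∧ ∀ x y, B (pt x) (pt y) = c * ∏ i, ω (x i) (y i)

namespace TP

variable {ω : LinearMap.BilinForm F (γ → F)} {B : LinearMap.BilinForm F ((ι → γ) → F)} (T : TP ω B)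
include T

theorem two_le [Nonempty γ] : 2 ≤ Fintype.card γ := by
  obtain ⟨p⟩ := ‹Nonempty γ›
  by_contra h
  have : Subsingleton γ := Fintype.card_le_one_iff_subsingleton.mp (by omega)
  have he : (Pi.single p (1 : F) : γ → F) ≠ 0 := by simp
  obtain ⟨w, hw⟩ := T.alt.exists_one he
  rw [show w = w p • Pi.single p 1 from funext fun q => by
    rw [Subsingleton.elim q p, Pi.smul_apply, Pi.single_eq_same, smul_eq_mul, mul_one],
    map_smul, LinearMap.smul_apply, T.alt.self, smul_zero] at hw
  exact zero_ne_one hw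

theorem exists_dual : ∃ d : γ → γ → F, ∀ v p, ω v (d p) = v p := by
  choose d hd using fun p => T.alt.exists_rep (LinearMap.proj p)
  exact ⟨d, fun v p => hd p v⟩

theorem nd {v : (ι → γ) → F} (h : ∀ y, B v (pt y) = 0) : v = 0 := by
  obtain ⟨c, hc, hB⟩ := T.pure
  obtain ⟨d, hd⟩ := T.exists_dual
  funext a
  have := DFunLike.congr_fun (ext_pt (L := B.flip (pt fun i => d (a i))) (L' := c • LinearMap.proj a) fun x => by
    show B (pt x) (pt fun i => d (a i)) = c * pt x a
    rw [hB]
    simp only [hd]
    rfl) v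
  change B v (pt _) = c * v a at this
  rw [h] at this
  exact (mul_eq_zero.mp this.symm).resolve_left hc

theorem ext_B {v w : (ι → γ) → F} (h : ∀ y, B v (pt y) = B w (pt y)) : v = w :=
  sub_eq_zero.mp (T.nd fun y => by rw [map_sub, LinearMap.sub_apply, h, sub_self])

theorem exists_pair [Nonempty γ] : ∃ a b : γ → F, ω a b = 1 := by
  obtain ⟨p⟩ := ‹Nonempty γ›
  obtain ⟨w, hw⟩ := T.alt.exists_one (show (Pi.single p (1 : F) : γ → F) ≠ 0 by simp)
  exact ⟨w, _, hw⟩

end TP

end Cfsg.Lib.Classical.TensorPow
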