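import Cfsg.Agent.Classical.TensorPow.Split

/-! Operators of single slots, irreducibility, partial contractions of endomorphisms. -/

set_option autoImplicit false
set_option linter.unusedSectionVars false
set_option linter.unusedSimpArgs false

namespace Cfsg.Lib.Classical.TensorPow

open Matrix Finset
open Cfsg.Lib.Classical.TensorQ (Alt rk transv rk_apply transv_apply)

universe u

variable {κ γ : Type} [Fintype κ] [DecidableEq κ] [Fintype γ] [DecidableEq γ] {F : Type u} [Field F]

theorem pair_zero_left (j : κ) (w : γ → F) : pair j (0 : (Rest j → γ) → F) w = 0 := map_zero (pairL j w)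

theorem pair_zero_right (j : κ) (u : (Rest j → γ) → F) : pair j u (0 : γ → F) = 0 := map_zero (pairR j u)

theorem pair_neg_left (j : κ) (u : (Rest j → γ) → F) (w : γ → F) : pair j (-u) w = -pair j u w :=
  map_neg (pairL j w) u

theorem pair_neg_right (j : κ) (u : (Rest j → γ) → F) (w : γ → F) : pair j u (-w) = -pair j u w :=
  map_neg (pairR j u) w

/-- Endomorphisms of the tensor power. -/
abbrev EndP (κ γ : Type) (F : Type u) [Field F] := ((κ → γ) → F) →ₗ[F] ((κ → γ) → F)

/-- A map acting on one slot. -/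
def slotOp (l : κ) (D : (γ → F) →ₗ[F] (γ → F)) : EndP κ γ F := kronOp (Function.update (fun _ => LinearMap.id) l D)

theorem kronOp_id : kronOp (fun _ : κ => (LinearMap.id : (γ → F) →ₗ[F] (γ → F))) = LinearMap.id :=
  ext_pt fun x => by rw [kronOp_pt]; rfl

theorem slotOp_pair (l : κ) (D : (γ → F) →ₗ[F] (γ → F)) (u : (Rest l → γ) → F) (w : γ → F) :
    slotOp l D (pair l u w) = pair l u (D w) := by
  rw [slotOp, kronOp_pair, Function.update_self,
    show (fun i : Rest l => Function.update (fun _ : κ => (LinearMap.id : (γ → F) →ₗ[F] (γ → F))) l D i) =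
      fun _ : Rest l => LinearMap.id from funext fun i => Function.update_of_ne i.2 _ _, kronOp_id]
  rfl

theorem slotOp_pair_ne {l i : κ} (h : l ≠ i) (D : (γ → F) →ₗ[F] (γ → F)) (u : (Rest i → γ) → F) (w : γ → F) :
    slotOp l D (pair i u w) = pair i (slotOp (⟨l, h⟩ : Rest i) D u) w := by
  rw [slotOp, kronOp_pair, Function.update_of_ne (Ne.symm h), slotOp,
    show (fun m : Rest i => Function.update (fun _ : κ => (LinearMap.id : (γ → F) →ₗ[F] (γ → F))) l D m) =
      Function.update (fun _ : Rest i => LinearMap.id) (⟨l, h⟩ : Rest i) D from funext fun m => by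
        by_cases hm : (m : κ) = l
        · obtain rfl : m = ⟨l, h⟩ := Subtype.ext hm
          rw [Function.update_self, Function.update_self]
        · rw [Function.update_of_ne hm, Function.update_of_ne fun h' => hm (congrArg Subtype.val h')]]
  rfl

theorem slotOp_comp (l : κ) (D D' : (γ → F) →ₗ[F] (γ → F)) :
    (slotOp l D).comp (slotOp l D') = slotOp l (D.comp D') :=
  ext_pair l fun u w => by rw [LinearMap.comp_apply, slotOp_pair, slotOp_pair, slotOp_pair]; rfl

theorem slotOp_id (l : κ) : slotOp l (LinearMap.id : (γ → F) →ₗ[F] (γ → F)) = LinearMap.id := by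
  rw [slotOp, Function.update_eq_self, kronOp_id]

/-- `D ↦` the slot operator, linearly. -/
def slotOpₗ (l : κ) : ((γ → F) →ₗ[F] (γ → F)) →ₗ[F] EndP κ γ F where
  toFun := slotOp l
  map_add' D D' := ext_pair l fun u w => by
    rw [LinearMap.add_apply, slotOp_pair, slotOp_pair, slotOp_pair, LinearMap.add_apply, pair_add_right]
  map_smul' c D := ext_pair l fun u w => by
    rw [RingHom.id_apply, LinearMap.smul_apply, slotOp_pair, slotOp_pair, LinearMap.smul_apply, pair_smul_right]

/-- Conjugation by a slot transvection. -/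
def cj (ω : LinearMap.BilinForm F (γ → F)) (l : κ) (d : γ → F) (t : F) (A : EndP κ γ F) : EndP κ γ F :=
  (slotOp l (transv ω d t)).comp (A.comp (slotOp l (transv ω d (-t))))

variable {ω : LinearMap.BilinForm F (γ → F)}

theorem transv_comp_neg (hA : Alt ω) (d : γ → F) (t : F) : (transv ω d t).comp (transv ω d (-t)) = LinearMap.id :=
  LinearMap.ext fun x => by
    simp only [LinearMap.comp_apply, transv_apply, map_add, map_smul, LinearMap.add_apply, LinearMap.smul_apply,
      smul_eq_mul, hA.self, LinearMap.id_apply]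
    module

theorem slot_transv_eq (l : κ) (d : γ → F) (t : F) :
    slotOp l (transv ω d t) = LinearMap.id + t • slotOp l (rk ω d d) :=
  ext_pair l fun u w => by
    rw [LinearMap.add_apply, LinearMap.id_apply, LinearMap.smul_apply, slotOp_pair, slotOp_pair, transv,
      LinearMap.add_apply, LinearMap.id_apply, LinearMap.smul_apply, pair_add_right, pair_smul_right]

theorem cj_eq (l : κ) (d : γ → F) (t : F) (A : EndP κ γ F) :
    cj ω l d t A - A = t • ((slotOp l (rk ω d d)).comp A - A.comp (slotOp l (rk ω d d))) -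
      (t * t) • (slotOp l (rk ω d d)).comp (A.comp (slotOp l (rk ω d d))) := by
  refine LinearMap.ext fun x => ?_
  simp only [cj, slot_transv_eq, LinearMap.comp_apply, LinearMap.sub_apply, LinearMap.add_apply, LinearMap.id_apply,
    LinearMap.smul_apply, map_add, map_smul]
  module

theorem rk_mem (hA : Alt ω) {P : Submodule F ((γ → F) →ₗ[F] (γ → F))}
    (h : ∀ p q : γ → F, ω p q ≠ 0 → rk ω p q ∈ P) (p q : γ → F) : rk ω p q ∈ P := by
  by_cases hp : p = 0
  · rw [show rk ω p q = 0 from LinearMap.ext fun x => by rw [rk_apply, hp, map_zero, zero_smul]; rfl]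
    exact P.zero_mem
  by_cases h0 : ω p q = 0
  · obtain ⟨w, hw⟩ := hA.exists_one hp
    have hw' : ω p w ≠ 0 := by rw [hA.skew, hw]; exact neg_ne_zero.mpr one_ne_zero
    have := P.sub_mem (h p (q + w) (by rwa [map_add, h0, zero_add])) (h p w hw')
    rwa [show rk ω p (q + w) - rk ω p w = rk ω p q from LinearMap.ext fun x => by
      simp [rk_apply]] at this
  · exact h p q h0

theorem exists_dual' (hA : Alt ω) : ∃ d : γ → γ → F, ∀ v p, ω v (d p) = v p := by
  choose d hd using fun p => hA.exists_rep (LinearMap.proj p)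
  exact ⟨d, fun v p => hd p v⟩

theorem mem_of_rk (hA : Alt ω) {P : Submodule F ((γ → F) →ₗ[F] (γ → F))} (h : ∀ p q : γ → F, rk ω p q ∈ P)
    (D : (γ → F) →ₗ[F] (γ → F)) : D ∈ P := by
  obtain ⟨d, hd⟩ := exists_dual' hA
  rw [show D = ∑ p, rk ω (d p) (D (Pi.single p 1)) from LinearMap.ext fun x => by
    rw [LinearMap.sum_apply]
    simp only [rk_apply, hd]
    conv_lhs => rw [pi_eq_sum_univ' x, map_sum]
    simp only [map_smul]]
  exact Submodule.sum_mem _ fun p _ => h _ _

theorem rk_sq_comp (d g : γ → F) : (rk ω d d).comp (rk ω g g) = ω g d • rk ω g d :=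
  LinearMap.ext fun x => by
    simp only [LinearMap.comp_apply, rk_apply, LinearMap.smul_apply, map_smul, LinearMap.smul_apply, smul_eq_mul,
      smul_smul]
    rw [mul_comm]

/-- The tensor power is irreducible under the slot transvections. -/
theorem inv_top (hA : Alt ω) (K : Submodule F ((κ → γ) → F))
    (hK : ∀ l d t, ∀ v ∈ K, slotOp l (transv ω d t) v ∈ K) {v : (κ → γ) → F} (hv : v ∈ K) (hv0 : v ≠ 0) : K = ⊤ := by
  classical
  have hN : ∀ l d, ∀ v ∈ K, slotOp l (rk ω d d) v ∈ K := fun l d v hv => by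
    have := K.sub_mem (hK l d 1 v hv) hv
    rwa [slot_transv_eq, LinearMap.add_apply, LinearMap.id_apply, one_smul, add_sub_cancel_left] at this
  have hall : ∀ l D, ∀ v ∈ K, slotOp l D v ∈ K := fun l D v hv => by
    let P : Submodule F ((γ → F) →ₗ[F] (γ → F)) := K.comap ((LinearMap.applyₗ v).comp (slotOpₗ l))
    have hP : ∀ p q, rk ω p q ∈ P := rk_mem hA fun p q hpq => by
      show slotOp l (rk ω p q) v ∈ K
      have := K.smul_mem (ω p q)⁻¹ (hN l q _ (hN l p v hv))
      rwa [← LinearMap.comp_apply, slotOp_comp, rk_sq_comp, show slotOp l (ω p q • rk ω p q) =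
        ω p q • slotOp l (rk ω p q) from (slotOpₗ l).map_smul _ _, LinearMap.smul_apply, smul_smul,
        inv_mul_cancel₀ hpq, one_smul] at this
    exact mem_of_rk hA hP D
  obtain ⟨b, hb⟩ := Function.ne_iff.mp hv0
  obtain ⟨d, hd⟩ := exists_dual' hA
  rw [eq_top_iff]
  rintro w -
  rw [eq_sum_pt w]
  refine Submodule.sum_mem _ fun a _ => K.smul_mem _ ?_
  have key : ∀ s : Finset κ,
      kronOp (fun i => if i ∈ s then rk ω (d (b i)) (Pi.single (a i) 1) else LinearMap.id) v ∈ K := by
    intro s
    induction s using Finset.induction with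
    | empty => simpa [kronOp_id] using hv
    | insert i s hi ih =>
      have := hall i (rk ω (d (b i)) (Pi.single (a i) 1)) _ ih
      rwa [← LinearMap.comp_apply, show (slotOp i (rk ω (d (b i)) (Pi.single (a i) 1))).comp
          (kronOp fun l => if l ∈ s then rk ω (d (b l)) (Pi.single (a l) 1) else LinearMap.id) =
          kronOp fun l => if l ∈ insert i s then rk ω (d (b l)) (Pi.single (a l) 1) else LinearMap.id from
        ext_pt fun x => by
          rw [LinearMap.comp_apply, kronOp_pt, slotOp, kronOp_pt, kronOp_pt]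
          congr 1
          funext l
          by_cases hl : l = i
          · subst hl; simp [hi]
          · simp [hl]] at this
  have := key univ
  simp only [mem_univ, if_true] at this
  rw [show kronOp (fun i => rk ω (d (b i)) (Pi.single (a i) 1)) v =
    v b • pt (fun i => Pi.single (a i) (1 : F)) from DFunLike.congr_fun
      (ext_pt (L := kronOp fun i => rk ω (d (b i)) (Pi.single (a i) 1))
        (L' := (LinearMap.proj b : ((κ → γ) → F) →ₗ[F] F).smulRight (pt fun i => Pi.single (a i) (1 : F))) fun x =>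
        funext fun c => by
        rw [kronOp_pt, LinearMap.smulRight_apply, LinearMap.proj_apply]
        simp only [pt, rk_apply, hd, Pi.smul_apply, smul_eq_mul, Finset.prod_mul_distrib]) v] at this
  have h2 := K.smul_mem (v b)⁻¹ this
  rwa [smul_smul, inv_mul_cancel₀ hb, one_smul] at h2

/-- The coefficient of an endomorphism at a pair of vectors of the slot `i`. -/
def al (ω : LinearMap.BilinForm F (γ → F)) (i : κ) (A : EndP κ γ F) (d g : γ → F) : EndP (Rest i) γ F :=
  (cwj ω i g).comp (A.comp (pairL i d))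

theorem al_apply (i : κ) (A : EndP κ γ F) (d g : γ → F) (u : (Rest i → γ) → F) :
    al ω i A d g u = cwj ω i g (A (pair i u d)) := rfl

theorem slot_rk (i : κ) (p q : γ → F) (v : (κ → γ) → F) :
    slotOp i (rk ω p q) v = pair i (cwj ω i p v) q :=
  DFunLike.congr_fun (ext_pair i (L := slotOp i (rk ω p q)) (L' := (pairL i q).comp (cwj ω i p)) fun u w => by
    show _ = pair i (cwj ω i p (pair i u w)) q
    rw [slotOp_pair, cwj_pair, rk_apply, pair_smul_left, pair_smul_right]) v

/-- `C ⊗ D` at the slot `i`. -/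
def tens (i : κ) (C : EndP (Rest i) γ F) (D : (γ → F) →ₗ[F] (γ → F)) : EndP κ γ F :=
  ∑ p : γ, (pairL i (D (Pi.single p 1))).comp (C.comp (LinearMap.pi fun b => LinearMap.proj (ext i b p)))

theorem tens_pair (i : κ) (C : EndP (Rest i) γ F) (D : (γ → F) →ₗ[F] (γ → F)) (u : (Rest i → γ) → F) (w : γ → F) :
    tens i C D (pair i u w) = pair i (C u) (D w) := by
  conv_rhs => rw [pi_eq_sum_univ' w, map_sum]
  refine (LinearMap.sum_apply _ _ _).trans (Eq.trans ?_ (map_sum (pairR i (C u)) _ univ).symm)
  refine Finset.sum_congr rfl fun p _ => ?_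
  show pair i (C (fun b => pair i u w (ext i b p))) (D (Pi.single p 1)) = pair i (C u) (D (w p • Pi.single p 1))
  rw [show (fun b => pair i u w (ext i b p)) = w p • u from funext fun b => by
    rw [pair_ext, Pi.smul_apply, smul_eq_mul, mul_comm], map_smul, map_smul, pair_smul_left, pair_smul_right]

/-- `C ↦ C ⊗ D`, linearly. -/
def tensL (i : κ) (D : (γ → F) →ₗ[F] (γ → F)) : EndP (Rest i) γ F →ₗ[F] EndP κ γ F where
  toFun C := tens i C D
  map_add' C C' := ext_pair i fun u w => by
    rw [LinearMap.add_apply, tens_pair, tens_pair, tens_pair, LinearMap.add_apply, pair_add_left]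
  map_smul' c C := ext_pair i fun u w => by
    rw [RingHom.id_apply, LinearMap.smul_apply, tens_pair, tens_pair, LinearMap.smul_apply, pair_smul_left]

/-- `D ↦ C ⊗ D`, linearly. -/
def tensR (i : κ) (C : EndP (Rest i) γ F) : ((γ → F) →ₗ[F] (γ → F)) →ₗ[F] EndP κ γ F where
  toFun D := tens i C D
  map_add' D D' := ext_pair i fun u w => by
    rw [LinearMap.add_apply, tens_pair, tens_pair, tens_pair, LinearMap.add_apply, pair_add_right]
  map_smul' c D := ext_pair i fun u w => by
    rw [RingHom.id_apply, LinearMap.smul_apply, tens_pair, tens_pair, LinearMap.smul_apply, pair_smul_right]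

theorem tens_comp (i : κ) (C C' : EndP (Rest i) γ F) (D D' : (γ → F) →ₗ[F] (γ → F)) :
    (tens i C D).comp (tens i C' D') = tens i (C.comp C') (D.comp D') :=
  ext_pair i fun u w => by rw [LinearMap.comp_apply, tens_pair, tens_pair, tens_pair]; rfl

theorem tens_id (i : κ) (D : (γ → F) →ₗ[F] (γ → F)) : tens i LinearMap.id D = slotOp i D :=
  ext_pair i fun u w => by rw [tens_pair, slotOp_pair]; rfl

theorem slotOp_ne_eq {l i : κ} (h : l ≠ i) (D : (γ → F) →ₗ[F] (γ → F)) :
    slotOp l D = tens i (slotOp (⟨l, h⟩ : Rest i) D) LinearMap.id :=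
  ext_pair i fun u w => by rw [tens_pair, slotOp_pair_ne h]; rfl

theorem al_cj {l i : κ} (h : l ≠ i) (hA : Alt ω) (A : EndP κ γ F) (d g d' : γ → F) (t : F) :
    al ω i (cj ω l d' t A) d g = cj ω (⟨l, h⟩ : Rest i) d' t (al ω i A d g) := by
  have hcw : ∀ v, cwj ω i g (slotOp l (transv ω d' t) v) =
      slotOp (⟨l, h⟩ : Rest i) (transv ω d' t) (cwj ω i g v) := fun v =>
    DFunLike.congr_fun (ext_pair i (L := (cwj ω i g).comp (slotOp l (transv ω d' t)))
      (L' := (slotOp (⟨l, h⟩ : Rest i) (transv ω d' t)).comp (cwj ω i g)) fun u w => by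
      rw [LinearMap.comp_apply, LinearMap.comp_apply, slotOp_pair_ne h, cwj_pair, cwj_pair, map_smul]) v
  refine LinearMap.ext fun u => ?_
  simp only [al_apply, cj, LinearMap.comp_apply]
  rw [hcw, slotOp_pair_ne h]

theorem ext_GL_pair {i : κ} {g g' : GL (κ → γ) F} (h : ∀ u w, (g : Matrix (κ → γ) (κ → γ) F) *ᵥ pair i u w =
    (g' : Matrix (κ → γ) (κ → γ) F) *ᵥ pair i u w) : g = g' :=
  ext_pt_GL fun x => by rw [pt_eq_pair i x, h]

end Cfsg.Lib.Classical.TensorPow
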