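import Cfsg.Agent.Classical.TensorPow.Wreath
import Cfsg.Agent.Classical.Symp.Maximal
import Cfsg.Agent.Classical.Symp.Decomp

/-! A non-scalar radical in a symplectic tensor power gives every transvection. -/

set_option autoImplicit false
set_option linter.unusedSectionVars false
set_option linter.unusedSimpArgs false
set_option linter.style.haveILetI false

namespace Cfsg.Lib.Classical.TensorPow

open Matrix Finset
open Cfsg.Lib.Classical (BilinIsom sympT sympT_apply transCentres transCentres_zero transCentres_add transCentres_smul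
  eq_top_of_transCentres)
open Cfsg.Lib.Classical.TensorQ (Alt)

universe u

variable {ι γ : Type} [Fintype ι] [DecidableEq ι] [Fintype γ] [DecidableEq γ] {F : Type u} [Field F] [Finite F]
  {ω : LinearMap.BilinForm F (γ → F)} {B : LinearMap.BilinForm F ((ι → γ) → F)}
  {X : Subgroup (GL (ι → γ) F)}

theorem exists_not_mem₂ {V : Type*} [AddCommGroup V] [Module F V] {P Q : Submodule F V} (hP : P ≠ ⊤) (hQ : Q ≠ ⊤) :
    ∃ v, v ∉ P ∧ v ∉ Q := by
  obtain ⟨a, ha⟩ : ∃ a, a ∉ P := by by_contra h; push Not at h; exact hP (eq_top_iff.mpr fun v _ => h v)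
  obtain ⟨b, hb⟩ : ∃ b, b ∉ Q := by by_contra h; push Not at h; exact hQ (eq_top_iff.mpr fun v _ => h v)
  by_cases ha' : a ∈ Q
  · by_cases hb' : b ∈ P
    · exact ⟨a + b, fun h => ha ((P.add_mem_iff_left hb').mp h), fun h => hb ((Q.add_mem_iff_right ha').mp h)⟩
    · exact ⟨b, hb', hb⟩
  · exact ⟨a, ha, ha'⟩

theorem exists_not_mem₃ {V : Type*} [AddCommGroup V] [Module F V] (hq : ∃ c : F, c ≠ 0 ∧ c ≠ 1) {P Q R : Submodule F V}
    (hP : P ≠ ⊤) (hQ : Q ≠ ⊤) (hR : R ≠ ⊤) : ∃ v, v ∉ P ∧ v ∉ Q ∧ v ∉ R := by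
  obtain ⟨z, hzP, hzQ⟩ := exists_not_mem₂ hP hQ
  by_cases hzR : z ∈ R
  swap
  · exact ⟨z, hzP, hzQ, hzR⟩
  obtain ⟨y, hy⟩ : ∃ y, y ∉ R := by by_contra h; push Not at h; exact hR (eq_top_iff.mpr fun v _ => h v)
  have hone : ∀ {S : Submodule F V}, z ∉ S → ∀ a b : F, y + a • z ∈ S → y + b • z ∈ S → a = b := by
    intro S hz a b h h'
    by_contra hab
    have := S.sub_mem h h'
    rw [add_sub_add_left_eq_sub, ← sub_smul] at this
    exact hz ((S.smul_mem_iff (sub_ne_zero.mpr hab)).mp this)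
  have hR' : ∀ a : F, y + a • z ∉ R := fun a h => hy ((R.add_mem_iff_left (R.smul_mem a hzR)).mp h)
  obtain ⟨c, hc0, hc1⟩ := hq
  by_cases h0 : y + (0 : F) • z ∈ P ∨ y + (0 : F) • z ∈ Q
  swap
  · exact ⟨_, fun h => h0 (Or.inl h), fun h => h0 (Or.inr h), hR' 0⟩
  by_cases h1 : y + (1 : F) • z ∈ P ∨ y + (1 : F) • z ∈ Q
  swap
  · exact ⟨_, fun h => h1 (Or.inl h), fun h => h1 (Or.inr h), hR' 1⟩
  refine ⟨y + c • z, fun h => ?_, fun h => ?_, hR' c⟩
  · rcases h0 with h0 | h0
    · exact hc0 (hone hzP _ _ h h0)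
    · rcases h1 with h1 | h1
      · exact hc1 (hone hzP _ _ h h1)
      · exact zero_ne_one (hone hzQ _ _ h0 h1)
  · rcases h0 with h0 | h0
    · rcases h1 with h1 | h1
      · exact zero_ne_one (hone hzP _ _ h0 h1)
      · exact hc1 (hone hzQ _ _ h h1)
    · exact hc0 (hone hzQ _ _ h h0)

/-- Three non-zero functionals are all non-zero at some pure tensor. -/
theorem exists_pt_ne₃ (hq : ∃ c : F, c ≠ 0 ∧ c ≠ 1) {f g h : ((ι → γ) → F) →ₗ[F] F} (hf : f ≠ 0) (hg : g ≠ 0)
    (hh : h ≠ 0) : ∃ x, f (pt x) ≠ 0 ∧ g (pt x) ≠ 0 ∧ h (pt x) ≠ 0 := by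
  classical
  let Ok : Finset ι → (((ι → γ) → F) →ₗ[F] F) → (ι → γ → F) → Prop := fun s L x =>
    ∃ y : ι → γ → F, (∀ i, i ∉ s → y i = x i) ∧ L (pt y) ≠ 0
  have key : ∀ (s : Finset ι) (x : ι → γ → F), Ok s f x → Ok s g x → Ok s h x →
      ∃ z, f (pt z) ≠ 0 ∧ g (pt z) ≠ 0 ∧ h (pt z) ≠ 0 := by
    intro s
    induction s using Finset.induction with
    | empty =>
      intro x h1 h2 h3
      have hsame : ∀ L, Ok ∅ L x → L (pt x) ≠ 0 := fun L ⟨y, hy, hL⟩ => by
        rwa [show y = x from funext fun i => hy i (Finset.notMem_empty i)] at hL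
      exact ⟨x, hsame _ h1, hsame _ h2, hsame _ h3⟩
    | insert l s hl ih =>
      intro x h1 h2 h3
      let K : (((ι → γ) → F) →ₗ[F] F) → Submodule F (γ → F) := fun L =>
        { carrier := {w | ∀ y : ι → γ → F, (∀ i, i ∉ insert l s → y i = x i) → L (pt (Function.update y l w)) = 0}
          zero_mem' := fun y _ => by rw [pt_eq_zero (i := l) (Function.update_self _ _ _), map_zero]
          add_mem' := fun {v w} hv hw y hy => by rw [pt_update_add, map_add, hv y hy, hw y hy, add_zero]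
          smul_mem' := fun c w hw y hy => by rw [pt_update_smul, map_smul, hw y hy, smul_zero] }
      have hK : ∀ L, Ok (insert l s) L x → K L ≠ ⊤ := fun L ⟨y, hy, hL⟩ htop => hL (by
        have h' : y l ∈ K L := htop ▸ Submodule.mem_top
        simpa using h' y hy)
      obtain ⟨w, w1, w2, w3⟩ := exists_not_mem₃ hq (hK f h1) (hK g h2) (hK h h3)
      have hok : ∀ L, w ∉ K L → Ok s L (Function.update x l w) := fun L hw => by
        have hw' : ¬∀ y : ι → γ → F, (∀ i, i ∉ insert l s → y i = x i) → L (pt (Function.update y l w)) = 0 := hw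
        push Not at hw'
        obtain ⟨y, hy, hL⟩ := hw'
        refine ⟨Function.update y l w, fun i hi => ?_, hL⟩
        by_cases hil : i = l
        · subst hil; simp
        · rw [Function.update_of_ne hil, Function.update_of_ne hil, hy i (by simp [hi, hil])]
      exact ih _ (hok f w1) (hok g w2) (hok h w3)
  have hex : ∀ {L : ((ι → γ) → F) →ₗ[F] F}, L ≠ 0 → Ok univ L 0 := fun {L} hL => by
    by_contra hc
    exact hL (ext_pt fun x => by
      by_contra h0
      exact hc ⟨x, fun i hi => absurd (mem_univ i) hi, h0⟩)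
  exact key univ 0 (hex hf) (hex hg) (hex hh)

theorem TP.nondeg (T : TP ω B) (hB : B.IsAlt) : B.Nondegenerate :=
  ⟨fun v h => T.nd fun y => h _, fun v h => T.nd fun y => hB.isRefl _ _ (h _)⟩

theorem four_le_or_two (hA : Alt ω) (hk : 2 ≤ Fintype.card γ) : 4 ≤ Fintype.card γ ∨ Fintype.card γ = 2 := by
  have := even_finrank_of_symplectic (B := ω) hA.self ⟨hA.nd, hA.nd'⟩
  rw [Module.finrank_pi] at this
  obtain ⟨m, hm⟩ := this
  omega

/-- A non-scalar radical at one factor gives the transvection at every element of rank one there. -/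
theorem transvection_mem (T : TP ω B) (hB : B.IsAlt) (hk : 2 ≤ Fintype.card γ) (h2 : (2 : F) ≠ 0)
    (hX : ∀ i, XJ ω B X i) (hP : ∀ σ : Equiv.Perm ι, ∃ g ∈ X, ∀ v, (g : Matrix (ι → γ) (ι → γ) F) *ᵥ v = pperm σ v)
    {j : ι} (hS : ¬ RadScalar ω X j) (u : (Rest j → γ) → F) {e : γ → F} (he : e ≠ 0) (s : F) :
    ∃ g ∈ X, ∀ x, (g : Matrix (ι → γ) (ι → γ) F) *ᵥ x = x + (s * B x (pair j u e)) • pair j u e := by
  classical
  have hA := T.alt
  haveI : Nonempty γ := Fintype.card_pos_iff.mp (by omega)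
  obtain ⟨B₁, R₁⟩ := exists_rest1 T j
  have hsym : ∀ a b, B₁ a b = B₁ b a := fun a b => by
    obtain ⟨p, q, hpq⟩ := T.exists_pair
    have := (LinearMap.IsAlt.neg hB (pair j a p) (pair j b q)).symm
    rw [R₁.pair, R₁.pair, hA.skew p q, hpq, mul_one, mul_neg, mul_one, neg_inj] at this
    exact this.symm
  obtain ⟨C, hC⟩ : ∃ C : EndP (Rest j) γ F, C = s • (B₁.flip u).smulRight u := ⟨_, rfl⟩
  have hCa : ∀ a, C a = (s * B₁ a u) • u := fun a => by simp [hC, smul_smul]
  have hadj : IsAdj B₁ C C := fun a b => by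
    rw [hCa, hCa, map_smul, map_smul, LinearMap.smul_apply, smul_eq_mul, smul_eq_mul, hsym u b]
    ring
  have hCen : Cen ω X j C := by
    rcases four_le_or_two hA hk with h4 | h2k
    · have hXB : XB ω B X j := ⟨hX, fun l l' => by
        obtain ⟨g, hg, hgv⟩ := hP (Equiv.swap (l : ι) l')
        obtain ⟨π, hπ, hπs⟩ := exists_perm_rest (γ := γ) (F := F) j (Equiv.swap (l : ι) l')
          (Equiv.swap_apply_of_ne_of_ne (Ne.symm l.2) (Ne.symm l'.2))
        exact ⟨g, hg, π, fun u z => by rw [hgv, hπ], hπs l l' (Equiv.swap_apply_left _ _)⟩⟩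
      have htop := inAlg_top T h4 (Or.inl h2) hXB hS
      have hhalf : IsAdj B₁ ((2 : F)⁻¹ • C) ((2 : F)⁻¹ • C) := fun a b => by
        rw [LinearMap.smul_apply, LinearMap.smul_apply, map_smul, map_smul, LinearMap.smul_apply, hadj a b]
      have := cen_of_inAlg hA R₁ (hX j) h4 (A := (2 : F)⁻¹ • C) (A' := LinearMap.id) hhalf
        (As' := LinearMap.id) (fun a b => rfl) (htop _) (htop _)
      rwa [LinearMap.comp_id, LinearMap.id_comp, ← two_smul F, smul_smul, mul_inv_cancel₀ h2, one_smul] at this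
    · refine cen_all_two T h2k h2 R₁ hX (fun a b c hab hac hbc => ?_) hS hadj
      have hne : ∀ {l l' : Rest j}, l ≠ l' → (l : ι) ≠ l' := fun h h' => h (Subtype.ext h')
      obtain ⟨g, hg, hgv⟩ := hP (Equiv.swap (a : ι) b * Equiv.swap (b : ι) c)
      obtain ⟨π, hπ, hπs⟩ := exists_perm_rest (γ := γ) (F := F) j (Equiv.swap (a : ι) b * Equiv.swap (b : ι) c) (by
        rw [Equiv.Perm.mul_apply, Equiv.swap_apply_of_ne_of_ne (Ne.symm b.2) (Ne.symm c.2),
          Equiv.swap_apply_of_ne_of_ne (Ne.symm a.2) (Ne.symm b.2)])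
      exact ⟨g, hg, π, fun u z => by rw [hgv, hπ],
        hπs a b (by rw [Equiv.Perm.mul_apply, Equiv.swap_apply_of_ne_of_ne (hne hab) (hne hac), Equiv.swap_apply_left]),
        hπs b c (by
          rw [Equiv.Perm.mul_apply, Equiv.swap_apply_left,
            Equiv.swap_apply_of_ne_of_ne (Ne.symm (hne hac)) (Ne.symm (hne hbc))])⟩
  obtain ⟨g, hg, hgv⟩ := hCen e he
  exact ⟨g, hg, fun x => by rw [hgv, hCa, pair_smul_left, ← R₁.contract]⟩

/-- The isometries, as matrices. -/
def toGL (B : LinearMap.BilinForm F ((ι → γ) → F)) : BilinIsom B →* GL (ι → γ) F where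
  toFun g :=
    ⟨LinearMap.toMatrix' (g : ((ι → γ) → F) ≃ₗ[F] ((ι → γ) → F)).toLinearMap,
      LinearMap.toMatrix' ((g⁻¹ : BilinIsom B) : ((ι → γ) → F) ≃ₗ[F] ((ι → γ) → F)).toLinearMap,
      (LinearMap.toMatrix'_comp _ _).symm.trans ((congrArg LinearMap.toMatrix'
        (LinearMap.ext (g := LinearMap.id) fun x => by exact BilinIsom.apply_inv_self g x)).trans LinearMap.toMatrix'_id),
      (LinearMap.toMatrix'_comp _ _).symm.trans ((congrArg LinearMap.toMatrix'
        (LinearMap.ext (g := LinearMap.id) fun x => by exact BilinIsom.inv_apply_self g x)).trans LinearMap.toMatrix'_id)⟩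
  map_one' := Units.ext LinearMap.toMatrix'_id
  map_mul' g h := Units.ext (LinearMap.toMatrix'_comp _ _)

theorem toGL_mulVec (g : BilinIsom B) (v : (ι → γ) → F) :
    ((toGL B g : GL (ι → γ) F) : Matrix (ι → γ) (ι → γ) F) *ᵥ v = (g : ((ι → γ) → F) ≃ₗ[F] _) v :=
  LinearMap.toMatrix'_mulVec _ v

/-- Every isometry lies in `X`. -/
theorem isometry_mem (T : TP ω B) (hB : B.IsAlt) (hk : 2 ≤ Fintype.card γ) (h2 : (2 : F) ≠ 0)
    (hX : ∀ i, XJ ω B X i) (hP : ∀ σ : Equiv.Perm ι, ∃ g ∈ X, ∀ v, (g : Matrix (ι → γ) (ι → γ) F) *ᵥ v = pperm σ v)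
    {j : ι} (hS : ¬ RadScalar ω X j) {g : GL (ι → γ) F}
    (hg : ∀ u v, B ((g : Matrix (ι → γ) (ι → γ) F) *ᵥ u) ((g : Matrix (ι → γ) (ι → γ) F) *ᵥ v) = B u v) :
    g ∈ X := by
  classical
  have hq : ∃ c : F, c ≠ 0 ∧ c ≠ 1 := ⟨-1, by simp, fun h => h2 (by linear_combination -h)⟩
  have hnd := T.nondeg hB
  set H : Subgroup (BilinIsom B) := X.comap (toGL B) with hH
  have hpure : ∀ x, pt x ∈ transCentres hB H := fun x => by
    intro s
    by_cases hx : x j = 0
    · rw [pt_eq_zero (i := j) hx, sympT_zero_vec]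
      exact H.one_mem
    obtain ⟨k, hk', hky⟩ := transvection_mem T hB hk h2 hX hP hS (pt fun i : Rest j => x i) hx s
    show toGL B (sympT hB (pt x) s) ∈ X
    rwa [show toGL B (sympT hB (pt x) s) = k from ext_pt_GL fun y => by
      rw [toGL_mulVec, sympT_apply, hky, ← pt_eq_pair]]
  have hfun : ∀ {a : (ι → γ) → F}, a ≠ 0 → B a ≠ 0 := fun {a} ha h => ha (hnd.1 a fun y => by rw [h]; rfl)
  have hadd : ∀ v, v ∈ transCentres hB H → ∀ x, v + pt x ∈ transCentres hB H := by
    intro v hv x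
    by_cases hvw : B v (pt x) = 0
    swap
    · exact transCentres_add hv (hpure x) hvw
    by_cases hv0 : v = 0
    · simpa [hv0] using hpure x
    by_cases hx0 : pt x = 0
    · simpa [hx0] using hv
    by_cases hs : v + pt x = 0
    · rw [hs]; exact transCentres_zero hB H
    obtain ⟨z, hz1, hz2, hz3⟩ := exists_pt_ne₃ hq (hfun hv0) (hfun hx0) (hfun hs)
    have e1 := transCentres_add hv (hpure z) hz1
    have e2 := transCentres_add (hpure x) (transCentres_smul (hpure z) (-1)) (by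
      rw [map_smul, smul_eq_mul]; exact mul_ne_zero (by simp) hz2)
    have := transCentres_add e1 e2 (by
      have hrw : B (v + pt z) (pt x + (-1 : F) • pt z) = -B (v + pt x) (pt z) := by
        simp only [map_add, LinearMap.add_apply, map_smul, smul_eq_mul, hvw, hB (pt z),
          ← LinearMap.IsAlt.neg hB (pt x) (pt z)]
        ring
      rw [hrw]
      exact neg_ne_zero.mpr hz3)
    rwa [show v + pt z + (pt x + (-1 : F) • pt z) = v + pt x by module] at this
  have hall : ∀ v, v ∈ transCentres hB H := by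
    intro v
    rw [eq_sum_pt v]
    suffices h : ∀ s : Finset (ι → γ), ∑ a ∈ s, v a • pt (fun i => Pi.single (a i) (1 : F)) ∈ transCentres hB H from
      h univ
    intro s
    induction s using Finset.induction with
    | empty => simpa using transCentres_zero hB H
    | insert a s ha ih =>
      rw [Finset.sum_insert ha, add_comm]
      by_cases h0 : v a = 0
      · simpa [h0] using ih
      have := hadd _ (transCentres_smul ih (v a)⁻¹) (fun i => Pi.single (a i) (1 : F))
      have := transCentres_smul this (v a)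
      rwa [smul_add, smul_smul, mul_inv_cancel₀ h0, one_smul] at this
  have htop := eq_top_of_transCentres hnd hall
  let g' : BilinIsom B := ⟨LinearEquiv.ofLinearMap (g : Matrix (ι → γ) (ι → γ) F).mulVecLin
    ((g⁻¹ : GL (ι → γ) F) : Matrix (ι → γ) (ι → γ) F).mulVecLin
    (LinearMap.ext fun x => mulVec_self_inv g x) (LinearMap.ext fun x => mulVec_inv_self g x), hg⟩
  have : g' ∈ H := htop ▸ Subgroup.mem_top g'
  rwa [hH, Subgroup.mem_comap, show toGL B g' = g from ext_pt_GL fun y => by rw [toGL_mulVec]; rfl] at this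

end Cfsg.Lib.Classical.TensorPow
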