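import Cfsg.Agent.Classical.TensorPow.Scalar

/-! If the radical elements of a factor are scalar, the stabilisers of its layers split. -/

set_option autoImplicit false
set_option linter.unusedSectionVars false
set_option linter.unusedSimpArgs false

namespace Cfsg.Lib.Classical.TensorPow

open Matrix Finset
open Cfsg.Lib.Classical.TensorQ (Alt)

universe u

variable {ι γ : Type} [Fintype ι] [DecidableEq ι] [Fintype γ] [DecidableEq γ] {F : Type u} [Field F]
  {ω : LinearMap.BilinForm F (γ → F)} {B : LinearMap.BilinForm F ((ι → γ) → F)}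

/-- Contraction of the factor `j` against a vector. -/
def cwj (ω : LinearMap.BilinForm F (γ → F)) (j : ι) (z : γ → F) : ((ι → γ) → F) →ₗ[F] ((Rest j → γ) → F) :=
  LinearMap.pi fun b => (ω.flip z).comp (LinearMap.pi fun p => LinearMap.proj (ext j b p))

theorem cwj_apply (j : ι) (z : γ → F) (v : (ι → γ) → F) (b : Rest j → γ) :
    cwj ω j z v b = ω (fun p => v (ext j b p)) z := rfl

theorem cwj_pair (j : ι) (z : γ → F) (u : (Rest j → γ) → F) (w : γ → F) :
    cwj ω j z (pair j u w) = ω w z • u := funext fun b => by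
  rw [cwj_apply, show (fun p => pair j u w (ext j b p)) = u b • w from funext fun p => pair_ext j u w b p, map_smul,
    LinearMap.smul_apply, Pi.smul_apply, smul_eq_mul, smul_eq_mul, mul_comm]

theorem cwj_add (j : ι) (z z' : γ → F) (v : (ι → γ) → F) : cwj ω j (z + z') v = cwj ω j z v + cwj ω j z' v :=
  funext fun b => by simp [cwj_apply]

theorem cwj_smul (j : ι) (c : F) (z : γ → F) (v : (ι → γ) → F) : cwj ω j (c • z) v = c • cwj ω j z v :=
  funext fun b => by simp [cwj_apply]

theorem pairR_ne_zero {j : ι} {u : (Rest j → γ) → F} {w : γ → F} (hu : u ≠ 0) (hw : w ≠ 0) : pair j u w ≠ 0 :=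
  fun h => hu (pairL_injective j hw (h.trans (map_zero (pairL j w)).symm))

theorem ext_cwj (hA : Alt ω) {j : ι} {v v' : (ι → γ) → F} (h : ∀ z, cwj ω j z v = cwj ω j z v') : v = v' := by
  funext a
  have := hA.nd (fun p => v (ext j (fun i => a i) p) - v' (ext j (fun i => a i) p)) fun z => by
    rw [show (fun p => v (ext j (fun i : Rest j => a i) p) - v' (ext j (fun i : Rest j => a i) p)) =
      (fun p => v (ext j (fun i : Rest j => a i) p)) - fun p => v' (ext j (fun i : Rest j => a i) p) from rfl,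
      map_sub, LinearMap.sub_apply, sub_eq_zero]
    exact congrFun (h z) _
  have h2 := congrFun this (a j)
  rw [show ext j (fun i : Rest j => a i) (a j) = a from funext fun i => by
    by_cases hi : i = j
    · subst hi; exact ext_self _ _ _
    · exact dif_neg hi] at h2
  exact sub_eq_zero.mp h2

/-- An element acting on the factor `j` only lies in `X`. -/
def InX (X : Subgroup (GL (ι → γ) F)) (j : ι) (b : (γ → F) →ₗ[F] (γ → F)) : Prop :=
  ∃ g ∈ X, ∀ u w, (g : Matrix (ι → γ) (ι → γ) F) *ᵥ pair j u w = pair j u (b w)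

theorem InX.comp {X : Subgroup (GL (ι → γ) F)} {j : ι} {b b' : (γ → F) →ₗ[F] (γ → F)} (h : InX X j b)
    (h' : InX X j b') : InX X j (b.comp b') := by
  obtain ⟨g, hg, e⟩ := h
  obtain ⟨g', hg', e'⟩ := h'
  exact ⟨g * g', mul_mem hg hg', fun u w => by rw [Units.val_mul, ← mulVec_mulVec, e', e]; rfl⟩

theorem InX.one (X : Subgroup (GL (ι → γ) F)) (j : ι) : InX X j LinearMap.id :=
  ⟨1, one_mem X, fun u w => by rw [Units.val_one, one_mulVec]; rfl⟩

/-- The radical elements at the factor `j` act on that factor only. -/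
def RadScalar (ω : LinearMap.BilinForm F (γ → F)) (X : Subgroup (GL (ι → γ) F)) (j : ι) : Prop :=
  ∀ e : γ → F, e ≠ 0 → ∀ k ∈ X, (∀ u, (k : Matrix (ι → γ) (ι → γ) F) *ᵥ pair j u e = pair j u e) →
    (∀ v, cwj ω j e v = 0 → ∃ c, (k : Matrix (ι → γ) (ι → γ) F) *ᵥ v = v + pair j c e) →
    ∃ s : (γ → F) →ₗ[F] (γ → F), ∀ u w, (k : Matrix (ι → γ) (ι → γ) F) *ᵥ pair j u w = pair j u (s w)

/-- The hypotheses on `X` at the factor `j`. -/
structure XJ (ω : LinearMap.BilinForm F (γ → F)) (B : LinearMap.BilinForm F ((ι → γ) → F))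
    (X : Subgroup (GL (ι → γ) F)) (j : ι) : Prop where
  iso : ∀ g ∈ X, ∀ u v, B ((g : Matrix (ι → γ) (ι → γ) F) *ᵥ u) ((g : Matrix (ι → γ) (ι → γ) F) *ᵥ v) = B u v
  tr : ∀ d t, ∃ g ∈ X, IsTr ω j d t g

variable {X : Subgroup (GL (ι → γ) F)} {j : ι}

theorem XJ.transv (hX : XJ ω B X j) (d : γ → F) (t : F) : InX X j (TensorQ.transv ω d t) := by
  obtain ⟨g, hg, h⟩ := hX.tr d t
  exact ⟨g, hg, fun u w => by rw [h, TensorQ.transv_apply]⟩

/-- The form on the other factors, non-degenerate. -/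
structure Rest1 (ω : LinearMap.BilinForm F (γ → F)) (B : LinearMap.BilinForm F ((ι → γ) → F)) (j : ι)
    (B₁ : LinearMap.BilinForm F ((Rest j → γ) → F)) : Prop where
  pair : ∀ u v w z, B (pair j u w) (pair j v z) = B₁ u v * ω w z
  nd : ∀ u, (∀ v, B₁ u v = 0) → u = 0
  symm : ∃ s : F, s * s = 1 ∧ ∀ u v, B₁ v u = s * B₁ u v

theorem exists_rest1 [Nonempty γ] (T : TP ω B) (j : ι) : ∃ B₁, Rest1 ω B j B₁ := by
  obtain ⟨p, q, hpq⟩ := T.exists_pair
  obtain ⟨c, hc, hB⟩ := T.pure
  refine ⟨restForm B j p q, pair_form T hpq, fun u h => (T.rest hpq).nd fun y => h _,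
    (-1) ^ Fintype.card (Rest j), by rw [← mul_pow, neg_one_mul, neg_neg, one_pow], fun u v => ?_⟩
  refine DFunLike.congr_fun (DFunLike.congr_fun (ext_pt (L := (restForm B j p q).flip)
    (L' := ((-1) ^ Fintype.card (Rest j) : F) • restForm B j p q) fun x => ext_pt fun y => ?_) u) v
  show restForm B j p q (pt y) (pt x) = _ * restForm B j p q (pt x) (pt y)
  rw [restForm_pt hB hpq, restForm_pt hB hpq, ← Finset.card_univ, ← Finset.prod_const, ← mul_assoc,
    mul_comm _ c, mul_assoc, ← Finset.prod_mul_distrib]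
  exact congrArg (c * ·) (Finset.prod_congr rfl fun i _ => by rw [T.alt.skew (x i) (y i), neg_one_mul])

variable {B₁ : LinearMap.BilinForm F ((Rest j → γ) → F)}

theorem Rest1.contract (R : Rest1 ω B j B₁) (v : (ι → γ) → F) (u : (Rest j → γ) → F) (z : γ → F) :
    B v (TensorPow.pair j u z) = B₁ (cwj ω j z v) u :=
  DFunLike.congr_fun (ext_pair j (L := B.flip (TensorPow.pair j u z)) (L' := (B₁.flip u).comp (cwj ω j z))
    fun u' w => by
      show B (TensorPow.pair j u' w) (TensorPow.pair j u z) = B₁ (cwj ω j z (TensorPow.pair j u' w)) u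
      rw [R.pair, cwj_pair, map_smul, LinearMap.smul_apply, smul_eq_mul, mul_comm]) v

/-- A map of pure form is detected by its contractions. -/
theorem exists_pure_of_contract {U : Type*} [AddCommGroup U] [Module F U] (hA : Alt ω)
    {A : U →ₗ[F] ((Rest j → γ) → F)} {L : U →ₗ[F] ((ι → γ) → F)} (hA0 : ∃ u, A u ≠ 0)
    (h : ∀ z, ∃ c : F, ∀ u, cwj ω j z (L u) = c • A u) : ∃ η : γ → F, ∀ u, L u = pair j (A u) η := by
  choose c hc using h
  obtain ⟨u₀, hu₀⟩ := hA0
  have hadd : ∀ z z', c (z + z') = c z + c z' := fun z z' => smul_left_injective F hu₀ (by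
    simp only
    rw [← hc, cwj_add, hc, hc, add_smul])
  have hsmul : ∀ (r : F) z, c (r • z) = r * c z := fun r z => smul_left_injective F hu₀ (by
    simp only
    rw [← hc, cwj_smul, hc, smul_smul])
  obtain ⟨η, hη⟩ := hA.exists_rep (-({ toFun := c, map_add' := hadd, map_smul' := hsmul } : (γ → F) →ₗ[F] F))
  refine ⟨η, fun u => ext_cwj hA (j := j) fun z => ?_⟩
  rw [hc, cwj_pair, hA.skew z η, hη]
  simp

/-- The data of an element fixing a layer. -/
structure Fixes (ω : LinearMap.BilinForm F (γ → F)) (j : ι) (e : γ → F)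
    (A : ((Rest j → γ) → F) →ₗ[F] ((Rest j → γ) → F)) (g : GL (ι → γ) F) : Prop where
  map : ∀ u, (g : Matrix (ι → γ) (ι → γ) F) *ᵥ pair j u e = pair j (A u) e
  bij : Function.Bijective A

theorem exists_fixes (hA : Alt ω) {e : γ → F} (he : e ≠ 0) {g : GL (ι → γ) F}
    (hg : ∀ v ∈ lay j e, (g : Matrix (ι → γ) (ι → γ) F) *ᵥ v ∈ lay j e) : ∃ A, Fixes ω j e A g := by
  obtain ⟨f, hf⟩ := hA.exists_one he
  let A : ((Rest j → γ) → F) →ₗ[F] ((Rest j → γ) → F) :=
    (-cwj ω j f).comp ((g : Matrix (ι → γ) (ι → γ) F).mulVecLin.comp (pairL j e))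
  have hmap : ∀ u, (g : Matrix (ι → γ) (ι → γ) F) *ᵥ pair j u e = pair j (A u) e := fun u => by
    obtain ⟨u', hu'⟩ := hg _ (pair_mem_lay j u e)
    change pair j u' e = _ at hu'
    show _ = pair j (-cwj ω j f ((g : Matrix (ι → γ) (ι → γ) F) *ᵥ pair j u e)) e
    rw [← hu', cwj_pair, hA.skew f e, hf, neg_smul, one_smul, neg_neg]
  have hinj : Function.Injective A := fun u u' h =>
    pairL_injective j he (Matrix.mulVec_injective_of_isUnit g.isUnit (by
      show (g : Matrix (ι → γ) (ι → γ) F) *ᵥ pair j u e = (g : Matrix (ι → γ) (ι → γ) F) *ᵥ pair j u' e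
      rw [hmap, hmap, h]))
  exact ⟨A, hmap, hinj, LinearMap.injective_iff_surjective.mp hinj⟩

theorem radW (hA : Alt ω) (hX : XJ ω B X j) {e w : γ → F} (hew : ω e w = 0) :
    ∃ R ∈ X, ∀ v, (R : Matrix (ι → γ) (ι → γ) F) *ᵥ v =
      v + pair j (cwj ω j w v) e + pair j (cwj ω j e v) w := by
  obtain ⟨R, hR, hRy⟩ := ((hX.transv (e + w) 1).comp (hX.transv e (-1))).comp (hX.transv w (-1))
  refine ⟨R, hR, fun v => ?_⟩
  refine DFunLike.congr_fun (ext_pair j (L := (R : Matrix (ι → γ) (ι → γ) F).mulVecLin)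
    (L' := LinearMap.id + (pairL j e).comp (cwj ω j w) + (pairL j w).comp (cwj ω j e)) fun u z => ?_) v
  show _ *ᵥ pair j u z = pair j u z + pair j (cwj ω j w (pair j u z)) e + pair j (cwj ω j e (pair j u z)) w
  rw [hRy, cwj_pair, cwj_pair, pair_smul_left, pair_smul_left, ← pair_smul_right, ← pair_smul_right, ← pair_add_right,
    ← pair_add_right]
  congr 1
  simp only [LinearMap.comp_apply, TensorQ.transv_apply, map_add, LinearMap.add_apply, map_smul,
    LinearMap.smul_apply, smul_eq_mul, hA.self, hew, hA.swap hew]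
  module

variable [Finite F]

/-- First consequences of the scalarity of the radical, for an element fixing a layer. -/
theorem stab_first (hA : Alt ω) (R₁ : Rest1 ω B j B₁) (hX : XJ ω B X j) (hR : RadScalar ω X j) {e : γ → F}
    (he : e ≠ 0) {g : GL (ι → γ) F} (hg : g ∈ X) {A : ((Rest j → γ) → F) →ₗ[F] ((Rest j → γ) → F)}
    (hfix : Fixes ω j e A g) :
    (∀ v, cwj ω j e ((g : Matrix (ι → γ) (ι → γ) F) *ᵥ v) = 0 ↔ cwj ω j e v = 0) ∧
      (∃ β : F, β ≠ 0 ∧ (∀ u z, cwj ω j e ((g : Matrix (ι → γ) (ι → γ) F) *ᵥ pair j u z) = (ω z e * β) • A u) ∧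
        ∀ u v, β * B₁ (A u) (A v) = B₁ u v) ∧
      (∀ z, ω z e = 0 → ∀ w, ω e w = 0 → ∃ σ : F, ∀ u,
        cwj ω j w ((g : Matrix (ι → γ) (ι → γ) F) *ᵥ pair j u z) = σ • A u) := by
  set G := (g : Matrix (ι → γ) (ι → γ) F) with hG
  have hBi : ∀ v u, B₁ (cwj ω j e (G *ᵥ v)) (A u) = B₁ (cwj ω j e v) u := fun v u => by
    rw [← R₁.contract, ← R₁.contract, ← hfix.map, hX.iso g hg]
  have hperp : ∀ v, cwj ω j e (G *ᵥ v) = 0 ↔ cwj ω j e v = 0 := by
    intro v
    constructor
    · intro h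
      exact R₁.nd _ fun u => by rw [← hBi, h, map_zero, LinearMap.zero_apply]
    · intro h
      refine R₁.nd _ fun u => ?_
      obtain ⟨u', rfl⟩ := hfix.bij.2 u
      rw [hBi, h, map_zero, LinearMap.zero_apply]
  have hfixinv : ∀ u, ((g⁻¹ : GL (ι → γ) F) : Matrix (ι → γ) (ι → γ) F) *ᵥ pair j (A u) e = pair j u e := fun u => by
    rw [← hfix.map, mulVec_inv_self]
  -- conjugates of radical elements
  have hrad : ∀ w, ω e w = 0 → ∀ (R : GL (ι → γ) F) (a : F), R ∈ X →
      (∀ v, (R : Matrix (ι → γ) (ι → γ) F) *ᵥ v = v + a • pair j (cwj ω j w v) e + pair j (cwj ω j e v) w) →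
      ∃ s : (γ → F) →ₗ[F] (γ → F), (∀ z, ω z e = 0 → ∃ σ : F, s z - z = σ • e) ∧
        ∀ u z, G *ᵥ pair j u (s z - z) =
          a • pair j (cwj ω j w (G *ᵥ pair j u z)) e + pair j (cwj ω j e (G *ᵥ pair j u z)) w := by
    intro w hw R a hRX hRv
    have hkfix : ∀ u, ((g⁻¹ * R * g : GL (ι → γ) F) : Matrix (ι → γ) (ι → γ) F) *ᵥ pair j u e = pair j u e := fun u => by
      rw [Units.val_mul, Units.val_mul, ← mulVec_mulVec, ← mulVec_mulVec, hfix.map, hRv, cwj_pair, cwj_pair, hA.self,
        hw, zero_smul, show pair j (0 : (Rest j → γ) → F) e = 0 from map_zero (pairL j e),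
        show pair j (0 : (Rest j → γ) → F) w = 0 from map_zero (pairL j w), smul_zero, add_zero, add_zero, hfixinv]
    have hkperp : ∀ v, cwj ω j e v = 0 → ∃ c,
        ((g⁻¹ * R * g : GL (ι → γ) F) : Matrix (ι → γ) (ι → γ) F) *ᵥ v = v + pair j c e := fun v hv => by
      obtain ⟨c, hc⟩ := hfix.bij.2 (cwj ω j w (G *ᵥ v))
      refine ⟨a • c, ?_⟩
      rw [Units.val_mul, Units.val_mul, ← mulVec_mulVec, ← mulVec_mulVec, hRv, (hperp v).mpr hv,
        show pair j (0 : (Rest j → γ) → F) w = 0 from map_zero (pairL j w), add_zero, mulVec_add, mulVec_smul,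
        mulVec_inv_self, ← hc, hfixinv, pair_smul_left]
    obtain ⟨s, hs⟩ := hR e he _ (mul_mem (mul_mem (inv_mem hg) hRX) hg) hkfix hkperp
    refine ⟨s, fun z hz => ?_, fun u z => ?_⟩
    · obtain ⟨p⟩ : Nonempty γ := not_isEmpty_iff.mp fun h => he (funext fun q => isEmptyElim q)
      set u₀ : (Rest j → γ) → F := pt fun _ => Pi.single p 1 with hu₀
      have hu₀0 : u₀ ≠ 0 := pt_ne_zero fun _ => by simp
      obtain ⟨c, hc⟩ := hkperp (pair j u₀ z) (by rw [cwj_pair, hz, zero_smul])
      rw [hs] at hc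
      have h1 : pair j u₀ (s z - z) = pair j c e := by
        rw [show pair j u₀ (s z - z) = pair j u₀ (s z) - pair j u₀ z from map_sub (pairR j u₀) _ _, hc,
          add_sub_cancel_left]
      by_cases h0 : s z - z = 0
      · exact ⟨0, by rw [h0, zero_smul]⟩
      obtain ⟨σ, hσ⟩ := lay_inj he h0 (pairR_ne_zero hu₀0 h0) (h1 ▸ pair_mem_lay _ _ _) (pair_mem_lay _ _ _)
      exact ⟨σ, hσ⟩
    · have := hs u z
      rw [Units.val_mul, Units.val_mul, ← mulVec_mulVec, ← mulVec_mulVec] at this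
      have h2 := congrArg (fun v => G *ᵥ v) this
      simp only [hG, mulVec_self_inv] at h2
      rw [hRv] at h2
      rw [show pair j u (s z - z) = pair j u (s z) - pair j u z from map_sub (pairR j u) _ _, mulVec_sub, ← h2, add_assoc,
        add_sub_cancel_left]
  refine ⟨hperp, ?_, ?_⟩
  · obtain ⟨f, hf⟩ := hA.exists_one he
    -- the transvection at `e`
    obtain ⟨R, hRX, hRt⟩ := hX.tr e 1
    have hRv : ∀ v, (R : Matrix (ι → γ) (ι → γ) F) *ᵥ v =
        v + (0 : F) • pair j (cwj ω j e v) e + pair j (cwj ω j e v) e := fun v => by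
      rw [zero_smul, add_zero]
      refine DFunLike.congr_fun (ext_pair j (L := (R : Matrix (ι → γ) (ι → γ) F).mulVecLin)
        (L' := LinearMap.id + (pairL j e).comp (cwj ω j e)) fun u z => ?_) v
      show _ *ᵥ pair j u z = pair j u z + pair j (cwj ω j e (pair j u z)) e
      rw [hRt, cwj_pair, pair_smul_left, ← pair_smul_right, ← pair_add_right, one_mul]
    obtain ⟨s, hs1, hs2⟩ := hrad e (hA.self e) R 0 hRX hRv
    set δ := s f - f
    have hδ : ω δ e = 0 := by
      by_contra hne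
      have h0 : ∀ u : (Rest j → γ) → F, cwj ω j e (pair j u δ) = 0 := fun u => by
        refine (hperp _).mp ?_
        rw [hs2, zero_smul, zero_add, cwj_pair, hA.self, zero_smul]
      obtain ⟨p⟩ : Nonempty γ := not_isEmpty_iff.mp fun h => he (funext fun q => isEmptyElim q)
      have hu₀ := pt_ne_zero (x := fun _ : Rest j => (Pi.single p 1 : γ → F)) fun _ => by simp
      have := h0 (pt fun _ => Pi.single p 1)
      rw [cwj_pair, smul_eq_zero] at this
      exact this.elim hne hu₀
    obtain ⟨p⟩ : Nonempty γ := not_isEmpty_iff.mp fun h => he (funext fun q => isEmptyElim q)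
    set u₀ : (Rest j → γ) → F := pt fun _ => Pi.single p 1 with hu₀
    have hu₀0 : u₀ ≠ 0 := pt_ne_zero fun _ => by simp
    have hδe : ∀ u, G *ᵥ pair j u δ = pair j (cwj ω j e (G *ᵥ pair j u f)) e := fun u => by
      rw [hs2, zero_smul, zero_add]
    have hA'' : ∀ u, cwj ω j e (G *ᵥ pair j u f) = 0 → u = 0 := fun u h => by
      have := (hperp _).mp h
      rwa [cwj_pair, hf, one_smul] at this
    obtain ⟨τ, hτ⟩ : ∃ τ : F, δ = τ • e := by
      obtain ⟨c, hc⟩ := hfix.bij.2 (cwj ω j e (G *ᵥ pair j u₀ f))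
      have h1 : pair j u₀ δ = pair j c e := by
        refine Matrix.mulVec_injective_of_isUnit g.isUnit ?_
        show G *ᵥ pair j u₀ δ = G *ᵥ pair j c e
        rw [hδe, hG, hfix.map, hc]
      have h0 : δ ≠ 0 := fun h0 => by
        have := hδe u₀
        rw [h0, show pair j u₀ (0 : γ → F) = 0 from map_zero (pairR j u₀), mulVec_zero] at this
        exact hu₀0 (hA'' _ (pairL_injective j he (this.symm.trans (map_zero (pairL j e)).symm)))
      exact lay_inj he h0 (pairR_ne_zero hu₀0 h0) (h1 ▸ pair_mem_lay _ _ _) (pair_mem_lay _ _ _)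
    have hβ : ∀ u, cwj ω j e (G *ᵥ pair j u f) = τ • A u := fun u => pairL_injective j he (by
      show pair j _ e = pair j (τ • A u) e
      rw [← hδe, hτ, pair_smul_right, mulVec_smul, hG, hfix.map, pair_smul_left])
    refine ⟨τ, ?_, fun u z => ?_, fun u v => ?_⟩
    · rintro rfl
      exact hu₀0 (hA'' _ (by rw [hβ, zero_smul]))
    · have h1 : cwj ω j e (G *ᵥ pair j u (z - ω z e • f)) = 0 := (hperp _).mpr (by
        rw [cwj_pair, map_sub, LinearMap.sub_apply, map_smul, LinearMap.smul_apply, hf, smul_eq_mul, mul_one, sub_self,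
          zero_smul])
      rw [show pair j u (z - ω z e • f) = pair j u z - ω z e • pair j u f by
        rw [← pair_smul_right]; exact map_sub (pairR j u) _ _, mulVec_sub, mulVec_smul, map_sub, map_smul, hβ,
        sub_eq_zero] at h1
      rw [h1, smul_smul]
    · have := hBi (pair j u f) v
      rw [hβ, cwj_pair, hf, one_smul, map_smul, LinearMap.smul_apply, smul_eq_mul] at this
      exact this
  · intro z hz w hw
    obtain ⟨R, hRX, hRv⟩ := radW hA hX hw
    obtain ⟨s, hs1, hs2⟩ := hrad w hw R 1 hRX fun v => by rw [one_smul, hRv]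
    obtain ⟨σ, hσ⟩ := hs1 z hz
    refine ⟨σ, fun u => pairL_injective j he ?_⟩
    show pair j _ e = pair j (σ • A u) e
    have := hs2 u z
    rw [one_smul, (hperp _).mpr (by rw [cwj_pair, hz, zero_smul]), show pair j (0 : (Rest j → γ) → F) w = 0 from
      map_zero (pairL j w), add_zero, hσ, pair_smul_right, mulVec_smul, hG, hfix.map] at this
    rw [← this, pair_smul_left]

theorem inX_transitive (hA : Alt ω) (hX : XJ ω B X j) {e e' : γ → F} (he : e ≠ 0) (he' : e' ≠ 0) :
    ∃ b, InX X j b ∧ b e = e' ∧ ∀ x y, ω (b x) (b y) = ω x y := by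
  refine hA.transitive (P := fun v => ∃ b, InX X j b ∧ b e = v ∧ ∀ x y, ω (b x) (b y) = ω x y)
    (fun d t x hx => ?_) he he' ⟨_, InX.one X j, rfl, fun _ _ => rfl⟩
  obtain ⟨b, hb, hbe, hbi⟩ := hx
  refine ⟨_, (hX.transv d t).comp hb, by rw [LinearMap.comp_apply, hbe, TensorQ.transv_apply], fun y z => ?_⟩
  simp only [LinearMap.comp_apply, TensorQ.transv_apply, map_add, LinearMap.add_apply, map_smul, LinearMap.smul_apply,
    smul_eq_mul, hA.self, hA.skew (b z) d, hbi]
  ring

/-- If the radical elements of the factor `j` are scalar, the stabiliser of a layer splits. -/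
theorem split_of_radScalar (T : TP ω B) (hk : 4 ≤ Fintype.card γ ∨ Fintype.card γ = 2 ∧ ∃ s : F, s ≠ 0 ∧ s * s ≠ 1)
    (hX : XJ ω B X j) (hR : RadScalar ω X j) {e : γ → F} (he : e ≠ 0) {g : GL (ι → γ) F} (hg : g ∈ X)
    (hstab : ∀ v ∈ lay j e, (g : Matrix (ι → γ) (ι → γ) F) *ᵥ v ∈ lay j e) :
    ∃ (a : ((Rest j → γ) → F) →ₗ[F] ((Rest j → γ) → F)) (b : (γ → F) →ₗ[F] (γ → F)),
      ∀ u w, (g : Matrix (ι → γ) (ι → γ) F) *ᵥ pair j u w = pair j (a u) (b w) := by
  classical
  have hA := T.alt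
  obtain ⟨p⟩ : Nonempty γ := not_isEmpty_iff.mp fun h => he (funext fun q => isEmptyElim q)
  haveI : Nonempty γ := ⟨p⟩
  obtain ⟨B₁, R₁⟩ := exists_rest1 T j
  obtain ⟨A, hfix⟩ := exists_fixes (ω := ω) hA he hstab
  obtain ⟨hperp, ⟨β, hβ0, hβ, hsim⟩, hc⟩ := stab_first hA R₁ hX hR he hg hfix
  set G := (g : Matrix (ι → γ) (ι → γ) F) with hG
  set u₀ : (Rest j → γ) → F := pt fun _ => Pi.single p 1
  have hu₀ : u₀ ≠ 0 := pt_ne_zero fun _ => by simp
  have hAu₀ : A u₀ ≠ 0 := fun h => hu₀ (hfix.bij.1 (h.trans (map_zero A).symm))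
  obtain ⟨f, hf⟩ := hA.exists_one he
  -- reduce to the pure shape of every image
  suffices hpure : ∀ z, ∀ w, ∃ c : F, ∀ u, cwj ω j w (G *ᵥ pair j u z) = c • A u by
    choose η hη using fun z => exists_pure_of_contract hA ⟨u₀, hAu₀⟩
      (L := G.mulVecLin.comp (pairL j z)) (hpure z)
    have hη' : ∀ u z, G *ᵥ pair j u z = pair j (A u) (η z) := fun u z => hη z u
    have hcan : ∀ x y, pair j (A u₀) x = pair j (A u₀) y → x = y := fun x y h => by
      obtain ⟨b, hb⟩ := Function.ne_iff.mp hAu₀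
      funext q
      have := congrFun h (ext j b q)
      rw [pair_ext, pair_ext] at this
      exact mul_left_cancel₀ hb this
    exact ⟨A, { toFun := η
                map_add' := fun x y => hcan _ _ (by rw [← hη', pair_add_right, mulVec_add, hη', hη', pair_add_right])
                map_smul' := fun c x => hcan _ _ (by
                  rw [← hη', pair_smul_right, mulVec_smul, hη', RingHom.id_apply, pair_smul_right]) }, hη'⟩
  -- the set of vectors with pure image
  let Z : Submodule F (γ → F) :=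
    { carrier := {z | ∀ w, ∃ c : F, ∀ u, cwj ω j w (G *ᵥ pair j u z) = c • A u}
      zero_mem' := fun w => ⟨0, fun u => by
        rw [show pair j u (0 : γ → F) = 0 from map_zero (pairR j u), mulVec_zero, map_zero, zero_smul]⟩
      add_mem' := fun {x y} hx hy w => by
        obtain ⟨a, ha⟩ := hx w
        obtain ⟨b, hb⟩ := hy w
        exact ⟨a + b, fun u => by rw [pair_add_right, mulVec_add, map_add, ha, hb, add_smul]⟩
      smul_mem' := fun r x hx w => by
        obtain ⟨a, ha⟩ := hx w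
        exact ⟨r * a, fun u => by rw [pair_smul_right, mulVec_smul, map_smul, ha, smul_smul]⟩ }
  suffices hZ : ∀ z, z ∈ Z from hZ
  have heZ : e ∈ Z := fun w => ⟨ω e w, fun u => by rw [hG, hfix.map, cwj_pair]⟩
  rcases hk with h4 | ⟨h2, s, hs0, hs1⟩
  · -- contractions in the middle of the image of `f`
    have hδ : ∀ w, ω e w = 0 → ∃ δ, ω δ e = 0 ∧ ∀ u,
        G *ᵥ pair j u δ = pair j (cwj ω j w (G *ᵥ pair j u f)) e + pair j (β • A u) w := by
      intro w hw
      obtain ⟨R, hRX, hRv⟩ := radW hA hX hw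
      have hfixinv : ∀ u, ((g⁻¹ : GL (ι → γ) F) : Matrix (ι → γ) (ι → γ) F) *ᵥ pair j (A u) e = pair j u e :=
        fun u => by rw [← hfix.map, mulVec_inv_self]
      have hk1 : ∀ u, ((g⁻¹ * R * g : GL (ι → γ) F) : Matrix (ι → γ) (ι → γ) F) *ᵥ pair j u e = pair j u e := fun u => by
        rw [Units.val_mul, Units.val_mul, ← mulVec_mulVec, ← mulVec_mulVec, hfix.map, hRv, cwj_pair, cwj_pair, hA.self,
          hw, zero_smul, show pair j (0 : (Rest j → γ) → F) e = 0 from map_zero (pairL j e),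
          show pair j (0 : (Rest j → γ) → F) w = 0 from map_zero (pairL j w), add_zero, add_zero, hfixinv]
      have hk2 : ∀ v, cwj ω j e v = 0 → ∃ c,
          ((g⁻¹ * R * g : GL (ι → γ) F) : Matrix (ι → γ) (ι → γ) F) *ᵥ v = v + pair j c e := fun v hv => by
        obtain ⟨c, hc⟩ := hfix.bij.2 (cwj ω j w (G *ᵥ v))
        exact ⟨c, by rw [Units.val_mul, Units.val_mul, ← mulVec_mulVec, ← mulVec_mulVec, hRv, (hperp v).mpr hv,
          show pair j (0 : (Rest j → γ) → F) w = 0 from map_zero (pairL j w), add_zero, mulVec_add,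
          mulVec_inv_self, ← hc, hfixinv]⟩
      obtain ⟨s, hs⟩ := hR e he _ (mul_mem (mul_mem (inv_mem hg) hRX) hg) hk1 hk2
      have hd : ∀ u, G *ᵥ pair j u (s f - f) = pair j (cwj ω j w (G *ᵥ pair j u f)) e + pair j (β • A u) w := fun u => by
        have h2 := congrArg (fun v => G *ᵥ v) (hs u f)
        simp only [hG, Units.val_mul, ← mulVec_mulVec, mulVec_self_inv] at h2
        rw [hRv, hβ, hf, one_mul] at h2
        rw [show pair j u (s f - f) = pair j u (s f) - pair j u f from map_sub (pairR j u) _ _, mulVec_sub, ← h2,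
          add_assoc, add_sub_cancel_left]
      refine ⟨s f - f, ?_, hd⟩
      have := hβ u₀ (s f - f)
      rw [hd, map_add, cwj_pair, cwj_pair, hA.self, hA.swap hw, zero_smul, zero_smul, add_zero, eq_comm,
        smul_eq_zero] at this
      exact (mul_eq_zero.mp (this.resolve_right hAu₀)).resolve_right hβ0
    -- those contractions are scalar
    have hY : ∀ w, ω e w = 0 → ∃ c : F, ∀ u, cwj ω j w (G *ᵥ pair j u f) = c • A u := by
      intro d hd
      by_cases hde : ∃ c : F, d = c • e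
      · obtain ⟨c, rfl⟩ := hde
        exact ⟨c * β, fun u => by rw [cwj_smul, hβ, hf, one_mul, smul_smul]⟩
      push Not at hde
      obtain ⟨d', hd', hdd'⟩ : ∃ d', ω e d' = 0 ∧ ω d d' ≠ 0 := by
        by_contra hh
        push Not at hh
        obtain ⟨c, hc⟩ := hA.mem_line he hh
        exact hde c hc
      obtain ⟨δ, hδe, hδ'⟩ := hδ d hd
      -- the contraction against `d` in the middle
      have hσ : ∀ z, ω z e = 0 → ∀ u, cwj ω j d (G *ᵥ pair j u z) = ω z δ • A u := by
        intro z hz u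
        refine sub_eq_zero.mp (R₁.nd _ fun v => ?_)
        obtain ⟨v', rfl⟩ := hfix.bij.2 v
        have h1 := hX.iso g hg (pair j u z) (pair j v' δ)
        rw [hδ', map_add, R₁.contract, R₁.contract, hβ, hz, zero_mul, zero_smul, map_zero, LinearMap.zero_apply,
          zero_add, R₁.pair, map_smul, smul_eq_mul] at h1
        rw [map_sub, LinearMap.sub_apply, map_smul, LinearMap.smul_apply, smul_eq_mul, sub_eq_zero]
        exact mul_left_cancel₀ hβ0 (by rw [h1, mul_left_comm, hsim, mul_comm])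
      obtain ⟨h, hhX, hht⟩ := hX.tr d 1
      obtain ⟨t, htX, htt⟩ := hX.tr δ (-β⁻¹)
      have hhv : ∀ v, (h : Matrix (ι → γ) (ι → γ) F) *ᵥ v = v + pair j (cwj ω j d v) d := fun v => by
        refine DFunLike.congr_fun (ext_pair j (L := (h : Matrix (ι → γ) (ι → γ) F).mulVecLin)
          (L' := LinearMap.id + (pairL j d).comp (cwj ω j d)) fun u z => ?_) v
        show _ *ᵥ pair j u z = pair j u z + pair j (cwj ω j d (pair j u z)) d
        rw [hht, cwj_pair, pair_smul_left, ← pair_smul_right, ← pair_add_right, one_mul]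
      have hfixinv : ∀ u, ((g⁻¹ : GL (ι → γ) F) : Matrix (ι → γ) (ι → γ) F) *ᵥ pair j (A u) e = pair j u e :=
        fun u => by rw [← hfix.map, mulVec_inv_self]
      have hk1 : ∀ u, ((t * (g⁻¹ * h * g) : GL (ι → γ) F) : Matrix (ι → γ) (ι → γ) F) *ᵥ pair j u e = pair j u e :=
        fun u => by
          rw [Units.val_mul, Units.val_mul, Units.val_mul, ← mulVec_mulVec, ← mulVec_mulVec, ← mulVec_mulVec,
            hfix.map, hhv, cwj_pair, hd, zero_smul,
            show pair j (0 : (Rest j → γ) → F) d = 0 from map_zero (pairL j d), add_zero, hfixinv, htt,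
            hA.swap hδe, mul_zero, zero_smul, add_zero]
      have hginvd : ∀ u, ∃ c, ((g⁻¹ : GL (ι → γ) F) : Matrix (ι → γ) (ι → γ) F) *ᵥ pair j (A u) d =
          pair j (β⁻¹ • u) δ + pair j c e := fun u => by
        obtain ⟨c, hc⟩ := hfix.bij.2 (cwj ω j d (G *ᵥ pair j (β⁻¹ • u) f))
        refine ⟨-c, ?_⟩
        have h1 : G *ᵥ (pair j (β⁻¹ • u) δ + pair j (-c) e) = pair j (A u) d := by
          rw [mulVec_add, hδ', hG, hfix.map, map_neg, hc, map_smul, smul_smul, mul_inv_cancel₀ hβ0, one_smul,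
            show pair j (-cwj ω j d (G *ᵥ pair j (β⁻¹ • u) f)) e = -pair j (cwj ω j d (G *ᵥ pair j (β⁻¹ • u) f)) e from
              map_neg (pairL j e) _]
          abel
        rw [← h1, hG, mulVec_inv_self]
      have hmid : ∀ u z, ω z e = 0 → ∃ c, ((t * (g⁻¹ * h * g) : GL (ι → γ) F) : Matrix (ι → γ) (ι → γ) F) *ᵥ
          pair j u z = pair j u z + pair j c e := by
        intro u z hz
        obtain ⟨c, hc⟩ := hginvd u
        refine ⟨ω z δ • c, ?_⟩
        rw [Units.val_mul, Units.val_mul, Units.val_mul, ← mulVec_mulVec, ← mulVec_mulVec, ← mulVec_mulVec, hhv,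
          hσ z hz, mulVec_add, mulVec_inv_self, pair_smul_left, mulVec_smul, hc, mulVec_add, mulVec_smul, mulVec_add,
          htt, htt, htt, hA.self, hA.swap hδe, pair_add_right, pair_smul_right, pair_smul_left]
        simp only [mul_zero, zero_smul, add_zero, pair_smul_left, smul_add, smul_smul]
        module
      have hk2 : ∀ v, cwj ω j e v = 0 → ∃ c,
          ((t * (g⁻¹ * h * g) : GL (ι → γ) F) : Matrix (ι → γ) (ι → γ) F) *ᵥ v = v + pair j c e := by
        intro v hv
        have hrow : ∀ b : Rest j → γ, ω (fun q => v (ext j b q)) e = 0 := fun b => congrFun hv b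
        have hv' : v = ∑ b : Rest j → γ, pair j (Pi.single b 1) (fun q => v (ext j b q)) := by
          funext a
          rw [Finset.sum_apply, Finset.sum_eq_single (fun i : Rest j => a i) (fun b _ hb => by
            rw [pair_apply, Pi.single_eq_of_ne (Ne.symm hb), zero_mul]) (fun h => absurd (mem_univ _) h),
            pair_apply, Pi.single_eq_same, one_mul, show ext j (fun i : Rest j => a i) (a j) = a from funext fun i => by
              by_cases hi : i = j
              · subst hi; exact ext_self _ _ _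
              · exact dif_neg hi]
        choose c hc using fun b => hmid (Pi.single b 1) _ (hrow b)
        refine ⟨∑ b, c b, ?_⟩
        conv_lhs => rw [hv']
        rw [mulVec_sum, Finset.sum_congr rfl fun b _ => hc b, Finset.sum_add_distrib, ← hv',
          show pair j (∑ b, c b) e = ∑ b, pair j (c b) e from map_sum (pairL j e) c univ]
      obtain ⟨s, hs⟩ := hR e he _ (mul_mem htX (mul_mem (mul_mem (inv_mem hg) hhX) hg)) hk1 hk2
      obtain ⟨t', ht'X, ht't⟩ := hX.tr δ β⁻¹
      have ht' : ∀ u z, (t : Matrix (ι → γ) (ι → γ) F) *ᵥ pair j u (z + (β⁻¹ * ω z δ) • δ) = pair j u z := fun u z => by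
        rw [htt]
        congr 1
        simp only [map_add, LinearMap.add_apply, map_smul, LinearMap.smul_apply, smul_eq_mul, hA.self]
        module
      set b := s f + (β⁻¹ * ω (s f) δ) • δ with hb
      have hmain : ∀ u, G *ᵥ pair j u f + pair j (cwj ω j d (G *ᵥ pair j u f)) d = G *ᵥ pair j u b := fun u => by
        have h1 : ((g⁻¹ * h * g : GL (ι → γ) F) : Matrix (ι → γ) (ι → γ) F) *ᵥ pair j u f = pair j u b := by
          refine Matrix.mulVec_injective_of_isUnit t.isUnit ?_
          show (t : Matrix (ι → γ) (ι → γ) F) *ᵥ _ = (t : Matrix (ι → γ) (ι → γ) F) *ᵥ _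
          rw [hb, ht', mulVec_mulVec, ← Units.val_mul, hs]
        rw [Units.val_mul, Units.val_mul, ← mulVec_mulVec, ← mulVec_mulVec, hhv] at h1
        rw [← h1, hG, mulVec_self_inv]
      have hbe : ω (b - f) e = 0 := by
        have h1 := congrArg (cwj ω j e) (hmain u₀)
        rw [map_add, cwj_pair, hA.swap hd, zero_smul, add_zero, hβ, hβ, hf, one_mul] at h1
        have := smul_left_injective F hAu₀ h1
        rw [map_sub, LinearMap.sub_apply, hf, sub_eq_zero]
        exact mul_right_cancel₀ hβ0 (by rw [one_mul]; exact this.symm)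
      obtain ⟨σ, hσ'⟩ := hc _ hbe d' hd'
      refine ⟨σ / ω d d', fun u => ?_⟩
      have h1 := congrArg (cwj ω j d') (hmain u)
      rw [map_add, cwj_pair] at h1
      have h2 := hσ' u
      rw [show pair j u (b - f) = pair j u b - pair j u f from map_sub (pairR j u) _ _, mulVec_sub, map_sub, ← h1,
        add_sub_cancel_left] at h2
      rw [div_eq_inv_mul, mul_smul, ← h2, smul_smul, inv_mul_cancel₀ hdd', one_smul]
    obtain ⟨w₀', w₁', hw₀', hw₁', hw₀₁'⟩ := hA.exists_pair_perp ![e] (by omega)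
    have hw₀'e : ω w₀' e = 0 := hA.swap (hw₀' 0)
    -- middle vectors with pure image
    have hlay : ∀ w, ω e w = 0 → (∀ c : F, w ≠ c • e) → ∃ δ w', ω δ e = 0 ∧ (∀ c : F, δ ≠ c • e) ∧
        (∀ c : F, w' ≠ c • e) ∧ (∀ u, G *ᵥ pair j u δ = pair j (A u) w') ∧ ω w₀' w' = β * ω w₀' w := by
      intro w hw hwe
      obtain ⟨δ, hδe, hδ'⟩ := hδ w hw
      obtain ⟨c, hc'⟩ := hY w hw
      have himg : ∀ u, G *ᵥ pair j u δ = pair j (A u) (c • e + β • w) := fun u => by
        rw [hδ', hc', pair_add_right, pair_smul_right, pair_smul_right, pair_smul_left, pair_smul_left]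
      have hne : ∀ a : F, c • e + β • w ≠ a • e := fun a ha => hwe (β⁻¹ * (a - c)) (by
        rw [mul_smul, sub_smul, ← ha, add_sub_cancel_left, smul_smul, inv_mul_cancel₀ hβ0, one_smul])
      refine ⟨δ, _, hδe, fun a ha => hne a ?_, hne, himg, by
        rw [map_add, map_smul, map_smul, hw₀'e, smul_zero, zero_add, smul_eq_mul]⟩
      have := himg u₀
      rw [ha, pair_smul_right, mulVec_smul, hG, hfix.map, ← pair_smul_right] at this
      obtain ⟨b, hb⟩ := Function.ne_iff.mp hAu₀
      funext q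
      have h2 := congrFun this (ext j b q)
      rw [pair_ext, pair_ext] at h2
      exact (mul_left_cancel₀ hb h2).symm
    -- moving the base
    have hbase : ∀ δ w', ω δ e = 0 → (∀ c : F, δ ≠ c • e) → (∀ c : F, w' ≠ c • e) →
        (∀ u, G *ᵥ pair j u δ = pair j (A u) w') → ∀ z, ω z δ = 0 → z ∈ Z := by
      intro δ w' hδe hδne hw'ne himg z hz
      have hδ0 : δ ≠ 0 := fun h => hδne 0 (by rw [h, zero_smul])
      have hw'0 : w' ≠ 0 := fun h => hw'ne 0 (by rw [h, zero_smul])
      obtain ⟨b, ⟨τ, hτX, hτ⟩, hbw, hbi⟩ := inX_transitive hA hX hw'0 hδ0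
      have hfix2 : Fixes ω j δ A (τ * g) := ⟨fun u => by
        rw [Units.val_mul, ← mulVec_mulVec, himg, hτ, hbw], hfix.bij⟩
      obtain ⟨-, -, hc2⟩ := stab_first hA R₁ hX hR hδ0 (mul_mem hτX hg) hfix2
      have hcw : ∀ w v, cwj ω j (b w) ((τ : Matrix (ι → γ) (ι → γ) F) *ᵥ v) = cwj ω j w v := fun w v =>
        DFunLike.congr_fun (ext_pair j (L := (cwj ω j (b w)).comp (τ : Matrix (ι → γ) (ι → γ) F).mulVecLin)
          (L' := cwj ω j w) fun u x => by
            rw [LinearMap.comp_apply, Matrix.mulVecLin_apply, hτ, cwj_pair, cwj_pair, hbi]) v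
      intro w
      -- split `w` into a part orthogonal to `e` and a part orthogonal to `w'`
      obtain ⟨x, hxe, hxw'⟩ : ∃ x, ω e x = 0 ∧ ω w' x = ω w' w := by
        obtain ⟨x, hx, hx'⟩ : ∃ x, ω e x = 0 ∧ ω w' x ≠ 0 := by
          by_contra hh
          push Not at hh
          obtain ⟨c, hc⟩ := hA.mem_line he hh
          exact hw'ne c hc
        exact ⟨(ω w' w / ω w' x) • x, by rw [map_smul, hx, smul_zero],
          by rw [map_smul, smul_eq_mul, div_mul_cancel₀ _ hx']⟩
      obtain ⟨c₂, hc₂⟩ := hc2 z hz (b (w - x)) (by rw [← hbw, hbi, map_sub, hxw', sub_self])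
      have h1 : ∃ c : F, ∀ u, cwj ω j x (G *ᵥ pair j u z) = c • A u := by
        obtain ⟨a, ha⟩ := hY x hxe
        obtain ⟨σ, hσ⟩ := hc (z - ω z e • f)
          (by rw [map_sub, LinearMap.sub_apply, map_smul, LinearMap.smul_apply, hf, smul_eq_mul, mul_one, sub_self]) x hxe
        refine ⟨σ + ω z e * a, fun u => ?_⟩
        have := hσ u
        rw [show pair j u (z - ω z e • f) = pair j u z - ω z e • pair j u f by
          rw [← pair_smul_right]; exact map_sub (pairR j u) _ _, mulVec_sub, mulVec_smul, map_sub, map_smul, ha,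
          sub_eq_iff_eq_add] at this
        rw [this, smul_smul, ← add_smul]
      obtain ⟨c₁, hc₁⟩ := h1
      refine ⟨c₁ + c₂, fun u => ?_⟩
      have := hc₂ u
      rw [Units.val_mul, ← mulVec_mulVec, hcw] at this
      rw [show w = x + (w - x) by rw [add_sub_cancel], cwj_add, hc₁, this, add_smul]
    rename' w₀' => w₀, w₁' => w₁, hw₀' => hw₀, hw₁' => hw₁, hw₀₁' => hw₀₁, hw₀'e => hw₀e
    have hne : ∀ w v, ω e v = 0 → ω w v ≠ 0 → ∀ c : F, w ≠ c • e := fun w v hv h c hc => h (by
      rw [hc, map_smul, LinearMap.smul_apply, hv, smul_zero])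
    have hw₁₀ : ω w₁ w₀ ≠ 0 := by rw [hA.skew, hw₀₁]; exact neg_ne_zero.mpr one_ne_zero
    obtain ⟨δ₀, p₀, a₀, b₀, c₀, d₀, e₀⟩ := hlay w₀ (hw₀ 0) (hne _ _ (hw₁ 0) (by rw [hw₀₁]; exact one_ne_zero))
    obtain ⟨δ₁, p₁, a₁, b₁, c₁, d₁, e₁⟩ := hlay w₁ (hw₁ 0) (hne _ _ (hw₀ 0) hw₁₀)
    -- the two base vectors are independent
    by_cases hind : ∀ a b : F, δ₁ ≠ a • δ₀ + b • e
    · intro z
      obtain ⟨y, hy₀, hy₁⟩ : ∃ y, ω y δ₀ = 0 ∧ ω y δ₁ ≠ 0 := by
        by_contra hh
        push Not at hh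
        obtain ⟨c, hc⟩ := hA.mem_line (z := δ₁) (fun h => b₀ 0 (by rw [h, zero_smul])) fun w hw =>
          hA.swap (hh w (hA.swap hw))
        exact hind c 0 (by rw [hc, zero_smul, add_zero])
      have e1 : z - (ω z δ₁ / ω y δ₁) • y ∈ Z := hbase δ₁ p₁ a₁ b₁ c₁ d₁ _ (by
        rw [map_sub, LinearMap.sub_apply, map_smul, LinearMap.smul_apply, smul_eq_mul, div_mul_cancel₀ _ hy₁, sub_self])
      have e2 : y ∈ Z := hbase δ₀ p₀ a₀ b₀ c₀ d₀ _ hy₀
      have := Z.add_mem e1 (Z.smul_mem (ω z δ₁ / ω y δ₁) e2)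
      rwa [sub_add_cancel] at this
    · exfalso
      push Not at hind
      obtain ⟨a, b, hab⟩ := hind
      -- images would be dependent modulo `e`
      have himg : pair j (A u₀) p₁ = pair j (A u₀) (a • p₀ + b • e) := by
        rw [← d₁, hab, pair_add_right, pair_add_right, mulVec_add, pair_smul_right, pair_smul_right, pair_smul_right,
          pair_smul_right, mulVec_smul, mulVec_smul, d₀, hG, hfix.map]
      obtain ⟨q, hq⟩ := Function.ne_iff.mp hAu₀
      have hp : p₁ = a • p₀ + b • e := funext fun r => by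
        have h2 := congrFun himg (ext j q r)
        rw [pair_ext, pair_ext] at h2
        exact mul_left_cancel₀ hq h2
      rw [hp, map_add, map_smul, map_smul, e₀, hA.self, hw₀e, hw₀₁, mul_zero, smul_zero, smul_zero, add_zero,
        mul_one] at e₁
      exact hβ0 e₁.symm
  · -- two-dimensional factors
    have hef : ω e f = -1 := by rw [hA.skew f e, hf]
    have hspan : ∀ z, ∃ a b : F, z = a • e + b • f := by
      intro z
      have hind : LinearIndependent F ![e, f] := by
        rw [LinearIndependent.pair_iff' he]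
        intro a ha
        rw [← ha, map_smul, LinearMap.smul_apply, hA.self, smul_zero] at hf
        exact zero_ne_one hf
      have htop := hind.span_eq_top_of_card_eq_finrank (by rw [Fintype.card_fin, Module.finrank_pi, h2])
      have hz : z ∈ Submodule.span F (Set.range ![e, f]) := htop ▸ Submodule.mem_top
      rw [Matrix.range_cons_cons_empty, Submodule.mem_span_pair] at hz
      obtain ⟨a, b, hab⟩ := hz
      exact ⟨a, b, hab.symm⟩
    have hcol : ∀ v, cwj ω j e v = 0 → v = pair j (-cwj ω j f v) e := fun v hv => ext_cwj hA (j := j) fun z => by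
      obtain ⟨a, b, rfl⟩ := hspan z
      rw [cwj_add, cwj_smul, cwj_smul, hv, smul_zero, zero_add, cwj_pair, map_add, map_smul, map_smul, hA.self, hef]
      simp
    -- the torus
    obtain ⟨T₀, hT, hTe, hTf⟩ : ∃ b, InX X j b ∧ b e = s • e ∧ b f = s⁻¹ • f := by
      let W : F → (γ → F) →ₗ[F] (γ → F) := fun l =>
        (TensorQ.transv ω e l).comp ((TensorQ.transv ω f l⁻¹).comp (TensorQ.transv ω e l))
      have hW : ∀ l : F, l ≠ 0 → W l e = (-l⁻¹) • f ∧ W l f = l • e := by
        intro l hl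
        constructor <;>
        · simp only [W, LinearMap.comp_apply, TensorQ.transv_apply, map_add, map_smul, LinearMap.add_apply,
            LinearMap.smul_apply, smul_eq_mul, hA.self, hf, hef, mul_zero, zero_smul, add_zero, mul_one]
          match_scalars <;> field_simp <;> ring
      have hWX : ∀ l, InX X j (W l) := fun l => (hX.transv e l).comp ((hX.transv f l⁻¹).comp (hX.transv e l))
      refine ⟨(W (-s)).comp (W 1), (hWX _).comp (hWX _), ?_, ?_⟩
      · rw [LinearMap.comp_apply, (hW 1 one_ne_zero).1, map_smul, (hW (-s) (neg_ne_zero.mpr hs0)).2, smul_smul]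
        simp
      · rw [LinearMap.comp_apply, (hW 1 one_ne_zero).2, one_smul, (hW (-s) (neg_ne_zero.mpr hs0)).1]
        simp
    obtain ⟨h, hhX, hh⟩ := hT
    have hh1 : ∀ u, ((h⁻¹ : GL (ι → γ) F) : Matrix (ι → γ) (ι → γ) F) *ᵥ pair j u e = pair j (s⁻¹ • u) e := fun u => by
      rw [← mulVec_inv_self h (pair j (s⁻¹ • u) e), hh, hTe, pair_smul_right, pair_smul_left, smul_smul,
        mul_inv_cancel₀ hs0, one_smul]
    have hh2 : ((h⁻¹ : GL (ι → γ) F) : Matrix (ι → γ) (ι → γ) F) *ᵥ pair j u₀ f = pair j u₀ (s • f) := by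
      rw [← mulVec_inv_self h (pair j u₀ (s • f)), hh, map_smul, hTf, smul_smul, mul_inv_cancel₀ hs0, one_smul]
    have hh2' : ∀ u, ((h⁻¹ : GL (ι → γ) F) : Matrix (ι → γ) (ι → γ) F) *ᵥ pair j u f = pair j u (s • f) := fun u => by
      rw [← mulVec_inv_self h (pair j u (s • f)), hh, map_smul, hTf, smul_smul, mul_inv_cancel₀ hs0, one_smul]
    have hk1 : ∀ u, ((g⁻¹ * h * g * h⁻¹ : GL (ι → γ) F) : Matrix (ι → γ) (ι → γ) F) *ᵥ pair j u e = pair j u e :=
      fun u => by
        rw [Units.val_mul, Units.val_mul, Units.val_mul, ← mulVec_mulVec, ← mulVec_mulVec, ← mulVec_mulVec, hh1,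
          hfix.map, hh, hTe, map_smul, pair_smul_left, pair_smul_right, smul_smul, inv_mul_cancel₀ hs0, one_smul,
          ← hfix.map, mulVec_inv_self]
    obtain ⟨σ, hσ⟩ := hR e he _ (mul_mem (mul_mem (mul_mem (inv_mem hg) hhX) hg) (inv_mem hhX)) hk1 fun v hv => ⟨0, by
      conv_lhs => rw [hcol v hv]
      rw [hk1, ← hcol v hv, show pair j (0 : (Rest j → γ) → F) e = 0 from map_zero (pairL j e), add_zero]⟩
    obtain ⟨a, b, hab⟩ := hspan (σ f)
    have hGf : ∀ u, G *ᵥ pair j u f = pair j (β • A u) f + pair j (-cwj ω j f (G *ᵥ pair j u f)) e := fun u =>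
      ext_cwj hA (j := j) fun z => by
        obtain ⟨x, y, rfl⟩ := hspan z
        rw [cwj_add, cwj_smul, cwj_smul, hβ, hf, one_mul, map_add, cwj_pair, cwj_pair]
        simp only [map_add, map_smul, hf, hef, hA.self, smul_eq_mul]
        module
    have key : ∀ u, pair j (β • A u) f + pair j ((s * s) • -cwj ω j f (G *ᵥ pair j u f)) e =
        a • pair j (A u) e + b • G *ᵥ pair j u f := by
      intro u
      have h1 := congrArg (fun v => G *ᵥ v) (hσ u f)
      simp only [hG, Units.val_mul, ← mulVec_mulVec, mulVec_self_inv] at h1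
      rw [hh2' u, pair_smul_right, mulVec_smul, mulVec_smul, hGf u, mulVec_add, hh, hh, hTe, hTf, hab, pair_add_right,
        mulVec_add, pair_smul_right, pair_smul_right, pair_smul_right, pair_smul_right, mulVec_smul, mulVec_smul,
        hfix.map, smul_add, smul_smul, smul_smul, mul_inv_cancel₀ hs0, one_smul] at h1
      rw [← h1, pair_smul_left _ (s * s)]
    have hb1 : b = 1 := by
      have h1 := congrArg (cwj ω j e) (key u₀)
      rw [map_add, map_add, map_smul, map_smul, cwj_pair, cwj_pair, cwj_pair, hβ, hA.self, hf, one_smul, one_mul,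
        zero_smul, zero_smul, add_zero, smul_zero, zero_add, smul_smul] at h1
      exact mul_right_cancel₀ hβ0 (by rw [one_mul]; exact (smul_left_injective F hAu₀ h1).symm)
    have hfZ : f ∈ Z := by
      have hcf : ∀ u, cwj ω j f (G *ᵥ pair j u f) = (-a / (s * s - 1)) • A u := by
        intro u
        have h1 := congrArg (cwj ω j f) (key u)
        rw [map_add, map_add, map_smul, map_smul, cwj_pair, cwj_pair, cwj_pair, hA.self, hef, zero_smul, zero_add,
          hb1, one_smul] at h1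
        refine smul_right_injective _ (sub_ne_zero.mpr hs1) ?_
        simp only
        rw [smul_smul, mul_div_cancel₀ _ (sub_ne_zero.mpr hs1), sub_smul, one_smul]
        linear_combination (norm := module) h1
      intro w
      obtain ⟨x, y, rfl⟩ := hspan w
      exact ⟨x * β + y * (-a / (s * s - 1)), fun u => by
        rw [cwj_add, cwj_smul, cwj_smul, hβ, hf, one_mul, hcf, smul_smul, smul_smul, ← add_smul]⟩
    intro z
    obtain ⟨x, y, rfl⟩ := hspan z
    exact Z.add_mem (Z.smul_mem x heZ) (Z.smul_mem y hfZ)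

end Cfsg.Lib.Classical.TensorPow
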