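import Cfsg.Agent.Classical.TensorPow.Big

/-! Factors of dimension two: beyond the scalars every self-adjoint endomorphism is central in the radical. -/

set_option autoImplicit false
set_option linter.unusedSectionVars false
set_option linter.unusedSimpArgs false

namespace Cfsg.Lib.Classical.TensorPow

open Matrix Finset
open Cfsg.Lib.Classical.TensorQ (Alt rk transv rk_apply transv_apply scalar_of_eigen)

universe u

section Slots

variable {κ γ : Type} [Fintype κ] [DecidableEq κ] [Fintype γ] [DecidableEq γ] {F : Type u} [Field F]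
  {ω : LinearMap.BilinForm F (γ → F)}

theorem kronOp_comp (a b : κ → (γ → F) →ₗ[F] (γ → F)) :
    (kronOp a).comp (kronOp b) = kronOp fun l => (a l).comp (b l) :=
  ext_pt fun x => by rw [LinearMap.comp_apply, kronOp_pt, kronOp_pt, kronOp_pt]; rfl

/-- `D ↦` the tensor product with `D` at the slot `l`, linearly. -/
def kronUpd (a : κ → (γ → F) →ₗ[F] (γ → F)) (l : κ) : ((γ → F) →ₗ[F] (γ → F)) →ₗ[F] EndP κ γ F where
  toFun D := kronOp (Function.update a l D)
  map_add' D D' := ext_pair l fun u w => by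
    rw [LinearMap.add_apply, kronOp_pair, kronOp_pair, kronOp_pair, Function.update_self, Function.update_self,
      Function.update_self, LinearMap.add_apply, pair_add_right]
    congr 2 <;> exact congrArg (fun f => kronOp f u) (funext fun i => by simp [i.2])
  map_smul' c D := ext_pair l fun u w => by
    rw [RingHom.id_apply, LinearMap.smul_apply, kronOp_pair, kronOp_pair, Function.update_self, Function.update_self,
      LinearMap.smul_apply, pair_smul_right]
    congr 2
    exact congrArg (fun f => kronOp f u) (funext fun i => by simp [i.2])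

theorem al_tens (i : κ) (C : EndP (Rest i) γ F) (D : (γ → F) →ₗ[F] (γ → F)) (d g : γ → F) :
    al ω i (tens i C D) d g = ω (D d) g • C :=
  LinearMap.ext fun u => by rw [al_apply, tens_pair, cwj_pair, LinearMap.smul_apply]

/-- The square-zero operator of a set of slots. -/
def Pset (ω : LinearMap.BilinForm F (γ → F)) (J : Finset κ) (d : κ → γ → F) : EndP κ γ F :=
  kronOp fun l => if l ∈ J then rk ω (d l) (d l) else LinearMap.id

theorem rk_self_comp (hA : Alt ω) (d : γ → F) : (rk ω d d).comp (rk ω d d) = 0 :=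
  LinearMap.ext fun x => by simp [rk_apply, hA.self]

theorem Pset_sq (hA : Alt ω) {J : Finset κ} {a : κ} (ha : a ∈ J) (d : κ → γ → F) :
    (Pset ω J d).comp (Pset ω J d) = 0 := by
  rw [Pset, kronOp_comp]
  refine ext_pt fun x => ?_
  rw [kronOp_pt, LinearMap.zero_apply]
  refine pt_eq_zero (i := a) ?_
  simp [ha, rk_self_comp hA]

theorem span_two (hA : Alt ω) (hk : Fintype.card γ = 2) {e f : γ → F} (hef : ω e f ≠ 0) (z : γ → F) :
    ∃ a b : F, z = a • e + b • f := by
  have he : e ≠ 0 := fun h => hef (by rw [h, map_zero, LinearMap.zero_apply])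
  have hind : LinearIndependent F ![e, f] := by
    rw [LinearIndependent.pair_iff' he]
    intro a ha
    exact hef (by rw [← ha, map_smul, hA.self, smul_zero])
  have htop := hind.span_eq_top_of_card_eq_finrank (by rw [Fintype.card_fin, Module.finrank_pi, hk])
  have hz : z ∈ Submodule.span F (Set.range ![e, f]) := htop ▸ Submodule.mem_top
  rw [Matrix.range_cons_cons_empty, Submodule.mem_span_pair] at hz
  obtain ⟨a, b, hab⟩ := hz
  exact ⟨a, b, hab.symm⟩

theorem anticomm (hA : Alt ω) (hk : Fintype.card γ = 2) {d g : γ → F} (h : ω d g = 1) :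
    (rk ω d d).comp (rk ω g g) + (rk ω g g).comp (rk ω d d) = -LinearMap.id :=
  LinearMap.ext fun z => by
    obtain ⟨a, b, rfl⟩ := span_two hA hk (by rw [h]; exact one_ne_zero) z
    simp [rk_apply, hA.self, h, hA.skew d g]
    abel

theorem rk_two (hA : Alt ω) (hk : Fintype.card γ = 2) (h2 : (2 : F) ≠ 0)
    (P : Submodule F ((γ → F) →ₗ[F] (γ → F))) (h1 : LinearMap.id ∈ P) (hd : ∀ d, rk ω d d ∈ P)
    (D : (γ → F) →ₗ[F] (γ → F)) : D ∈ P := by
  refine mem_of_rk hA (fun p q => rk_mem hA (fun p q hpq => ?_) p q) D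
  have := P.smul_mem (2 : F)⁻¹ (P.sub_mem (P.sub_mem (P.sub_mem (hd (p + q)) (hd p)) (hd q)) (P.smul_mem (ω p q) h1))
  rwa [show (2 : F)⁻¹ • (rk ω (p + q) (p + q) - rk ω p p - rk ω q q - ω p q • LinearMap.id) = rk ω p q from by
    rw [inv_smul_eq_iff₀ h2]
    refine LinearMap.ext fun z => ?_
    obtain ⟨a, b, rfl⟩ := span_two hA hk hpq z
    simp only [LinearMap.sub_apply, LinearMap.smul_apply, LinearMap.id_apply, rk_apply, map_add, map_smul,
      LinearMap.add_apply, LinearMap.smul_apply, smul_eq_mul, hA.self, hA.skew p q]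
    module] at this

/-- Either all self-coefficients vanish at a slot, or the endomorphism is trivial there. -/
theorem trivial_of_al (hA : Alt ω) (hk : Fintype.card γ = 2) (i : κ) (A : EndP κ γ F)
    (hal : ∀ d, al ω i A d d = 0) : ∃ C, A = tens i C LinearMap.id := by
  obtain ⟨p⟩ : Nonempty γ := Fintype.card_pos_iff.mp (by omega)
  have heig : ∀ u b, ∃ c : F, ∀ w q, A (pair i u w) (ext i b q) = c * w q := by
    intro u b
    obtain ⟨c, hc⟩ := scalar_of_eigen
      ((LinearMap.pi fun q => LinearMap.proj (ext i b q)).comp (A.comp (pairR i u))) fun d hd => by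
      obtain ⟨f, hf⟩ := hA.exists_one hd
      have hline : A (pair i u d) = pair i (-cwj ω i f (A (pair i u d))) d := ext_cwj hA (j := i) fun z => by
        obtain ⟨a, b, rfl⟩ := span_two hA hk (e := d) (f := f) (by
          rw [hA.skew f d, hf]; exact neg_ne_zero.mpr one_ne_zero) z
        have h0 := DFunLike.congr_fun (hal d) u
        rw [al_apply, LinearMap.zero_apply] at h0
        rw [cwj_add, cwj_smul, cwj_smul, h0, smul_zero, zero_add, cwj_pair, map_add, map_smul, map_smul, hA.self,
          hA.skew f d, hf]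
        simp
      refine ⟨(-cwj ω i f (A (pair i u d))) b, funext fun q => ?_⟩
      show A (pair i u d) (ext i b q) = (-cwj ω i f (A (pair i u d))) b * d q
      conv_lhs => rw [hline]
      rw [pair_ext]
    exact ⟨c, fun w q => congrFun (DFunLike.congr_fun hc w) q⟩
  refine ⟨(LinearMap.pi fun b => LinearMap.proj (ext i b p)).comp (A.comp (pairL i (Pi.single p 1))),
    ext_pair i fun u w => funext fun a => ?_⟩
  obtain ⟨c, hc⟩ := heig u (fun l => a l)
  have h1 := hc w (a i)
  rw [show ext i (fun l : Rest i => a l) (a i) = a from funext fun l => by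
    by_cases hl : l = i
    · subst hl; exact ext_self _ _ _
    · exact dif_neg hl] at h1
  rw [h1, tens_pair, pair_apply]
  show c * w (a i) = A (pair i u (Pi.single p 1)) (ext i (fun l : Rest i => a l) p) * w (a i)
  rw [hc, Pi.single_eq_same, mul_one]

theorem tens_Pset (i : κ) (J : Finset (Rest i)) (d : κ → γ → F) :
    tens i (Pset ω J fun l => d l) (rk ω (d i) (d i)) =
      Pset ω (insert i (J.map ⟨Subtype.val, Subtype.val_injective⟩)) d := by
  refine ext_pair i fun u w => ?_
  rw [tens_pair, Pset, Pset, kronOp_pair, if_pos (Finset.mem_insert_self _ _)]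
  congr 2
  refine congrArg kronOp (funext fun l => ?_)
  by_cases hl : l ∈ J
  · rw [if_pos hl, if_pos (show (l : κ) ∈ insert i (J.map ⟨Subtype.val, Subtype.val_injective⟩) from
      Finset.mem_insert_of_mem (Finset.mem_map.mpr ⟨l, hl, rfl⟩))]
  · rw [if_neg hl, if_neg fun h => hl ?_]
    rcases Finset.mem_insert.mp h with h | h
    · exact absurd h l.2
    · obtain ⟨m, hm, e⟩ := Finset.mem_map.mp h
      exact Subtype.ext e ▸ hm

/-- A non-zero invariant space contains the operators of some set of slots. -/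
theorem exists_Pset (hA : Alt ω) (hk : Fintype.card γ = 2) (h2 : (2 : F) ≠ 0) (M : Submodule F (EndP κ γ F))
    (hM : ∀ l d t, ∀ A ∈ M, cj ω l d t A ∈ M) {A : EndP κ γ F} (hAM : A ∈ M) (hA0 : A ≠ 0) :
    ∃ J : Finset κ, (∀ d, Pset ω J d ∈ M) ∧ (J = ∅ → ∃ c : F, A = c • LinearMap.id) := by
  classical
  haveI : Nonempty γ := Fintype.card_pos_iff.mp (by omega)
  suffices key : ∀ (n : ℕ) (κ' : Type) [Fintype κ'] [DecidableEq κ'], Fintype.card κ' = n →
      ∀ M' : Submodule F (EndP κ' γ F), (∀ l d t, ∀ A ∈ M', cj ω l d t A ∈ M') → ∀ A' ∈ M', A' ≠ 0 →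
      ∃ J : Finset κ', (∀ d, Pset ω J d ∈ M') ∧ (J = ∅ → ∃ c : F, A' = c • LinearMap.id) from
    key _ κ rfl M hM A hAM hA0
  intro n
  induction n using Nat.strong_induction_on with
  | _ n ih =>
    intro κ' _ _ hn M' hM' A' hA' hA'0
    by_cases hsc : ∃ c : F, A' = c • LinearMap.id
    · obtain ⟨c, rfl⟩ := hsc
      have hc : c ≠ 0 := fun h => hA'0 (by rw [h, zero_smul])
      refine ⟨∅, fun d => ?_, fun _ => ⟨c, rfl⟩⟩
      have := M'.smul_mem c⁻¹ hA'
      rw [smul_smul, inv_mul_cancel₀ hc, one_smul] at this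
      simpa [Pset, kronOp_id] using this
    obtain ⟨i, d₀, hd₀⟩ : ∃ i d, al ω i A' d d ≠ 0 := by
      by_contra hc
      push Not at hc
      exact hsc (scalar_of_slots hA fun i => trivial_of_al hA hk i A' (hc i))
    have hd₀0 : d₀ ≠ 0 := fun h0 => hd₀ (LinearMap.ext fun u => by
      rw [al_apply, h0, pair_zero_right, map_zero, map_zero, LinearMap.zero_apply])
    let M₁ : Submodule F (EndP (Rest i) γ F) := ⨅ d : γ → F, M'.comap (tensL i (rk ω d d))
    have hM₁ : ∀ C, C ∈ M₁ ↔ ∀ d, tens i C (rk ω d d) ∈ M' := fun C => Submodule.mem_iInf _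
    obtain ⟨J, hJ, -⟩ := ih (Fintype.card (Rest i)) (by
      rw [Fintype.card_subtype_compl, Fintype.card_subtype_eq, hn]
      have := Fintype.card_pos_iff.mpr (⟨i⟩ : Nonempty κ')
      omega) (Rest i) rfl M₁ (fun l d t C hC => (hM₁ _).mpr fun e => by
        have := hM' (l : κ') d t _ ((hM₁ C).mp hC e)
        rwa [tens_cj l.2] at this) (al ω i A' d₀ d₀)
      ((hM₁ _).mpr (tens_all hA hM' hd₀0 (root_coef hA h2 M' hM' hA' i d₀))) hd₀
    refine ⟨insert i (J.map ⟨Subtype.val, Subtype.val_injective⟩), fun d => ?_,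
      fun h => absurd h (Finset.insert_ne_empty _ _)⟩
    rw [← tens_Pset]
    exact (hM₁ _).mp (hJ _) _

end Slots

variable {ι γ : Type} [Fintype ι] [DecidableEq ι] [Fintype γ] [DecidableEq γ] {F : Type u} [Field F]
  {ω : LinearMap.BilinForm F (γ → F)} {B : LinearMap.BilinForm F ((ι → γ) → F)} {X : Subgroup (GL (ι → γ) F)}
  {j : ι} {B₁ : LinearMap.BilinForm F ((Rest j → γ) → F)}

theorem cen_conj (hA : Alt ω) (hX : XJ ω B X j) {g : GL (ι → γ) F} (hg : g ∈ X)
    (a : ((Rest j → γ) → F) ≃ₗ[F] ((Rest j → γ) → F))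
    (hga : ∀ u z, (g : Matrix (ι → γ) (ι → γ) F) *ᵥ pair j u z = pair j (a u) z) {C : EndP (Rest j) γ F}
    (h : Cen ω X j C) : Cen ω X j (a.toLinearMap.comp (C.comp a.symm.toLinearMap)) := fun e he => by
  obtain ⟨k, hk, hky⟩ := h e he
  refine ⟨g * k * g⁻¹, mul_mem (mul_mem hg hk) (inv_mem hg), fun x => ?_⟩
  set y := ((g⁻¹ : GL (ι → γ) F) : Matrix (ι → γ) (ι → γ) F) *ᵥ x with hy
  have hcw : ∀ v, cwj ω j e ((g : Matrix (ι → γ) (ι → γ) F) *ᵥ v) = a (cwj ω j e v) := fun v =>
    DFunLike.congr_fun (ext_pair j (L := (cwj ω j e).comp (g : Matrix (ι → γ) (ι → γ) F).mulVecLin)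
      (L' := a.toLinearMap.comp (cwj ω j e)) fun u z => by
      show cwj ω j e ((g : Matrix (ι → γ) (ι → γ) F) *ᵥ pair j u z) = a (cwj ω j e (pair j u z))
      rw [hga, cwj_pair, cwj_pair, map_smul]) v
  rw [Units.val_mul, Units.val_mul, ← mulVec_mulVec, ← mulVec_mulVec, ← hy, hky, mulVec_add, hga]
  have hxy : x = (g : Matrix (ι → γ) (ι → γ) F) *ᵥ y := by rw [hy, mulVec_self_inv]
  rw [← hxy]
  show _ = x + pair j (a (C (a.symm (cwj ω j e x)))) e
  conv_rhs => rw [hxy, hcw, a.symm_apply_apply]
  rw [← hxy]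

variable [Finite F]

theorem cen_smul (hA : Alt ω) (R₁ : Rest1 ω B j B₁) (hX : XJ ω B X j) (h2 : (2 : F) ≠ 0) (c : F)
    {C : EndP (Rest j) γ F} (h : Cen ω X j C) : Cen ω X j (c • C) := by
  have sq : ∀ s : F, Cen ω X j ((s * s) • C) := by
    intro s e he
    by_cases hs : s = 0
    · exact ⟨1, one_mem X, fun x => by
        rw [Units.val_one, one_mulVec, hs, mul_zero, zero_smul, LinearMap.zero_apply, pair_zero_left, add_zero]⟩
    obtain ⟨b, ⟨g, hg, hgb⟩, hbe, hbi⟩ := inX_transitive hA hX he (smul_ne_zero hs he)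
    obtain ⟨k, hk, hky⟩ := h e he
    refine ⟨g * k * g⁻¹, mul_mem (mul_mem hg hk) (inv_mem hg), fun x => ?_⟩
    set y := ((g⁻¹ : GL (ι → γ) F) : Matrix (ι → γ) (ι → γ) F) *ᵥ x with hy
    have hcw : cwj ω j (b e) ((g : Matrix (ι → γ) (ι → γ) F) *ᵥ y) = cwj ω j e y :=
      DFunLike.congr_fun (ext_pair j (L := (cwj ω j (b e)).comp (g : Matrix (ι → γ) (ι → γ) F).mulVecLin)
        (L' := cwj ω j e) fun u z => by
        rw [LinearMap.comp_apply, Matrix.mulVecLin_apply, hgb, cwj_pair, cwj_pair, hbi]) y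
    rw [hy, mulVec_self_inv, hbe, cwj_smul] at hcw
    rw [Units.val_mul, Units.val_mul, ← mulVec_mulVec, ← mulVec_mulVec, ← hy, hky, mulVec_add, hgb, hbe]
    rw [show (g : Matrix (ι → γ) (ι → γ) F) *ᵥ y = x by rw [hy, mulVec_self_inv]]
    rw [show cwj ω j e y = _ from hcw.symm, map_smul, pair_smul_left, LinearMap.smul_apply, pair_smul_left, pair_smul_right, smul_smul]
  have := cen_add hA (sq ((c + 1) / 2)) (cen_neg hA (sq ((c - 1) / 2)))
  rwa [show ((c + 1) / 2 * ((c + 1) / 2)) • C + -(((c - 1) / 2 * ((c - 1) / 2)) • C) = c • C from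
    LinearMap.ext fun u => by
      rw [LinearMap.add_apply, LinearMap.neg_apply, LinearMap.smul_apply, LinearMap.smul_apply, LinearMap.smul_apply,
        ← sub_eq_add_neg, ← sub_smul,
        show (c + 1) / 2 * ((c + 1) / 2) - (c - 1) / 2 * ((c - 1) / 2) = c by field_simp; ring]] at this

theorem cen_zero : Cen ω X j (0 : EndP (Rest j) γ F) := fun e _ => ⟨1, one_mem X, fun x => by
  rw [Units.val_one, one_mulVec, LinearMap.zero_apply, pair_zero_left, add_zero]⟩

theorem cen_one (hA : Alt ω) (hX : XJ ω B X j) : Cen ω X j LinearMap.id := fun e _ => by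
  obtain ⟨g, hg, hgt⟩ := hX.tr e 1
  refine ⟨g, hg, fun x => ?_⟩
  refine DFunLike.congr_fun (ext_pair j (L := (g : Matrix (ι → γ) (ι → γ) F).mulVecLin)
    (L' := LinearMap.id + (pairL j e).comp (cwj ω j e)) fun u z => ?_) x
  show _ *ᵥ pair j u z = pair j u z + pair j (cwj ω j e (pair j u z)) e
  rw [hgt, cwj_pair, pair_smul_left, ← pair_smul_right, ← pair_add_right, one_mul]

theorem cen_selfAdj (hA : Alt ω) (R₁ : Rest1 ω B j B₁) (hX : XJ ω B X j) [Nonempty γ] {C : EndP (Rest j) γ F}
    (h : Cen ω X j C) : IsAdj B₁ C C := fun u v => by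
  obtain ⟨p⟩ := ‹Nonempty γ›
  have he : (Pi.single p (1 : F) : γ → F) ≠ 0 := by simp
  obtain ⟨f, hf⟩ := hA.exists_one he
  obtain ⟨k, hk, hky⟩ := h _ he
  have := hX.iso k hk (pair j u f) (pair j v f)
  rw [hky, hky, cwj_pair, cwj_pair, hf, one_smul, one_smul] at this
  simp only [map_add, LinearMap.add_apply, R₁.pair, hA.self, hA.skew f (Pi.single p 1), hf] at this
  linear_combination -this

theorem cen_jordan (hA : Alt ω) (R₁ : Rest1 ω B j B₁) (hX : XJ ω B X j) (hk : Fintype.card γ = 2) (h2 : (2 : F) ≠ 0)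
    {P D : EndP (Rest j) γ F} (hP : Cen ω X j P) (hsq : P.comp P = 0) (hD : Cen ω X j D) :
    Cen ω X j (P.comp D + D.comp P) := by
  haveI : Nonempty γ := Fintype.card_pos_iff.mp (by omega)
  obtain ⟨p⟩ := ‹Nonempty γ›
  have he : (Pi.single p (1 : F) : γ → F) ≠ 0 := by simp
  set e : γ → F := Pi.single p 1
  obtain ⟨f, hf⟩ := hA.exists_one he
  have hef : ω e f = -1 := by rw [hA.skew f e, hf]
  have hf0 : f ≠ 0 := fun h => by rw [h, map_zero, LinearMap.zero_apply] at hf; exact zero_ne_one hf
  have key : ∀ Q : EndP (Rest j) γ F, Cen ω X j Q → Q.comp Q = 0 →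
      Cen ω X j ((LinearMap.id + Q).comp (D.comp (LinearMap.id + Q))) := by
    intro Q hQ hQQ
    have hQQ' : ∀ u, Q (Q u) = 0 := fun u => DFunLike.congr_fun hQQ u
    have hw : ∀ C C' : EndP (Rest j) γ F, Cen ω X j C → Cen ω X j C' → C.comp C' = LinearMap.id →
        C'.comp C = LinearMap.id → ∃ g ∈ X, (∀ a, (g : Matrix (ι → γ) (ι → γ) F) *ᵥ pair j a e = -pair j (C' a) f) ∧
          ∀ b, (g : Matrix (ι → γ) (ι → γ) F) *ᵥ pair j b f = pair j (C b) e := by
      intro C C' hC hC' h1 h1'
      obtain ⟨k, hk', hky⟩ := hC e he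
      obtain ⟨l, hl', hly⟩ := hC' f hf0
      refine ⟨k * l * k, mul_mem (mul_mem hk' hl') hk', fun a => ?_, fun b => ?_⟩
      · rw [Units.val_mul, Units.val_mul, ← mulVec_mulVec, ← mulVec_mulVec, hky (pair j a e), cwj_line hA, map_zero, pair_zero_left,
          add_zero, hly, cwj_pair, hef, neg_smul, one_smul, map_neg, pair_neg_left, hky, map_add, cwj_line hA,
          map_neg, cwj_pair, hf, one_smul, zero_add, map_neg, pair_neg_left,
          show C (C' a) = a from DFunLike.congr_fun h1 a]
        abel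
      · rw [Units.val_mul, Units.val_mul, ← mulVec_mulVec, ← mulVec_mulVec, hky (pair j b f), cwj_pair, hf, one_smul, hly, map_add,
          cwj_pair, cwj_pair, hA.self, hef, zero_smul, zero_add, neg_smul, one_smul, map_neg, pair_neg_left,
          show C' (C b) = b from DFunLike.congr_fun h1' b, ← sub_eq_add_neg, add_sub_cancel_left, hky, cwj_line hA,
          map_zero, pair_zero_left, add_zero]
    have hinv1 : (LinearMap.id + Q).comp (LinearMap.id - Q) = LinearMap.id := LinearMap.ext fun u => by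
      simp [hQQ']
    have hinv2 : (LinearMap.id - Q).comp (LinearMap.id + Q) = LinearMap.id := LinearMap.ext fun u => by
      simp [hQQ']
    obtain ⟨g₁, hg₁, g₁e, g₁f⟩ := hw _ _ (cen_add hA (cen_one hA hX) hQ)
      (by rw [sub_eq_add_neg]; exact cen_add hA (cen_one hA hX) (cen_neg hA hQ)) hinv1 hinv2
    obtain ⟨g₀, hg₀, g₀e, g₀f⟩ := hw _ _ (cen_one hA hX) (cen_one hA hX) (LinearMap.id_comp _) (LinearMap.id_comp _)
    obtain ⟨k, hk', hky⟩ := hD e he
    set g := g₁ * g₀ with hg
    have hge : ∀ a, (g : Matrix (ι → γ) (ι → γ) F) *ᵥ pair j a e = -pair j ((LinearMap.id + Q : EndP (Rest j) γ F) a) e := fun a => by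
      rw [hg, Units.val_mul, ← mulVec_mulVec, g₀e, mulVec_neg, g₁f]
      rfl
    have hgf : ∀ b, (g : Matrix (ι → γ) (ι → γ) F) *ᵥ pair j b f = -pair j ((LinearMap.id - Q : EndP (Rest j) γ F) b) f := fun b => by
      rw [hg, Units.val_mul, ← mulVec_mulVec, g₀f, g₁e]
      rfl
    refine cen_of_one hA R₁ hX he ⟨g * k * g⁻¹, mul_mem (mul_mem (mul_mem hg₁ hg₀) hk')
      (inv_mem (mul_mem hg₁ hg₀)), fun x => ?_⟩
    set y := ((g⁻¹ : GL (ι → γ) F) : Matrix (ι → γ) (ι → γ) F) *ᵥ x with hy
    have hxy : x = (g : Matrix (ι → γ) (ι → γ) F) *ᵥ y := by rw [hy, mulVec_self_inv]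
    have hcw : cwj ω j e x = -((LinearMap.id - Q : EndP (Rest j) γ F) (cwj ω j e y)) := by
      rw [hxy]
      refine DFunLike.congr_fun (ext_pair j (L := (cwj ω j e).comp (g : Matrix (ι → γ) (ι → γ) F).mulVecLin)
        (L' := -((LinearMap.id - Q : EndP (Rest j) γ F).comp (cwj ω j e))) fun u z => ?_) y
      obtain ⟨a, b, rfl⟩ := span_two hA hk (e := e) (f := f) (by rw [hef]; exact neg_ne_zero.mpr one_ne_zero) z
      show cwj ω j e ((g : Matrix (ι → γ) (ι → γ) F) *ᵥ pair j u (a • e + b • f)) =
        -((LinearMap.id - Q : EndP (Rest j) γ F) (cwj ω j e (pair j u (a • e + b • f))))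
      rw [pair_add_right, pair_smul_right, pair_smul_right, mulVec_add, mulVec_smul, mulVec_smul, hge, hgf]
      simp [cwj_pair, hA.self, hf, cwj_line hA]
    rw [Units.val_mul, Units.val_mul, ← mulVec_mulVec, ← mulVec_mulVec, ← hy, hky, mulVec_add, hge, ← hxy, hcw]
    simp only [LinearMap.comp_apply, map_neg, pair_neg_left, LinearMap.add_apply, LinearMap.sub_apply,
      LinearMap.id_apply, map_add, map_sub, hQQ', sub_zero, sub_add_cancel, map_zero, add_zero, add_sub_cancel_right]
  have hn : (-P).comp (-P) = 0 := by rw [LinearMap.neg_comp, LinearMap.comp_neg, neg_neg, hsq]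
  have := cen_smul hA R₁ hX h2 (2 : F)⁻¹ (cen_add hA (key P hP hsq) (cen_neg hA (key (-P) (cen_neg hA hP) hn)))
  convert this using 1
  symm
  rw [inv_smul_eq_iff₀ h2]
  refine LinearMap.ext fun u => ?_
  simp only [LinearMap.add_apply, LinearMap.neg_apply, LinearMap.smul_apply, LinearMap.comp_apply,
    LinearMap.id_apply, map_add, map_neg]
  module

/-- Beyond the scalars every self-adjoint endomorphism is central in the radical. -/
theorem cen_all_two (T : TP ω B) (hk : Fintype.card γ = 2) (h2 : (2 : F) ≠ 0) (R₁ : Rest1 ω B j B₁)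
    (hX : ∀ i, XJ ω B X i)
    (hperm : ∀ a b c : Rest j, a ≠ b → a ≠ c → b ≠ c → ∃ g ∈ X,
      ∃ π : ((Rest j → γ) → F) ≃ₗ[F] ((Rest j → γ) → F),
        (∀ u z, (g : Matrix (ι → γ) (ι → γ) F) *ᵥ pair j u z = pair j (π u) z) ∧
        (∀ D, π.toLinearMap.comp (slotOp a D) = (slotOp b D).comp π.toLinearMap) ∧
          ∀ D, π.toLinearMap.comp (slotOp b D) = (slotOp c D).comp π.toLinearMap)
    (hS : ¬ RadScalar ω X j) {A : EndP (Rest j) γ F} (hAadj : IsAdj B₁ A A) : Cen ω X j A := by
  classical
  have hA := T.alt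
  haveI : Nonempty γ := Fintype.card_pos_iff.mp (by omega)
  obtain ⟨p, q, hpq⟩ := T.exists_pair
  have T' : TP ω B₁ := by
    obtain ⟨c, hc, hB⟩ := (T.rest (i := j) hpq).pure
    refine ⟨hA, c, hc, fun x y => ?_⟩
    have h1 := R₁.pair (pt x) (pt y) p q
    rw [pair_form T hpq, hpq, mul_one, mul_one] at h1
    rw [← h1, hB]
  let M : Submodule F (EndP (Rest j) γ F) :=
    { carrier := {C | Cen ω X j C}
      zero_mem' := cen_zero
      add_mem' := cen_add hA
      smul_mem' := fun c _ h => cen_smul hA R₁ (hX j) h2 c h }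
  have hMcj : ∀ l d t, ∀ C ∈ M, cj ω l d t C ∈ M := by
    intro l d t C hC
    obtain ⟨g, hg, hgt⟩ := (hX (l : ι)).tr d t
    have hinv : ∀ s : F, (slotOp l (transv ω d s)).comp (slotOp l (transv ω d (-s))) = LinearMap.id := fun s => by
      rw [slotOp_comp, transv_comp_neg hA, slotOp_id]
    let a : ((Rest j → γ) → F) ≃ₗ[F] ((Rest j → γ) → F) := LinearEquiv.ofLinearMap (slotOp l (transv ω d t))
      (slotOp l (transv ω d (-t))) (hinv t) (by simpa using hinv (-t))
    exact cen_conj hA (hX j) hg a (fun u z => tr_pair hgt u z) hC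
  have hJor : ∀ P D, P ∈ M → P.comp P = 0 → D ∈ M → P.comp D + D.comp P ∈ M := fun P D hP hsq hD =>
    cen_jordan hA R₁ (hX j) hk h2 hP hsq hD
  obtain ⟨C, hC, hns⟩ := (exists_nonscalar hA R₁ (hX j) hS).2 hk
  obtain ⟨J, hJ, hJ0⟩ := exists_Pset hA hk h2 M hMcj (show C ∈ M from hC) fun h => hns 0 (by rw [h, zero_smul])
  obtain ⟨a, ha⟩ : J.Nonempty := Finset.nonempty_iff_ne_empty.mpr fun h => by
    obtain ⟨c, hc⟩ := hJ0 h
    exact hns c hc
  obtain ⟨d, g, hdg⟩ := T.exists_pair
  have hd0 : d ≠ 0 := fun h0 => by rw [h0, map_zero, LinearMap.zero_apply] at hdg; exact zero_ne_one hdg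
  obtain ⟨b, hb, hab⟩ : ∃ b ∈ J, b ≠ a := by
    by_contra hc
    push Not at hc
    -- a single transvection is not self-adjoint
    have hP : Pset ω J (fun _ => d) = slotOp a (rk ω d d) := by
      rw [Pset, slotOp]
      congr 1
      funext l
      by_cases hl : l = a
      · subst hl; simp [ha]
      · rw [Function.update_of_ne hl, if_neg fun h => hl (hc l h)]
    have h1 := cen_selfAdj hA R₁ (hX j) (hJ fun _ => d)
    rw [hP] at h1
    have h2' := isAdj_slot T' a (D := rk ω d d) (Ds := -rk ω d d) (rk_adj hA d)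
    have e : slotOp a (rk ω d d) = -slotOp a (rk ω d d) := LinearMap.ext fun u => sub_eq_zero.mp (T'.nd fun y => by
      rw [map_sub, LinearMap.sub_apply, h1, ← h2', show slotOp a (-rk ω d d) = -slotOp a (rk ω d d) from
        (map_neg (slotOpₗ (γ := γ) (F := F) a) _), sub_self])
    have h3 := DFunLike.congr_fun e (pair a (pt fun _ => d) g)
    rw [LinearMap.neg_apply, slotOp_pair, eq_neg_iff_add_eq_zero, ← two_smul F, rk_apply,
      hA.skew d g, hdg, neg_one_smul, pair_neg_right, smul_neg, neg_eq_zero] at h3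
    exact pairR_ne_zero (pt_ne_zero fun _ => hd0) hd0 ((smul_eq_zero.mp h3).resolve_left h2)
  -- sums over swapped letters
  have hswap : ∀ s : Finset (Rest j), s ⊆ (J.erase a).erase b → ∀ x y : Rest j → γ → F, (∀ l, ω (x l) (y l) = 1) →
      kronOp (fun l => if l ∈ J ∧ l ∉ s then (rk ω (x l) (x l)).comp (rk ω (y l) (y l)) else LinearMap.id) +
      kronOp (fun l => if l ∈ J ∧ l ∉ s then (rk ω (y l) (y l)).comp (rk ω (x l) (x l)) else LinearMap.id) ∈ M := by
    intro s
    induction s using Finset.induction with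
    | empty =>
      intro _ x y _
      have := hJor _ _ (hJ x) (Pset_sq hA ha x) (hJ y)
      rw [Pset, Pset, kronOp_comp, kronOp_comp] at this
      convert this using 2 <;>
      · congr 1
        funext l
        by_cases hl : l ∈ J <;> simp [hl]
    | insert l s hl ih =>
      intro hsub x y hxy
      have hs : s ⊆ (J.erase a).erase b := fun m hm => hsub (Finset.mem_insert_of_mem hm)
      have hlJ : l ∈ J := Finset.mem_of_mem_erase (Finset.mem_of_mem_erase (hsub (Finset.mem_insert_self l s)))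
      have h1 := ih hs x y hxy
      have h2' := ih hs (Function.update x l (y l)) (Function.update y l (-x l)) fun m => by
        by_cases hm : m = l
        · subst hm; simp [hA.skew (x m) (y m), hxy m]
        · simp [hm, hxy]
      set f₁ : Rest j → (γ → F) →ₗ[F] (γ → F) := fun m =>
        if m ∈ J ∧ m ∉ insert l s then (rk ω (x m) (x m)).comp (rk ω (y m) (y m)) else LinearMap.id
      set f₂ : Rest j → (γ → F) →ₗ[F] (γ → F) := fun m =>
        if m ∈ J ∧ m ∉ insert l s then (rk ω (y m) (y m)).comp (rk ω (x m) (x m)) else LinearMap.id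
      set a₁ := (rk ω (x l) (x l)).comp (rk ω (y l) (y l))
      set a₂ := (rk ω (y l) (y l)).comp (rk ω (x l) (x l))
      have hneg : rk ω (-x l) (-x l) = rk ω (x l) (x l) := LinearMap.ext fun z => by simp [rk_apply]
      have e : ∀ (x' y' : Rest j → γ → F), (∀ m, m ≠ l → x' m = x m ∧ y' m = y m) →
          kronOp (fun m => if m ∈ J ∧ m ∉ s then (rk ω (x' m) (x' m)).comp (rk ω (y' m) (y' m)) else LinearMap.id) =
            kronUpd f₁ l ((rk ω (x' l) (x' l)).comp (rk ω (y' l) (y' l))) ∧
          kronOp (fun m => if m ∈ J ∧ m ∉ s then (rk ω (y' m) (y' m)).comp (rk ω (x' m) (x' m)) else LinearMap.id) =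
            kronUpd f₂ l ((rk ω (y' l) (y' l)).comp (rk ω (x' l) (x' l))) := fun x' y' hxy' => by
        constructor <;>
        · show kronOp _ = kronOp _
          congr 1
          funext m
          by_cases hm : m = l
          · subst hm; simp [hlJ, hl]
          · simp [f₁, f₂, hm, hxy' m hm]
      obtain ⟨e1, e2⟩ := e x y fun m _ => ⟨rfl, rfl⟩
      obtain ⟨e3, e4⟩ := e (Function.update x l (y l)) (Function.update y l (-x l))
        fun m hm => ⟨Function.update_of_ne hm _ _, Function.update_of_ne hm _ _⟩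
      rw [e1, e2] at h1
      rw [e3, e4, Function.update_self, Function.update_self, hneg] at h2'
      have h3 := M.neg_mem (M.add_mem h1 h2')
      rw [show -((kronUpd f₁ l a₁ + kronUpd f₂ l a₂) + (kronUpd f₁ l a₂ + kronUpd f₂ l a₁)) =
          kronUpd f₁ l (-(a₁ + a₂)) + kronUpd f₂ l (-(a₁ + a₂)) by
        simp only [map_neg, map_add]; abel, anticomm hA hk (hxy l), neg_neg] at h3
      convert h3 using 2 <;>
      · show kronOp _ = kronOp _
        congr 1
        funext m
        by_cases hm : m = l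
        · subst hm; simp [f₁, f₂]
        · simp [f₁, f₂, hm]
  -- a pair of slots
  let E : Rest j → Rest j → Prop := fun a b =>
    a ≠ b ∧ ∀ x y, (slotOp a (rk ω x x)).comp (slotOp b (rk ω y y)) ∈ M
  have hcomm : ∀ {a b : Rest j}, a ≠ b → ∀ D D' : (γ → F) →ₗ[F] (γ → F),
      (slotOp a D).comp (slotOp b D') = (slotOp b D').comp (slotOp a D) := fun {a b} h D D' => by
    rw [slotOp_ne_eq (i := b) h, ← tens_id b D', tens_comp, tens_comp]
    rfl
  have hab' : a ≠ b := Ne.symm hab
  have hE : E a b := by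
    refine ⟨hab', ?_⟩
    have h1 := hswap _ le_rfl (fun _ => d) (fun _ => g) fun _ => hdg
    set X₁ := (rk ω d d).comp (rk ω g g)
    set X₂ := (rk ω g g).comp (rk ω d d)
    have heq : ∀ X' : (γ → F) →ₗ[F] (γ → F),
        kronOp (fun l => if l ∈ J ∧ l ∉ (J.erase a).erase b then X' else LinearMap.id) =
          tens a (slotOp (⟨b, hab⟩ : Rest a) X') X' := fun X' => by
      refine ext_pair a fun u w => ?_
      rw [kronOp_pair, tens_pair, if_pos ⟨ha, by simp [hab']⟩]
      congr 2
      refine congrArg kronOp (funext fun l => ?_)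
      by_cases hl : (l : Rest j) = b
      · obtain rfl : l = ⟨b, hab⟩ := Subtype.ext hl
        simp [hb]
      · rw [Function.update_of_ne fun h => hl (congrArg Subtype.val h), if_neg]
        simp [hl, l.2]
    rw [heq, heq] at h1
    set m := d + g
    have hm0 : m ≠ 0 := fun h0 => by
      have h' := congrArg (fun z => ω z g) h0
      simp [m, hdg, hA.self] at h'
    have hX₁ : ω (X₁ m) m = -1 := by
      simp [X₁, m, rk_apply, hA.self, hdg, hA.skew d g]
    have hX₂ : ω (X₂ m) m = 1 := by
      simp [X₂, m, rk_apply, hA.self, hdg, hA.skew d g]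
    have h2' := root_coef hA h2 M hMcj h1 a m
    rw [show al ω a (tens a (slotOp (⟨b, hab⟩ : Rest a) X₁) X₁ + tens a (slotOp (⟨b, hab⟩ : Rest a) X₂) X₂) m m =
      ω (X₁ m) m • slotOp (⟨b, hab⟩ : Rest a) X₁ + ω (X₂ m) m • slotOp (⟨b, hab⟩ : Rest a) X₂ from by
        rw [← al_tens a _ X₁, ← al_tens a _ X₂]
        exact LinearMap.ext fun u => by simp [al_apply], hX₁, hX₂] at h2'
    -- the second slot
    have e3 : tens a ((-1 : F) • slotOp (⟨b, hab⟩ : Rest a) X₁ + (1 : F) • slotOp (⟨b, hab⟩ : Rest a) X₂)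
        (rk ω m m) = tens b (slotOp (⟨a, hab'⟩ : Rest b) (rk ω m m)) (X₂ - X₁) := by
      rw [show (-1 : F) • slotOp (⟨b, hab⟩ : Rest a) X₁ + (1 : F) • slotOp (⟨b, hab⟩ : Rest a) X₂ =
        slotOp (⟨b, hab⟩ : Rest a) (X₂ - X₁) by
          rw [show slotOp (⟨b, hab⟩ : Rest a) (X₂ - X₁) = _ from map_sub (slotOpₗ (γ := γ) (F := F) (⟨b, hab⟩ : Rest a)) _ _]
          show _ = slotOp _ X₂ - slotOp _ X₁
          module]
      calc tens a (slotOp (⟨b, hab⟩ : Rest a) (X₂ - X₁)) (rk ω m m)
          = (slotOp b (X₂ - X₁)).comp (slotOp a (rk ω m m)) := by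
            rw [slotOp_ne_eq (i := a) hab, ← tens_id a (rk ω m m), tens_comp]; rfl
        _ = (slotOp a (rk ω m m)).comp (slotOp b (X₂ - X₁)) := (hcomm hab' _ _).symm
        _ = _ := by rw [slotOp_ne_eq (i := b) hab', ← tens_id b (X₂ - X₁), tens_comp]; rfl
    rw [e3] at h2'
    have h3 := root_coef hA h2 M hMcj h2' b m
    rw [al_tens, LinearMap.sub_apply, map_sub, LinearMap.sub_apply, hX₁, hX₂, sub_neg_eq_add,
      show tens b (((1 : F) + 1) • slotOp (⟨a, hab'⟩ : Rest b) (rk ω m m)) (rk ω m m) =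
        ((1 : F) + 1) • tens b (slotOp (⟨a, hab'⟩ : Rest b) (rk ω m m)) (rk ω m m) from (tensL b _).map_smul _ _,
      one_add_one_eq_two] at h3
    have h4 := M.smul_mem (2 : F)⁻¹ h3
    rw [smul_smul, inv_mul_cancel₀ h2, one_smul] at h4
    have h5 : (slotOp a (rk ω m m)).comp (slotOp b (rk ω m m)) ∈ M := by
      rwa [slotOp_ne_eq (i := b) hab', ← tens_id b (rk ω m m), tens_comp, LinearMap.id_comp]
    intro x y
    have hy : ∀ z, tens b (slotOp (⟨a, hab'⟩ : Rest b) (rk ω m m)) (rk ω z z) ∈ M := tens_all hA hMcj hm0 h4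
    have h6 : tens a (slotOp (⟨b, hab⟩ : Rest a) (rk ω y y)) (rk ω m m) ∈ M := by
      have := hy y
      rwa [show tens b (slotOp (⟨a, hab'⟩ : Rest b) (rk ω m m)) (rk ω y y) =
        tens a (slotOp (⟨b, hab⟩ : Rest a) (rk ω y y)) (rk ω m m) from by
        calc tens b (slotOp (⟨a, hab'⟩ : Rest b) (rk ω m m)) (rk ω y y)
            = (slotOp a (rk ω m m)).comp (slotOp b (rk ω y y)) := by
              rw [slotOp_ne_eq (i := b) hab', ← tens_id b (rk ω y y), tens_comp]; rfl
          _ = (slotOp b (rk ω y y)).comp (slotOp a (rk ω m m)) := hcomm hab' _ _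
          _ = _ := by rw [slotOp_ne_eq (i := a) hab, ← tens_id a (rk ω m m), tens_comp]; rfl] at this
    have h7 := tens_all hA hMcj hm0 h6 x
    rw [hcomm hab']
    rwa [slotOp_ne_eq (i := a) hab, ← tens_id a (rk ω x x), tens_comp, LinearMap.id_comp]
  have hEsymm : ∀ {a b}, E a b → E b a := fun {a b} h =>
    ⟨h.1.symm, fun x y => by rw [hcomm h.1.symm]; exact h.2 y x⟩
  have hEtrans : ∀ {a b c}, E a b → E a c → b ≠ c → E b c := by
    intro a b c h h' hbc
    refine ⟨hbc, fun x y => ?_⟩
    have hsq : ((slotOp a (rk ω d d)).comp (slotOp b (rk ω x x))).comp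
        ((slotOp a (rk ω d d)).comp (slotOp b (rk ω x x))) = 0 := by
      rw [LinearMap.comp_assoc, ← LinearMap.comp_assoc (slotOp b _) (slotOp a _) (slotOp b _), ← hcomm h.1,
        LinearMap.comp_assoc, slotOp_comp, rk_self_comp hA, show slotOp b (0 : (γ → F) →ₗ[F] (γ → F)) = 0 from
          (slotOpₗ b).map_zero, LinearMap.comp_zero, LinearMap.comp_zero]
    have := M.neg_mem (hJor _ _ (h.2 d x) hsq (h'.2 g y))
    rwa [show -(((slotOp a (rk ω d d)).comp (slotOp b (rk ω x x))).comp ((slotOp a (rk ω g g)).comp (slotOp c (rk ω y y)))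
        + ((slotOp a (rk ω g g)).comp (slotOp c (rk ω y y))).comp ((slotOp a (rk ω d d)).comp (slotOp b (rk ω x x)))) =
        (slotOp b (rk ω x x)).comp (slotOp c (rk ω y y)) from by
      refine LinearMap.ext fun v => ?_
      have c1 : ∀ (D D' : (γ → F) →ₗ[F] (γ → F)) v, slotOp b D (slotOp a D' v) = slotOp a D' (slotOp b D v) :=
        fun D D' v => DFunLike.congr_fun (hcomm h.1.symm D D') v
      have c2 : ∀ (D D' : (γ → F) →ₗ[F] (γ → F)) v, slotOp c D (slotOp a D' v) = slotOp a D' (slotOp c D v) :=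
        fun D D' v => DFunLike.congr_fun (hcomm h'.1.symm D D') v
      have c3 : ∀ (D D' : (γ → F) →ₗ[F] (γ → F)) v, slotOp c D (slotOp b D' v) = slotOp b D' (slotOp c D v) :=
        fun D D' v => DFunLike.congr_fun (hcomm hbc.symm D D') v
      have hsum : ∀ w, slotOp a (rk ω d d) (slotOp a (rk ω g g) w) + slotOp a (rk ω g g) (slotOp a (rk ω d d) w) =
          -w := fun w => by
        rw [← LinearMap.comp_apply, ← LinearMap.comp_apply (f := slotOp a (rk ω g g)), slotOp_comp, slotOp_comp,
          ← LinearMap.add_apply, show slotOp a ((rk ω d d).comp (rk ω g g)) + slotOp a ((rk ω g g).comp (rk ω d d)) =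
            slotOp a ((rk ω d d).comp (rk ω g g) + (rk ω g g).comp (rk ω d d)) from ((slotOpₗ a).map_add _ _).symm,
          anticomm hA hk hdg, show slotOp a (-(LinearMap.id : (γ → F) →ₗ[F] (γ → F))) = -slotOp a LinearMap.id from
            (map_neg (slotOpₗ (γ := γ) (F := F) a) _), slotOp_id, LinearMap.neg_apply, LinearMap.id_apply]
      simp only [LinearMap.neg_apply, LinearMap.add_apply, LinearMap.comp_apply, c1, c2, c3]
      rw [hsum, neg_neg]] at this
  have hall : ∀ {c c'}, c ≠ c' → E c c' := by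
    have hone : ∀ c, c ≠ a → E a c := by
      intro c hca
      by_cases hcb : c = b
      · exact hcb ▸ hE
      obtain ⟨g', hg', π, hgπ, hπa, hπb⟩ := hperm a b c hab' (Ne.symm hca) (Ne.symm hcb)
      have hbc : E b c := by
        refine ⟨Ne.symm hcb, fun x y => ?_⟩
        have h1 : Cen ω X j _ := cen_conj hA (hX j) hg' π hgπ (hE.2 x y)
        show Cen ω X j _
        convert h1 using 1
        refine LinearMap.ext fun v => ?_
        have e1 := DFunLike.congr_fun (hπa (rk ω x x)) (slotOp b (rk ω y y) (π.symm v))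
        have e2 := DFunLike.congr_fun (hπb (rk ω y y)) (π.symm v)
        simp only [LinearMap.comp_apply, LinearEquiv.coe_coe] at e1 e2 ⊢
        rw [e1, e2, π.apply_symm_apply]
      exact hEtrans (hEsymm hE) hbc (Ne.symm hca)
    intro c c' h
    by_cases hc : c = a
    · exact hc ▸ hone c' fun h' => h (hc.trans h'.symm)
    by_cases hc' : c' = a
    · exact hc' ▸ hEsymm (hone c hc)
    exact hEtrans (hone c hc) (hone c' hc') h
  -- all even sets
  have heven : ∀ n : ℕ, ∀ K : Finset (Rest j), K.card = n → Even n → ∀ x, Pset ω K x ∈ M := by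
    intro n
    induction n using Nat.strong_induction_on with
    | _ n ih =>
      intro K hK hn x
      rcases Finset.eq_empty_or_nonempty K with rfl | ⟨c, hc⟩
      · simpa [Pset, kronOp_id] using (show (LinearMap.id : EndP (Rest j) γ F) ∈ M from cen_one hA (hX j))
      have h1 : (K.erase c).Nonempty := by
        rw [← Finset.card_pos, Finset.card_erase_of_mem hc]
        rcases hn with ⟨m, hm⟩
        have := Finset.card_pos.mpr ⟨c, hc⟩
        omega
      obtain ⟨c', hc'⟩ := h1
      have hcc' : c ≠ c' := (Finset.ne_of_mem_erase hc').symm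
      have hP := ih (n - 2) (by have := Finset.card_pos.mpr ⟨c, hc⟩; omega) ((K.erase c).erase c')
        (by rw [Finset.card_erase_of_mem hc', Finset.card_erase_of_mem hc, hK]; omega)
        (by rcases hn with ⟨m, hm⟩; exact ⟨m - 1, by omega⟩) x
      have hpair : (slotOp c (rk ω (x c) (x c))).comp (slotOp c' (rk ω (x c') (x c'))) =
          kronOp (fun l => if l = c ∨ l = c' then rk ω (x l) (x l) else LinearMap.id) := by
        rw [slotOp, slotOp, kronOp_comp]
        congr 1
        funext l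
        by_cases h : l = c
        · subst h; simp [hcc']
        · by_cases h' : l = c'
          · subst h'; simp [h]
          · simp [h, h']
      have := M.smul_mem (2 : F)⁻¹ (hJor _ _ ((hall hcc').2 (x c) (x c')) (by
        rw [hpair, kronOp_comp]
        refine ext_pt fun z => ?_
        rw [kronOp_pt, LinearMap.zero_apply]
        exact pt_eq_zero (i := c) (by simp [rk_self_comp hA])) hP)
      rw [hpair, Pset, kronOp_comp, kronOp_comp,
        show (fun l => (if l = c ∨ l = c' then rk ω (x l) (x l) else LinearMap.id).comp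
          (if l ∈ (K.erase c).erase c' then rk ω (x l) (x l) else LinearMap.id)) =
          fun l => if l ∈ K then rk ω (x l) (x l) else LinearMap.id from funext fun l => by
            by_cases h : l = c
            · subst h; simp [hc]
            · by_cases h' : l = c'
              · subst h'; simp [Finset.mem_of_mem_erase hc']
              · simp [h, h'],
        show (fun l => (if l ∈ (K.erase c).erase c' then rk ω (x l) (x l) else LinearMap.id).comp
          (if l = c ∨ l = c' then rk ω (x l) (x l) else LinearMap.id)) =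
          fun l => if l ∈ K then rk ω (x l) (x l) else LinearMap.id from funext fun l => by
            by_cases h : l = c
            · subst h; simp [hc]
            · by_cases h' : l = c'
              · subst h'; simp [Finset.mem_of_mem_erase hc']
              · simp [h, h'], ← two_smul F, smul_smul, inv_mul_cancel₀ h2, one_smul] at this
      exact this
  -- all self-adjoint elements
  let S : Submodule F (EndP (Rest j) γ F) :=
    { carrier := {Z | ∃ Zs, IsAdj B₁ Z Zs ∧ Z + Zs ∈ M}
      zero_mem' := ⟨0, fun u v => by simp, by rw [add_zero]; exact M.zero_mem⟩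
      add_mem' := fun {Z Z'} ⟨Zs, h, hm⟩ ⟨Zs', h', hm'⟩ => ⟨Zs + Zs', fun u v => by
          simp [h u v, h' u v], by rw [add_add_add_comm]; exact M.add_mem hm hm'⟩
      smul_mem' := fun r Z ⟨Zs, h, hm⟩ => ⟨r • Zs, fun u v => by simp [h u v], by
          rw [← smul_add]; exact M.smul_mem r hm⟩ }
  have hbase : ∀ (K : Finset (Rest j)) x, Pset ω K x ∈ S := by
    intro K x
    refine ⟨((-1) ^ K.card : F) • Pset ω K x, IsAdj.ext_pure fun z w => ?_, ?_⟩
    · obtain ⟨c, hc, hB⟩ := T'.pure
      rw [LinearMap.smul_apply, Pset, kronOp_pt, kronOp_pt, map_smul, LinearMap.smul_apply, hB, hB, smul_eq_mul,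
        mul_left_comm, show ((-1) ^ K.card : F) = ∏ l : Rest j, if l ∈ K then (-1 : F) else 1 by
          rw [Finset.prod_ite_mem, Finset.univ_inter, Finset.prod_const], ← Finset.prod_mul_distrib]
      refine congrArg (c * ·) (Finset.prod_congr rfl fun l _ => ?_)
      by_cases hl : l ∈ K
      · simp only [hl, if_true]
        rw [← rk_adj hA (x l), LinearMap.neg_apply, map_neg, LinearMap.neg_apply, neg_one_mul]
      · simp [hl]
    · rcases Nat.even_or_odd K.card with he | ho
      · rw [he.neg_one_pow, show (1 : F) • Pset ω K x = Pset ω K x from LinearMap.ext fun u => by simp]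
        exact M.add_mem (heven _ K rfl he x) (heven _ K rfl he x)
      · rw [ho.neg_one_pow, show (-1 : F) • Pset ω K x = -Pset ω K x from LinearMap.ext fun u => by simp, add_neg_cancel]
        exact M.zero_mem
  have hkron : ∀ (s : Finset (Rest j)) (D : Rest j → (γ → F) →ₗ[F] (γ → F)),
      (∀ l, l ∉ s → D l = LinearMap.id ∨ ∃ x, D l = rk ω x x) → kronOp D ∈ S := by
    intro s
    induction s using Finset.induction with
    | empty =>
      intro D hD
      have : ∀ l, ∃ x, D l = if D l = LinearMap.id then LinearMap.id else rk ω x x := fun l => by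
        by_cases h : D l = LinearMap.id
        · exact ⟨0, by rw [if_pos h, h]⟩
        · obtain ⟨x, hx⟩ := (hD l (Finset.notMem_empty l)).resolve_left h
          exact ⟨x, by rw [if_neg h, hx]⟩
      choose x hx using this
      have := hbase (univ.filter fun l => D l ≠ LinearMap.id) x
      convert this using 1
      rw [Pset]
      congr 1
      funext l
      rw [hx l]
      by_cases h : D l = LinearMap.id <;> simp [h, ← hx l]
    | insert l s hl ih =>
      intro D hD
      have := rk_two hA hk h2 (S.comap (kronUpd D l))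
        (ih _ fun m hm => by
          by_cases hml : m = l
          · subst hml; exact Or.inl (Function.update_self _ _ _)
          · rw [Function.update_of_ne hml]; exact hD m (by simp [hml, hm]))
        (fun z => ih _ fun m hm => by
          by_cases hml : m = l
          · subst hml; exact Or.inr ⟨z, Function.update_self _ _ _⟩
          · rw [Function.update_of_ne hml]; exact hD m (by simp [hml, hm])) (D l)
      have h' : kronOp (Function.update D l (D l)) ∈ S := this
      rwa [Function.update_eq_self] at h'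
  obtain ⟨du, hdu⟩ := exists_dual' hA
  have hAS : A ∈ S := by
    rw [show A = ∑ b, ∑ a, A (Pi.single b 1) a • kronOp (fun i => rk ω (du (b i)) (Pi.single (a i) 1)) from
      ext_pt fun x => by
        rw [LinearMap.sum_apply]
        conv_lhs => rw [pi_eq_sum_univ' (pt x), map_sum]
        refine Finset.sum_congr rfl fun b _ => ?_
        rw [map_smul, LinearMap.sum_apply]
        conv_lhs => rw [eq_sum_pt (A _), Finset.smul_sum]
        refine Finset.sum_congr rfl fun a _ => ?_
        rw [LinearMap.smul_apply, kronOp_pt, smul_smul, mul_comm, mul_smul]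
        congr 1
        funext q
        simp [pt, rk_apply, hdu, Finset.prod_mul_distrib]]
    exact Submodule.sum_mem _ fun b _ => Submodule.sum_mem _ fun a _ => S.smul_mem _ (hkron univ _ fun l h =>
      absurd (mem_univ l) h)
  obtain ⟨As, hAs, hAM⟩ := hAS
  have : As = A := LinearMap.ext fun u => sub_eq_zero.mp (T'.nd fun y => by
    rw [map_sub, LinearMap.sub_apply, hAs, hAadj, sub_self])
  rw [this] at hAM
  have h2A := M.smul_mem (2 : F)⁻¹ hAM
  rwa [← two_smul F, smul_smul, inv_mul_cancel₀ h2, one_smul] at h2A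

end Cfsg.Lib.Classical.TensorPow
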