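import Cfsg.Agent.Classical.TensorPow.Scalar
import Cfsg.Agent.Classical.TensorPow.Two

/-! The standard wreath subgroup: layer-preserving elements, slot transvections, factor permutations. -/

set_option autoImplicit false
set_option linter.unusedSectionVars false
set_option linter.unusedSimpArgs false
set_option linter.style.haveILetI false

namespace Cfsg.Lib.Classical.TensorPow

open Matrix Finset
open Cfsg.Lib.Classical.TensorQ (Alt rk transv rk_apply transv_apply)

universe u

variable {ι γ : Type} [Fintype ι] [DecidableEq ι] [Fintype γ] [DecidableEq γ] {F : Type u} [Field F]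
  {ω : LinearMap.BilinForm F (γ → F)} {B : LinearMap.BilinForm F ((ι → γ) → F)}

/-- An injective endomorphism is given by an invertible matrix. -/
theorem exists_gl {κ : Type} [Fintype κ] [DecidableEq κ] (L : (κ → F) →ₗ[F] (κ → F)) (h : Function.Injective L) :
    ∃ g : GL κ F, ∀ v, (g : Matrix κ κ F) *ᵥ v = L v := by
  have hdet : (LinearMap.toMatrix' L).det ≠ 0 := by
    refine ((Matrix.isUnit_iff_isUnit_det _).mp (Matrix.mulVec_injective_iff_isUnit.mp fun u v huv => h ?_)).ne_zero
    rwa [LinearMap.toMatrix'_mulVec, LinearMap.toMatrix'_mulVec] at huv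
  exact ⟨Matrix.GeneralLinearGroup.mkOfDetNeZero _ hdet, fun v => LinearMap.toMatrix'_mulVec L v⟩

theorem exists_isTr (hA : Alt ω) (j : ι) (d : γ → F) (t : F) : ∃ g : GL (ι → γ) F, IsTr ω j d t g := by
  obtain ⟨g, hg⟩ := exists_gl (slotOp j (transv ω d t)) fun u v huv => by
    have h : ∀ x, slotOp j (transv ω d (-t)) (slotOp j (transv ω d t) x) = x := fun x => by
      rw [← LinearMap.comp_apply, slotOp_comp]
      have := transv_comp_neg hA d (-t)
      rw [neg_neg] at this
      rw [this, slotOp_id, LinearMap.id_apply]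
    rw [← h u, huv, h]
  exact ⟨g, fun u w => by rw [hg, slotOp_pair, transv_apply]⟩

/-- The permutation of the factors, on tensors. -/
def pperm (σ : Equiv.Perm ι) : ((ι → γ) → F) →ₗ[F] ((ι → γ) → F) where
  toFun v a := v fun i => a (σ i)
  map_add' _ _ := rfl
  map_smul' _ _ := rfl

theorem pperm_pt (σ : Equiv.Perm ι) (x : ι → γ → F) : pperm σ (pt x) = pt fun i => x (σ.symm i) := funext fun a => by
  show ∏ i, x i (a (σ i)) = ∏ i, x (σ.symm i) (a i)
  exact Fintype.prod_equiv σ _ _ fun i => by rw [Equiv.symm_apply_apply]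

theorem pperm_comp_symm (σ : Equiv.Perm ι) (v : (ι → γ) → F) : pperm σ.symm (pperm σ v) = v :=
  funext fun a => by
    show v (fun i => a (σ.symm (σ i))) = v a
    exact congrArg v (funext fun i => by rw [Equiv.symm_apply_apply])

/-- The permutation of the factors, as an element of `GL`. -/
theorem exists_permGL (σ : Equiv.Perm ι) :
    ∃ g : GL (ι → γ) F, (∀ v, (g : Matrix (ι → γ) (ι → γ) F) *ᵥ v = pperm σ v) ∧
      ∀ x y : ι → γ, (g : Matrix (ι → γ) (ι → γ) F) x y = if y = x ∘ σ then 1 else 0 := by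
  obtain ⟨g, hg⟩ := exists_gl (pperm (γ := γ) (F := F) σ) fun u v huv => by
    rw [← pperm_comp_symm σ u, huv, pperm_comp_symm]
  refine ⟨g, hg, fun x y => ?_⟩
  have h : (g : Matrix (ι → γ) (ι → γ) F) x y = ((g : Matrix (ι → γ) (ι → γ) F) *ᵥ Pi.single y 1) x := by
    simp [Matrix.mulVec_single]
  rw [h, hg]
  show (Pi.single y (1 : F) : (ι → γ) → F) (fun i => x (σ i)) = _
  rw [Pi.single_apply]
  exact if_congr ⟨fun e => e.symm, fun e => e.symm⟩ rfl rfl

theorem lp_of_pt {g : GL (ι → γ) F} (σ : Equiv.Perm ι) (a : ι → (γ → F) →ₗ[F] (γ → F))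
    (hinj : ∀ i v, a i v = 0 → v = 0)
    (hg : ∀ x, (g : Matrix (ι → γ) (ι → γ) F) *ᵥ pt x = pt (fun i => a i (x (σ i)))) : LP g := by
  intro l e he
  refine ⟨σ.symm l, a (σ.symm l) e, fun h => he (hinj _ _ h), fun v hv => ?_⟩
  obtain ⟨u, rfl⟩ := hv
  have := pair_left_ext (j := l) e
    (L := (lay (σ.symm l) (a (σ.symm l) e)).mkQ.comp (g : Matrix (ι → γ) (ι → γ) F).mulVecLin) (L' := 0)
    (fun x => by
      set z : ι → γ → F := fun i => if h : i = l then e else x ⟨i, h⟩ with hz
      have hzl : z l = e := by simp [hz]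
      have hzp : pt z = pair l (pt x) e := by
        rw [pt_eq_pair l, hzl]
        congr 2
        funext i
        simp [hz, i.2]
      rw [← hzp, LinearMap.comp_apply, Matrix.mulVecLin_apply, hg, Submodule.mkQ_apply, LinearMap.zero_apply,
        Submodule.Quotient.mk_eq_zero]
      have := pt_mem_lay (x := fun i => a i (z (σ i))) (σ.symm l)
      rwa [show z (σ (σ.symm l)) = e by rw [Equiv.apply_symm_apply, hzl]] at this) u
  rwa [LinearMap.comp_apply, LinearMap.zero_apply, Submodule.mkQ_apply, Submodule.Quotient.mk_eq_zero] at this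

theorem lp_of_perm {g : GL (ι → γ) F} (σ : Equiv.Perm ι)
    (hg : ∀ v, (g : Matrix (ι → γ) (ι → γ) F) *ᵥ v = pperm σ v) : LP g :=
  lp_of_pt σ.symm (fun _ => LinearMap.id) (fun _ _ h => h) fun x => by rw [hg, pperm_pt]; rfl

theorem TP.pperm_isometry (T : TP ω B) (σ : Equiv.Perm ι) (u v : (ι → γ) → F) : B (pperm σ u) (pperm σ v) = B u v := by
  obtain ⟨c, hc, hB⟩ := T.pure
  refine DFunLike.congr_fun (DFunLike.congr_fun (ext_pt (L := LinearMap.compl₁₂ B (pperm σ) (pperm σ)) (L' := B)
    fun x => ext_pt fun y => ?_) u) v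
  show B (pperm σ (pt x)) (pperm σ (pt y)) = B (pt x) (pt y)
  rw [pperm_pt, pperm_pt, hB, hB]
  congr 1
  exact Fintype.prod_equiv σ.symm _ _ fun i => rfl

/-- A permutation fixing `j` acts on the other factors, moving the slot operators. -/
theorem exists_perm_rest (j : ι) (σ : Equiv.Perm ι) (hσ : σ j = j) :
    ∃ π : ((Rest j → γ) → F) ≃ₗ[F] ((Rest j → γ) → F),
      (∀ u z, pperm σ (pair j u z) = pair j (π u) z) ∧
        ∀ l l' : Rest j, σ l = l' → ∀ D, π.toLinearMap.comp (slotOp l D) = (slotOp l' D).comp π.toLinearMap := by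
  set ρ : Equiv.Perm (Rest j) := σ.subtypePerm fun i => by
    constructor
    · intro hi h
      exact hi (by rw [h, hσ])
    · intro hi h
      exact hi (σ.injective (h.trans hσ.symm)) with hρ
  have hρ' : ∀ i : Rest j, (ρ i : ι) = σ i := fun i => rfl
  refine ⟨LinearEquiv.ofLinearMap (pperm ρ) (pperm ρ.symm)
    (LinearMap.ext fun v => by rw [LinearMap.comp_apply]; exact pperm_comp_symm ρ.symm v)
    (LinearMap.ext fun v => by rw [LinearMap.comp_apply]; exact pperm_comp_symm ρ v), fun u z => funext fun a => ?_,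
    fun l l' hl D => ext_pt fun x => ?_⟩
  · show pair j u z (fun i => a (σ i)) = pair j (pperm ρ u) z a
    rw [pair_apply, pair_apply, hσ]
    rfl
  · show pperm ρ (slotOp l D (pt x)) = slotOp l' D (pperm ρ (pt x))
    rw [slotOp, slotOp, kronOp_pt, pperm_pt, pperm_pt, kronOp_pt]
    congr 1
    funext i
    have h' : ρ l = l' := Subtype.ext hl
    by_cases hi : i = l'
    · subst hi
      rw [← h', Equiv.symm_apply_apply, Function.update_self, Function.update_self]
    · rw [Function.update_of_ne hi, Function.update_of_ne fun h => hi (by rw [← h', ← h, Equiv.apply_symm_apply])]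

/-- A group whose radicals are scalar permutes the layers. -/
theorem lp_of_radScalar [Fintype F] (T : TP ω B)
    (hk : 4 ≤ Fintype.card γ ∨ Fintype.card γ = 2 ∧ ∃ s : F, s ≠ 0 ∧ s * s ≠ 1)
    (hchar : (2 : F) ≠ 0 ∨ 4 ≤ Fintype.card γ) (hq : 4 / Fintype.card γ + 1 < Fintype.card F)
    {X : Subgroup (GL (ι → γ) F)} (hX : ∀ j, XJ ω B X j) (hR : ∀ j, RadScalar ω X j) {g : GL (ι → γ) F}
    (hg : g ∈ X) : LP g := by
  cases isEmpty_or_nonempty ι with
  | inl h => exact fun j => isEmptyElim j
  | inr h =>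
    exact lp_of_split (by rcases hk with h | ⟨h, -⟩ <;> omega) hchar hq T
      ⟨fun h hh => ⟨1, one_ne_zero, fun u v => by rw [(hX (Classical.arbitrary ι)).iso h hh, one_mul]⟩,
        fun j => (hX j).tr, fun j _ he _ hh hs => split_of_radScalar T hk (hX j) (hR j) he hh hs⟩ hg

theorem tensorWreathStandard_eq [Finite F] {k t : ℕ} (hk : 2 ≤ k) (ht : 1 ≤ t) :
    Cfsg.Geo.tensorWreathStandard k t F = lpSubgroup (Fin t) (Fin k) F := by
  haveI : Nonempty (Fin t) := ⟨⟨0, ht⟩⟩
  haveI : Nonempty (Fin k) := ⟨⟨0, by omega⟩⟩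
  refine le_antisymm ((Subgroup.closure_le _).mpr fun g hg => ?_) fun g hg => ?_
  · rcases hg with ⟨gs, hgs⟩ | ⟨σ, hσ⟩
    · refine lp_of_pt 1 (fun i => (gs i : Matrix (Fin k) (Fin k) F).mulVecLin) (fun i v h => ?_) fun x => ?_
      · exact Matrix.mulVec_injective_of_isUnit (gs i).isUnit (h.trans (mulVec_zero _).symm)
      · funext a
        simp only [Matrix.mulVec, dotProduct, hgs, pt, Matrix.mulVecLin_apply, Equiv.Perm.one_apply,
          ← Finset.prod_mul_distrib]
        rw [Finset.prod_univ_sum, Fintype.piFinset_univ]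
    · obtain ⟨g', hg', hm⟩ := exists_permGL (γ := Fin k) (F := F) σ
      rw [show g = g' from Units.ext (Matrix.ext fun x y => by rw [hσ, hm])]
      exact lp_of_perm σ hg'
  · obtain ⟨σ, a, ha⟩ := LP.structure (hg : LP g) (by rwa [Fintype.card_fin])
    have hainj : ∀ i, Function.Injective (a i) := fun i => by
      rw [← LinearMap.ker_eq_bot, LinearMap.ker_eq_bot']
      intro v hv
      by_contra hv0
      set x : Fin t → Fin k → F := Function.update (fun _ => fun _ => 1) (σ i) v
      have hx : pt x ≠ 0 := pt_ne_zero fun l => by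
        by_cases hl : l = σ i
        · subst hl; simpa [x] using hv0
        · simp only [x, Function.update_of_ne hl]
          exact fun h => one_ne_zero (congrFun h ⟨0, by omega⟩)
      refine hx (Matrix.mulVec_injective_of_isUnit g.isUnit ?_)
      show _ *ᵥ pt x = _ *ᵥ (0 : (Fin t → Fin k) → F)
      rw [mulVec_zero, ha, pt_eq_zero (i := i)]
      simpa [x] using hv
    choose A hA using fun i => exists_gl (a i) (hainj i)
    obtain ⟨P, hP, hPm⟩ := exists_permGL (γ := Fin k) (F := F) σ.symm
    have hPmem : P ∈ Cfsg.Geo.tensorWreathStandard k t F := Subgroup.subset_closure (Or.inr ⟨σ.symm, hPm⟩)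
    have hrest : g * P⁻¹ ∈ Cfsg.Geo.tensorWreathStandard k t F := by
      refine Subgroup.subset_closure (Or.inl ⟨A, fun x y => ?_⟩)
      have hv : ((g * P⁻¹ : GL (Fin t → Fin k) F) : Matrix (Fin t → Fin k) (Fin t → Fin k) F) *ᵥ
          pt (fun i => Pi.single (y i) 1) = pt fun i => a i (Pi.single (y i) 1) := by
        have h0 : ((P⁻¹ : GL (Fin t → Fin k) F) : Matrix (Fin t → Fin k) (Fin t → Fin k) F) *ᵥ
            pt (fun i => Pi.single (y i) (1 : F)) = pt fun i => Pi.single (y (σ.symm i)) 1 := by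
          refine (Matrix.mulVec_injective_of_isUnit P.isUnit ?_)
          show _ *ᵥ _ = _ *ᵥ _
          rw [mulVec_self_inv, hP, pperm_pt]
          simp
        rw [Units.val_mul, ← mulVec_mulVec, h0, ha]
        simp
      have e := congrFun hv x
      rw [pt_single, Matrix.mulVec_single] at e
      simp only [MulOpposite.op_one, one_smul, Matrix.col_apply] at e
      rw [e, pt]
      refine Finset.prod_congr rfl fun i _ => ?_
      rw [← hA, Matrix.mulVec_single]
      simp
    simpa using mul_mem hrest hPmem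

end Cfsg.Lib.Classical.TensorPow
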